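import Mathlib.GroupTheory.IsSubnormal
import Mathlib.GroupTheory.SchurZassenhaus
import Cfsg.Agent.Lib.SylowCount.Coprime

/-!
# Groups in which normalisers of biprimary subgroups are maximal: elementary tools

`Two H`: the order of `H` has at most two prime divisors.
`NM G`: the normaliser of every nontrivial such subgroup is maximal.
-/

set_option autoImplicit false
set_option linter.style.haveILetI false
set_option linter.unusedSectionVars false

namespace Cfsg.Agent.MaxNormalizer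

open Subgroup
open scoped Pointwise

variable {G : Type*} [Group G]

/-- At most two primes divide the order. -/
def Two (H : Subgroup G) : Prop :=
  ∃ p q : ℕ, p.Prime ∧ q.Prime ∧ ∀ r : ℕ, r.Prime → r ∣ Nat.card H → r = p ∨ r = q

/-- Every nontrivial biprimary subgroup has a maximal normaliser. -/
def NM (G : Type*) [Group G] : Prop :=
  ∀ H : Subgroup G, H ≠ ⊥ → Two H → IsCoatom (normalizer (H : Set G))

/-- The normaliser of the cyclic subgroup generated by an element. -/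
abbrev nz (x : G) : Subgroup G := normalizer (zpowers x : Set G)

/-- The centraliser of an element. -/
abbrev cen (x : G) : Subgroup G := centralizer ({x} : Set G)

theorem mem_cen {x c : G} : c ∈ cen x ↔ c * x = x * c := mem_centralizer_singleton_iff

theorem mem_cen_comm {x c : G} (h : c ∈ cen x) : x ∈ cen c := mem_cen.2 (mem_cen.1 h).symm

theorem mem_cen_iff_conj {x c : G} : c ∈ cen x ↔ c * x * c⁻¹ = x := by
  rw [mem_cen, mul_inv_eq_iff_eq_mul]

theorem mem_cen_conj {g x c : G} : c ∈ cen (g * x * g⁻¹) ↔ g⁻¹ * c * g ∈ cen x := by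
  rw [mem_cen, mem_cen]
  constructor
  · intro h
    calc g⁻¹ * c * g * x = g⁻¹ * (c * (g * x * g⁻¹)) * g := by group
      _ = g⁻¹ * ((g * x * g⁻¹) * c) * g := by rw [h]
      _ = x * (g⁻¹ * c * g) := by group
  · intro h
    calc c * (g * x * g⁻¹) = g * (g⁻¹ * c * g * x) * g⁻¹ := by group
      _ = g * (x * (g⁻¹ * c * g)) * g⁻¹ := by rw [h]
      _ = g * x * g⁻¹ * c := by group

variable [Finite G]

theorem mem_normalizer_of_conj {H : Subgroup G} {g : G} (h : ∀ a ∈ H, g * a * g⁻¹ ∈ H) :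
    g ∈ normalizer (H : Set G) :=
  mem_normalizer_fintype fun a ha => h a ha

theorem conj_mem_of_mem_normalizer {H : Subgroup G} {g a : G} (hg : g ∈ normalizer (H : Set G))
    (ha : a ∈ H) : g * a * g⁻¹ ∈ H := (mem_normalizer_iff.1 hg a).1 ha

theorem mem_nz {x g : G} : g ∈ nz x ↔ g * x * g⁻¹ ∈ zpowers x := by
  refine ⟨fun h => conj_mem_of_mem_normalizer h (mem_zpowers x), fun h => ?_⟩
  refine mem_normalizer_of_conj fun a ha => ?_
  obtain ⟨i, rfl⟩ := mem_zpowers_iff.1 ha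
  rw [← conj_zpow]
  exact zpow_mem h i

theorem cen_le_nz (x : G) : cen x ≤ nz x := fun c hc =>
  mem_nz.2 (by rw [mem_cen_iff_conj.1 hc]; exact mem_zpowers x)

theorem nz_le_nz {x y : G} (hy : y ∈ zpowers x) : nz x ≤ nz y := fun g hg => by
  rw [mem_nz] at hg ⊢
  obtain ⟨j, rfl⟩ := mem_zpowers_iff.1 hy
  obtain ⟨i, hi⟩ := mem_zpowers_iff.1 hg
  refine mem_zpowers_iff.2 ⟨i, ?_⟩
  rw [← conj_zpow, ← hi, ← zpow_mul, ← zpow_mul, mul_comm]

theorem nz_eq_cen_of_sq {t : G} (ht : orderOf t = 2) : nz t = cen t := by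
  refine le_antisymm (fun g hg => ?_) (cen_le_nz t)
  classical
  rw [mem_nz, mem_zpowers_iff_mem_range_orderOf, ht] at hg
  rw [mem_cen_iff_conj]
  simp only [Finset.range_add_one, Finset.range_zero, Finset.image_insert, Finset.image_empty,
    pow_one, pow_zero, Finset.mem_insert, Finset.notMem_empty, or_false] at hg
  rcases hg with h | h
  · exact h
  · rw [conj_eq_one_iff] at h
    rw [h, orderOf_one] at ht
    omega

/-! ### Two -/

theorem Two.of_le {H K : Subgroup G} (h : K ≤ H) (hH : Two H) : Two K := by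
  obtain ⟨p, q, hp, hq, hr⟩ := hH
  exact ⟨p, q, hp, hq, fun r hr' hd => hr r hr' (hd.trans (card_dvd_of_le h))⟩

theorem Two.map {H : Subgroup G} (hH : Two H) {G' : Type*} [Group G'] (f : G →* G') :
    Two (H.map f) := by
  obtain ⟨p, q, hp, hq, hr⟩ := hH
  exact ⟨p, q, hp, hq, fun r hr' hd => hr r hr' (hd.trans (card_map_dvd H f))⟩

theorem prime_eq_of_dvd_pGroup {p r : ℕ} (hp : p.Prime) (hr : r.Prime) {H : Subgroup G}
    (hH : IsPGroup p H) (hd : r ∣ Nat.card H) : r = p := by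
  haveI := Fact.mk hp
  obtain ⟨n, hn⟩ := IsPGroup.iff_card.1 hH
  exact (Nat.prime_dvd_prime_iff_eq hr hp).1 (hr.dvd_of_dvd_pow (hn ▸ hd))

theorem two_of_pGroup {p : ℕ} (hp : p.Prime) {H : Subgroup G} (hH : IsPGroup p H) : Two H :=
  ⟨p, p, hp, hp, fun _ hr hd => Or.inl (prime_eq_of_dvd_pGroup hp hr hH hd)⟩

theorem isPGroup_zpowers {p n : ℕ} {x : G} (h : orderOf x ∣ p ^ n) : IsPGroup p (zpowers x) := by
  intro a
  refine ⟨n, ?_⟩
  obtain ⟨i, hi⟩ := mem_zpowers_iff.1 a.2
  apply Subtype.ext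
  rw [SubgroupClass.coe_pow, OneMemClass.coe_one, ← hi, ← zpow_natCast, ← zpow_mul, mul_comm,
    zpow_mul, zpow_natCast, orderOf_dvd_iff_pow_eq_one.1 h, one_zpow]

theorem isPGroup_zpowers_prime {p : ℕ} {x : G} (h : orderOf x = p) : IsPGroup p (zpowers x) :=
  isPGroup_zpowers (n := 1) (by rw [h, pow_one])

theorem isPGroup_zpowers_mem {p : ℕ} {H : Subgroup G} (hH : IsPGroup p H) {x : G} (hx : x ∈ H) :
    IsPGroup p (zpowers x) := hH.to_le (zpowers_le.2 hx)

theorem zpowers_ne_bot_of_ne {x : G} (h : x ≠ 1) : zpowers x ≠ ⊥ := by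
  simpa using h

/-- An element of `A ⊔ B` of order prime to `|B|` lies in `A`, when `B` normalises `A`. -/
theorem mem_of_coprime {A B : Subgroup G} (hBA : B ≤ normalizer (A : Set G)) {y : G}
    (hy : y ∈ A ⊔ B) (hc : (orderOf y).Coprime (Nat.card B)) : y ∈ A := by
  haveI hn : (A.subgroupOf (A ⊔ B)).Normal :=
    normal_subgroupOf_of_le_normalizer (sup_le le_normalizer hBA)
  have hy' : y ∈ ((A : Set G) * (B : Set G)) := by
    rw [← coe_mul_of_right_le_normalizer_left A B hBA]; exact hy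
  obtain ⟨a, ha, b, hb, rfl⟩ := hy'
  let φ := QuotientGroup.mk' (A.subgroupOf (A ⊔ B))
  let yy : ↥(A ⊔ B) := ⟨a * b, hy⟩
  let bb : ↥(A ⊔ B) := ⟨b, (le_sup_right : B ≤ A ⊔ B) hb⟩
  have hφ : φ yy = φ bb := by
    refine (QuotientGroup.eq).2 ?_
    rw [mem_subgroupOf]
    show (a * b)⁻¹ * b ∈ A
    have := (mem_normalizer_iff.1 ((normalizer (A : Set G)).inv_mem (hBA hb)) a⁻¹).1 (inv_mem ha)
    simpa [mul_assoc] using this
  have h1 : orderOf (φ yy) ∣ orderOf (a * b) := by
    refine (orderOf_map_dvd φ yy).trans ?_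
    rw [← orderOf_coe yy]
  have h2 : orderOf (φ bb) ∣ Nat.card B := by
    refine (orderOf_map_dvd φ bb).trans ?_
    rw [← orderOf_coe bb]
    exact orderOf_dvd_natCard _ hb
  rw [← hφ] at h2
  have h3 : φ yy = 1 := orderOf_eq_one_iff.1 (Nat.eq_one_of_dvd_coprimes hc h1 h2)
  exact (QuotientGroup.eq_one_iff yy).1 h3

theorem coprime_of_pGroups {p q : ℕ} (hp : p.Prime) (hq : q.Prime) (hne : p ≠ q) {A B : Subgroup G}
    (hA : IsPGroup p A) (hB : IsPGroup q B) {y : G} (hy : y ∈ A) :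
    (orderOf y).Coprime (Nat.card B) := by
  haveI := Fact.mk hp
  haveI := Fact.mk hq
  obtain ⟨m, hm⟩ := IsPGroup.iff_card.1 hA
  obtain ⟨n, hn⟩ := IsPGroup.iff_card.1 hB
  rw [hn]
  exact Nat.Coprime.coprime_dvd_left (hm ▸ orderOf_dvd_natCard A hy)
    (Nat.Coprime.pow m n ((Nat.coprime_primes hp hq).2 hne))

theorem two_sup {p q : ℕ} (hp : p.Prime) (hq : q.Prime) {A B : Subgroup G}
    (hA : IsPGroup p A) (hB : IsPGroup q B) (hBA : B ≤ normalizer (A : Set G)) : Two (A ⊔ B) := by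
  refine ⟨p, q, hp, hq, fun r hr hd => ?_⟩
  haveI := Fact.mk hr
  haveI := Fact.mk hq
  by_contra hne
  push Not at hne
  obtain ⟨⟨y, hy⟩, hy'⟩ := exists_prime_orderOf_dvd_card' r hd
  rw [orderOf_mk] at hy'
  obtain ⟨n, hn⟩ := IsPGroup.iff_card.1 hB
  have hyA := mem_of_coprime hBA hy (by
    rw [hy', hn]; exact Nat.Coprime.pow_right n ((Nat.coprime_primes hr hq).2 hne.2))
  exact hne.1 (prime_eq_of_dvd_pGroup hp hr hA (hy' ▸ orderOf_dvd_natCard A hyA))

theorem conj_mem_left_of_sup {p q : ℕ} (hp : p.Prime) (hq : q.Prime) (hne : p ≠ q)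
    {A B : Subgroup G} (hA : IsPGroup p A) (hB : IsPGroup q B)
    (hBA : B ≤ normalizer (A : Set G)) :
    normalizer ((A ⊔ B : Subgroup G) : Set G) ≤ normalizer (A : Set G) := by
  intro g hg
  refine mem_normalizer_of_conj fun a ha => ?_
  refine mem_of_coprime hBA (conj_mem_of_mem_normalizer hg ((le_sup_left : A ≤ A ⊔ B) ha)) ?_
  rw [show orderOf (g * a * g⁻¹) = orderOf a from
    orderOf_injective (MulAut.conj g).toMonoidHom (MulAut.conj g).injective a]
  exact coprime_of_pGroups hp hq hne hA hB ha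

theorem Two.isSolvable {H : Subgroup G} (h : Two H) : Group.IsSolvable H := by
  obtain ⟨p, q, hp, hq, hr⟩ := h
  refine SylowCount.isSolvable_of_primeFactors_card_le_two ?_
  refine (Finset.card_le_card (s := (Nat.card H).primeFactors) (t := ({p, q} : Finset ℕ))
    fun r hrm => ?_).trans Finset.card_le_two
  obtain ⟨h1, h2, -⟩ := Nat.mem_primeFactors.1 hrm
  simpa using hr r h1 h2

/-- A group whose order divides `2 ^ a * 3 ^ b` is solvable. -/
theorem isSolvable_of_card_dvd {Y : Type*} [Group Y] [Finite Y] {a b : ℕ}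
    (h : Nat.card Y ∣ 2 ^ a * 3 ^ b) : Group.IsSolvable Y := by
  refine SylowCount.isSolvable_of_primeFactors_card_le_two ?_
  refine (Finset.card_le_card (t := ({2, 3} : Finset ℕ)) fun r hr => ?_).trans Finset.card_le_two
  obtain ⟨h1, h2, -⟩ := Nat.mem_primeFactors.1 hr
  rcases (h1.dvd_mul).1 (h2.trans h) with e | e
  · simp [(Nat.prime_dvd_prime_iff_eq h1 Nat.prime_two).1 (h1.dvd_of_dvd_pow e)]
  · simp [(Nat.prime_dvd_prime_iff_eq h1 Nat.prime_three).1 (h1.dvd_of_dvd_pow e)]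

/-! ### Consequences of `NM` -/

section

variable (hNM : NM G)
include hNM

theorem NM.eq_of_le {H K : Subgroup G} (hH : H ≠ ⊥) (hK : K ≠ ⊥) (h2H : Two H) (h2K : Two K)
    (hle : normalizer (H : Set G) ≤ normalizer (K : Set G)) :
    normalizer (H : Set G) = normalizer (K : Set G) := by
  by_contra hne
  exact (hNM K hK h2K).1 ((hNM H hH h2H).2 _ (lt_of_le_of_ne hle hne))

theorem NM.eq_top_or_eq {H : Subgroup G} (hH : H ≠ ⊥) (h2H : Two H) {M : Subgroup G}
    (hle : normalizer (H : Set G) ≤ M) : M = ⊤ ∨ M = normalizer (H : Set G) := by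
  rcases hle.lt_or_eq with h | h
  · exact Or.inl ((hNM H hH h2H).2 _ h)
  · exact Or.inr h.symm

/-- Commuting subgroups of coprime prime power orders have one normaliser. -/
theorem NM.nz_eq_of_commute {p q : ℕ} (hp : p.Prime) (hq : q.Prime) (hne : p ≠ q)
    {A B : Subgroup G} (hA : IsPGroup p A) (hB : IsPGroup q B) (hA1 : A ≠ ⊥) (hB1 : B ≠ ⊥)
    (hc : B ≤ centralizer (A : Set G)) :
    normalizer (A : Set G) = normalizer (B : Set G) := by
  have hBA : B ≤ normalizer (A : Set G) := hc.trans (centralizer_le_normalizer (A : Set G))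
  have hAB : A ≤ normalizer (B : Set G) :=
    (le_centralizer_iff.1 hc).trans (centralizer_le_normalizer (B : Set G))
  have h2 := two_sup hp hq hA hB hBA
  have hne' : A ⊔ B ≠ ⊥ := fun h => hA1 (le_bot_iff.1 (h ▸ le_sup_left))
  have e1 := NM.eq_of_le hNM hne' hA1 h2 (two_of_pGroup hp hA)
    (conj_mem_left_of_sup hp hq hne hA hB hBA)
  have e2 := NM.eq_of_le hNM hne' hB1 h2 (two_of_pGroup hq hB) (by
    have := conj_mem_left_of_sup hq hp hne.symm hB hA hAB
    rwa [sup_comm] at this)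
  rw [← e1, ← e2]

/-- The element form. -/
theorem NM.nz_eq {p q : ℕ} (hp : p.Prime) (hq : q.Prime) (hne : p ≠ q) {a b : G}
    (ha : IsPGroup p (zpowers a)) (hb : IsPGroup q (zpowers b)) (ha1 : a ≠ 1) (hb1 : b ≠ 1)
    (hc : a * b = b * a) : nz a = nz b := by
  refine NM.nz_eq_of_commute hNM hp hq hne ha hb (zpowers_ne_bot_of_ne ha1)
    (zpowers_ne_bot_of_ne hb1) (zpowers_le.2 (mem_centralizer_iff.2 fun c hc' => ?_))
  obtain ⟨i, rfl⟩ := mem_zpowers_iff.1 hc'
  exact ((show Commute a b from hc).zpow_left i).eq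

theorem NM.nz_eq_cen {p : ℕ} (hp : p.Prime) (hp2 : p ≠ 2) {t x : G} (ht : orderOf t = 2)
    (hx : IsPGroup p (zpowers x)) (hx1 : x ≠ 1) (hc : x * t = t * x) : nz x = cen t := by
  rw [← nz_eq_cen_of_sq ht]
  exact NM.nz_eq hNM hp Nat.prime_two hp2 hx (isPGroup_zpowers_prime ht) hx1
    (fun h => by rw [h, orderOf_one] at ht; omega) hc

end

end Cfsg.Agent.MaxNormalizer
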