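import Cfsg.Agent.Lib.MaxNormalizer.Simple
import Cfsg.Agent.Lib.ZStar.Main
import Cfsg.Agent.Lib.PGroup.Basic

/-!
# Involution centralisers: the common tools
-/

set_option autoImplicit false
set_option linter.style.haveILetI false
set_option linter.unusedSectionVars false

namespace Cfsg.Agent.MaxNormalizer

open Subgroup
open scoped Pointwise

variable {X : Type*} [Group X] [Finite X]

/-- The standing hypotheses. -/
structure Soc (T : Subgroup X) : Prop where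
  nm : NM X
  rad : RadFree X
  min : IsMinNormal T

theorem conj_mul_self {g a : X} (h : a * a = 1) : (g * a * g⁻¹) * (g * a * g⁻¹) = 1 := by
  calc (g * a * g⁻¹) * (g * a * g⁻¹) = g * (a * a) * g⁻¹ := by group
    _ = 1 := by rw [h]; group

theorem orderOf_conj (g a : X) : orderOf (g * a * g⁻¹) = orderOf a :=
  orderOf_injective (MulAut.conj g).toMonoidHom (MulAut.conj g).injective a

theorem orderOf_two_of_mul_self {t : X} (h : t * t = 1) (h1 : t ≠ 1) : orderOf t = 2 := by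
  haveI : Fact (Nat.Prime 2) := ⟨Nat.prime_two⟩
  exact orderOf_eq_prime (by rw [pow_two, h]) h1

theorem mul_self_of_orderOf {t : X} (h : orderOf t = 2) : t * t = 1 := by
  rw [← pow_two, ← h, pow_orderOf_eq_one]

theorem ne_one_of_orderOf {t : X} {p : ℕ} (hp : p.Prime) (h : orderOf t = p) : t ≠ 1 :=
  fun e => hp.one_lt.ne (by rw [← h, e, orderOf_one])

theorem cen_conj (g x : X) : cen (g * x * g⁻¹) = (cen x).map (MulAut.conj g).toMonoidHom := by
  ext c
  rw [mem_cen_conj]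
  constructor
  · intro h
    refine ⟨_, h, ?_⟩
    show g * (g⁻¹ * c * g) * g⁻¹ = c
    group
  · rintro ⟨d, hd, rfl⟩
    show g⁻¹ * (g * d * g⁻¹) * g ∈ cen x
    rw [show g⁻¹ * (g * d * g⁻¹) * g = d by group]
    exact hd

theorem card_cen_conj (g x : X) : Nat.card (cen (g * x * g⁻¹)) = Nat.card (cen x) := by
  rw [cen_conj, card_map_of_injective (MulAut.conj g).injective]

theorem isPGroup_cen_conj {p : ℕ} {g x : X} (h : IsPGroup p (cen x)) :
    IsPGroup p (cen (g * x * g⁻¹)) := by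
  rw [cen_conj]; exact h.map _

theorem conj_inv_conj (g x : X) : g⁻¹ * (g * x * g⁻¹) * g⁻¹⁻¹ = x := by group

theorem exists_conj_mem_sylow {p : ℕ} [Fact p.Prime] (S : Sylow p X) {P : Subgroup X}
    (hP : IsPGroup p P) : ∃ g : X, ∀ a ∈ P, g * a * g⁻¹ ∈ (S : Subgroup X) := by
  obtain ⟨Q, hQ⟩ := hP.exists_le_sylow
  obtain ⟨g, hg⟩ := MulAction.exists_smul_eq X Q S
  refine ⟨g, fun a ha => ?_⟩
  rw [← hg]
  exact mem_pointwise_smul_iff_inv_smul_mem.2 (by simpa [mul_assoc] using hQ ha)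

theorem mem_sylow_of_normalizer {p : ℕ} [Fact p.Prime] {H : Subgroup X} (hH : IsPGroup p H)
    {K : Subgroup X} (hK : IsPGroup p K) (hlt : H < K) :
    ∃ g ∈ K, g ∉ H ∧ g ∈ normalizer (H : Set X) := by
  have hne : H.subgroupOf K ≠ ⊤ := fun h => hlt.ne (le_antisymm hlt.le (subgroupOf_eq_top.1 h))
  obtain ⟨⟨g, hgK⟩, hg, hgn⟩ := SetLike.exists_of_lt (PGroup.lt_normalizer hK hne)
  refine ⟨g, hgK, fun h => hgn (mem_subgroupOf.2 h), mem_normalizer_of_conj fun a ha => ?_⟩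
  exact mem_subgroupOf.1 (conj_mem_of_mem_normalizer (a := ⟨a, hlt.le ha⟩) hg (mem_subgroupOf.2 ha))

variable {T : Subgroup X} (C : Soc T)
include C

theorem Soc.normalizer_ne_top {H : Subgroup X} (hH : H ≠ ⊥) (h2 : Two H) :
    normalizer (H : Set X) ≠ ⊤ := (C.nm H hH h2).1

theorem Soc.coatom_cen {t : X} (ht : orderOf t = 2) : IsCoatom (cen t) := by
  rw [← nz_eq_cen_of_sq ht]
  exact C.nm _ (zpowers_ne_bot_of_ne (ne_one_of_orderOf Nat.prime_two ht))
    (two_of_pGroup Nat.prime_two (isPGroup_zpowers_prime ht))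

theorem Soc.not_T_le_cen {t : X} (ht : t ≠ 1) : ¬ T ≤ cen t := fun h => ht (by
  have : t ∈ centralizer (T : Set X) := mem_centralizer_iff.2 fun a ha => mem_cen.1 (h ha)
  rwa [C.min.centralizer_eq_bot C.nm C.rad, mem_bot] at this)

theorem Soc.not_T_le_nz {x : X} (hx : x ∈ T) (hx1 : x ≠ 1) : ¬ T ≤ nz x :=
  C.rad.not_normalizes_zpowers C.min.normal hx hx1

theorem Soc.normalizer_cen {t : X} (ht : orderOf t = 2) :
    normalizer (cen t : Set X) = cen t := by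
  rcases (C.coatom_cen ht).le_iff.1 (le_normalizer (H := cen t)) with h | h
  · have hn : (cen t).Normal := normalizer_eq_top_iff.1 h
    have hne : cen t ≠ ⊥ := fun e => ne_one_of_orderOf Nat.prime_two ht
      (mem_bot.1 (e ▸ mem_cen.2 rfl : t ∈ (⊥ : Subgroup X)))
    exact absurd (C.min.le_of_normal C.nm C.rad hn hne)
      (C.not_T_le_cen (ne_one_of_orderOf Nat.prime_two ht))
  · exact h

theorem Soc.eq_of_cen_conj {g t : X} (ht : orderOf t = 2) (h : cen (g * t * g⁻¹) = cen t) :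
    g * t * g⁻¹ = t := by
  refine mem_cen_iff_conj.1 ?_
  rw [← C.normalizer_cen ht]
  refine mem_normalizer_of_conj fun a ha => ?_
  rw [← h, cen_conj]
  exact mem_map_of_mem _ ha

theorem Soc.not_isolated {z : X} (hz : Cfsg.IsIsolatedInvolution z) : False :=
  ne_one_of_orderOf Nat.prime_two hz.1 (mem_bot.1 (center_eq_bot C.rad ▸
    ZStar.mem_center_of_oddCore_eq_bot (ZStar.inZStar hz) (oddCore_eq_bot C.rad)))

theorem Soc.exists_conj_ne {S : Sylow 2 X} {z : X} (hz : orderOf z = 2)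
    (hzS : z ∈ (S : Subgroup X)) :
    ∃ g : X, g * z * g⁻¹ ∈ (S : Subgroup X) ∧ g * z * g⁻¹ ≠ z := by
  by_contra h
  push Not at h
  exact C.not_isolated (ZStar.isolated_of_sylow hz hzS h)

theorem Soc.exists_odd_nz {t : X} (ht : orderOf t = 2) (h : ¬ IsPGroup 2 (cen t)) :
    ∃ p x, p.Prime ∧ p ≠ 2 ∧ orderOf x = p ∧ nz x = cen t := by
  obtain ⟨p, hp, hp2, hpd⟩ : ∃ p : ℕ, p.Prime ∧ p ≠ 2 ∧ p ∣ Nat.card (cen t) := by
    by_contra hno
    push Not at hno
    haveI : Fact (Nat.Prime 2) := ⟨Nat.prime_two⟩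
    refine h (IsPGroup.iff_card.2 ⟨_, Nat.eq_prime_pow_of_unique_prime_dvd Nat.card_pos.ne'
      fun {d} hd hdd => ?_⟩)
    by_contra hd2
    exact hno d hd hd2 hdd
  haveI := Fact.mk hp
  obtain ⟨⟨x, hx⟩, hx'⟩ := exists_prime_orderOf_dvd_card' p hpd
  rw [orderOf_mk] at hx'
  exact ⟨p, x, hp, hp2, hx', C.nm.nz_eq_cen hp hp2 ht (isPGroup_zpowers_prime hx')
    (ne_one_of_orderOf hp hx') (mem_cen.1 hx)⟩

/-- Two-subgroups of `nz x` are Dedekind groups. -/
theorem Soc.conj_mem_of_odd {p : ℕ} (hp : p.Prime) (hp2 : p ≠ 2) {x : X} (hx : orderOf x = p)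
    {D : Subgroup X} (hD : IsPGroup 2 D) (hle : D ≤ nz x) {Q : Subgroup X} (hQ : Q ≤ D)
    {d a : X} (hd : d ∈ D) (ha : a ∈ Q) : d * a * d⁻¹ ∈ Q := by
  have hQx : Q ≤ nz x := hQ.trans hle
  have hA := isPGroup_zpowers_prime (G := X) hx
  have h2 := two_sup hp Nat.prime_two hA (hD.to_le hQ) hQx
  have hne : zpowers x ⊔ Q ≠ ⊥ := fun e =>
    zpowers_ne_bot_of_ne (ne_one_of_orderOf hp hx) (le_bot_iff.1 (e ▸ le_sup_left))
  have e := C.nm.eq_of_le hne (zpowers_ne_bot_of_ne (ne_one_of_orderOf hp hx)) h2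
    (two_of_pGroup hp hA) (conj_mem_left_of_sup hp Nat.prime_two hp2 hA (hD.to_le hQ) hQx)
  have hd' : d ∈ normalizer ((zpowers x ⊔ Q : Subgroup X) : Set X) := e ▸ hle hd
  have hm := conj_mem_of_mem_normalizer hd' ((le_sup_right : Q ≤ zpowers x ⊔ Q) ha)
  have hmD : d * a * d⁻¹ ∈ D := mul_mem (mul_mem hd (hQ ha)) (inv_mem hd)
  -- an element of `D` inside `⟨x⟩Q` lies in `Q`
  obtain ⟨b, hb, q, hq, hbq⟩ : d * a * d⁻¹ ∈ ((zpowers x : Set X) * (Q : Set X)) := by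
    rw [← coe_mul_of_right_le_normalizer_left _ _ hQx]; exact hm
  have hbD : b ∈ D := by
    rw [show b = d * a * d⁻¹ * q⁻¹ from eq_mul_inv_of_mul_eq hbq]
    exact mul_mem hmD (inv_mem (hQ hq))
  have hb1 : b = 1 := orderOf_eq_one_iff.1 (Nat.eq_one_of_dvd_coprimes
    (coprime_of_pGroups hp Nat.prime_two hp2 hA hD hb) (dvd_refl _) (orderOf_dvd_natCard D hbD))
  rw [← hbq, hb1]
  simpa using hq

theorem Soc.commute_of_odd {p : ℕ} (hp : p.Prime) (hp2 : p ≠ 2) {x : X} (hx : orderOf x = p)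
    {D : Subgroup X} (hD : IsPGroup 2 D) (hle : D ≤ nz x) {u d : X} (hu : u ∈ D) (hu2 : u * u = 1)
    (hd : d ∈ D) : d * u = u * d := by
  rcases eq_or_ne u 1 with rfl | hu1
  · simp
  have ho := orderOf_two_of_mul_self hu2 hu1
  have h := C.conj_mem_of_odd hp hp2 hx hD hle (zpowers_le.2 hu) hd (mem_zpowers u)
  have hn : d ∈ cen u := nz_eq_cen_of_sq ho ▸ mem_nz.2 h
  exact mem_cen.1 hn

omit C in
theorem conj_eq_or_inv {p : ℕ} (hp : p.Prime) {x e : X} (hx : orderOf x = p) (he : e ∈ nz x)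
    (he2 : e * e = 1) : e * x * e⁻¹ = x ∨ e * x * e⁻¹ = x⁻¹ := by
  obtain ⟨i, hi⟩ := mem_zpowers_iff.1 (mem_nz.1 he)
  have h2 : x ^ (i * i) = x := by
    rw [zpow_mul, hi, conj_zpow, hi]
    calc e * (e * x * e⁻¹) * e⁻¹ = (e * e) * x * (e * e)⁻¹ := by group
      _ = x := by rw [he2]; group
  have hdvd : (p : ℤ) ∣ i * i - 1 := by
    rw [← hx, orderOf_dvd_iff_zpow_eq_one, zpow_sub, h2, zpow_one, mul_inv_cancel]
  rw [show i * i - 1 = (i - 1) * (i + 1) by ring] at hdvd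
  rcases (Nat.prime_iff_prime_int.1 hp).dvd_or_dvd hdvd with h | h <;>
    rw [← hx, orderOf_dvd_iff_zpow_eq_one] at h
  · refine Or.inl ?_
    rw [← hi]
    rwa [zpow_sub, zpow_one, mul_inv_eq_one] at h
  · refine Or.inr ?_
    rw [← hi]
    rwa [zpow_add, zpow_one, mul_eq_one_iff_eq_inv] at h

omit C in
theorem mul_mem_cen_of_inverting {p : ℕ} (hp : p.Prime) {x e f : X} (hx : orderOf x = p)
    (he : e ∈ nz x) (he2 : e * e = 1) (hf : f ∈ nz x) (hf2 : f * f = 1)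
    (he' : e ∉ cen x) (hf' : f ∉ cen x) : e * f ∈ cen x := by
  have e1 := (conj_eq_or_inv hp hx he he2).resolve_left fun h => he' (mem_cen_iff_conj.2 h)
  have f1 := (conj_eq_or_inv hp hx hf hf2).resolve_left fun h => hf' (mem_cen_iff_conj.2 h)
  refine mem_cen_iff_conj.2 ?_
  calc e * f * x * (e * f)⁻¹ = e * (f * x * f⁻¹) * e⁻¹ := by group
    _ = (e * x * e⁻¹)⁻¹ := by rw [f1]; group
    _ = x := by rw [e1, inv_inv]

/-- A real element of odd prime order: its normaliser moves the inverting involution inside its coset. -/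
theorem Soc.real {p : ℕ} (hp : p.Prime) (hp2 : p ≠ 2) {x u c : X} (hx : orderOf x = p)
    (hu : orderOf u = 2) (hux : u * x * u⁻¹ = x⁻¹) (hc : c ∈ nz x) :
    ∃ i : ℤ, c * u * c⁻¹ = x ^ i * u := by
  have hA := isPGroup_zpowers_prime (G := X) hx
  have hB := isPGroup_zpowers_prime (G := X) hu
  have hun : u ∈ nz x := mem_nz.2 (hux ▸ inv_mem (mem_zpowers x))
  have hBA : zpowers u ≤ nz x := zpowers_le.2 hun
  have h2 := two_sup hp Nat.prime_two hA hB hBA
  have hne : zpowers x ⊔ zpowers u ≠ ⊥ := fun e =>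
    zpowers_ne_bot_of_ne (ne_one_of_orderOf hp hx) (le_bot_iff.1 (e ▸ le_sup_left))
  have e := C.nm.eq_of_le hne (zpowers_ne_bot_of_ne (ne_one_of_orderOf hp hx)) h2
    (two_of_pGroup hp hA) (conj_mem_left_of_sup hp Nat.prime_two hp2 hA hB hBA)
  have hc' : c ∈ normalizer ((zpowers x ⊔ zpowers u : Subgroup X) : Set X) := e ▸ hc
  have hm := conj_mem_of_mem_normalizer hc'
    ((le_sup_right : zpowers u ≤ zpowers x ⊔ zpowers u) (mem_zpowers u))
  obtain ⟨b, hb, q, hq, hbq⟩ : c * u * c⁻¹ ∈ ((zpowers x : Set X) * (zpowers u : Set X)) := by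
    rw [← coe_mul_of_right_le_normalizer_left _ _ hBA]; exact hm
  classical
  have hq' : q = 1 ∨ q = u := by
    rw [SetLike.mem_coe, mem_zpowers_iff_mem_range_orderOf, hu] at hq
    simpa [Finset.range_add_one, or_comm, eq_comm] using hq
  obtain ⟨i, rfl⟩ := mem_zpowers_iff.1 hb
  rcases hq' with rfl | rfl
  · exfalso
    have h1 := orderOf_dvd_natCard (zpowers x) (mem_zpowers_iff.2 ⟨i, rfl⟩ : x ^ i ∈ zpowers x)
    rw [Nat.card_zpowers, hx] at h1
    rw [show x ^ i = c * u * c⁻¹ by simpa using hbq, orderOf_conj, hu] at h1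
    exact hp2 ((Nat.prime_dvd_prime_iff_eq Nat.prime_two hp).1 h1).symm
  · exact ⟨i, hbq.symm⟩

/-- A consequence: `c` moves into the centraliser of the involution. -/
theorem Soc.real_cen {p : ℕ} (hp : p.Prime) (hp2 : p ≠ 2) {x u c : X} (hx : orderOf x = p)
    (hu : orderOf u = 2) (hux : u * x * u⁻¹ = x⁻¹) (hc : c ∈ nz x) :
    ∃ j : ℤ, x ^ j * c ∈ cen u := by
  obtain ⟨i, hi⟩ := C.real hp hp2 hx hu hux hc
  obtain ⟨k, hk⟩ : ∃ k : ℤ, (p : ℤ) ∣ i + 2 * k := by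
    obtain ⟨a, b, hab⟩ : ∃ a b : ℤ, 2 * a + (p : ℤ) * b = 1 := by
      have : IsCoprime (2 : ℤ) (p : ℤ) := by
        rw [Int.isCoprime_iff_nat_coprime]
        exact (Nat.coprime_primes Nat.prime_two hp).2 (Ne.symm hp2)
      obtain ⟨a, b, hab⟩ := this
      exact ⟨a, b, by linarith⟩
    exact ⟨-i * a, ⟨b * i, by linear_combination (-i) * hab⟩⟩
  refine ⟨k, mem_cen_iff_conj.2 ?_⟩
  have hconj : ∀ j : ℤ, u * x ^ j = x ^ (-j) * u := fun j => by
    rw [zpow_neg, ← inv_zpow, ← hux, conj_zpow]; group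
  calc x ^ k * c * u * (x ^ k * c)⁻¹ = x ^ k * (c * u * c⁻¹) * x ^ (-k) := by
        rw [zpow_neg]; group
    _ = x ^ (k + i) * (u * x ^ (-k)) := by rw [hi, zpow_add]; group
    _ = x ^ (i + 2 * k) * u := by rw [hconj, ← mul_assoc, ← zpow_add]; ring_nf
    _ = u := by rw [orderOf_dvd_iff_zpow_eq_one.1 (hx.symm ▸ hk), one_mul]

end Cfsg.Agent.MaxNormalizer
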