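import Cfsg.Agent.Lib.PSL2.Sylow
import Cfsg.Agent.Lib.SL2Presentation.Steinberg
import Cfsg.Agent.S0102

/-!
# Perfect central extensions of `PSL(2, 13)`
-/

set_option autoImplicit false
set_option linter.style.haveILetI false
set_option linter.unusedSectionVars false

open scoped MatrixGroups commutatorElement

namespace Cfsg.Agent.MaxNormalizer

open Subgroup PSL2

local notation "SL13" => SL(2, ZMod 13)
local notation "P13" => PSL(2, ZMod 13)

instance fact_thirteen : Fact (Nat.Prime 13) := ⟨by norm_num⟩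

theorem card_P13 : Nat.card P13 = 1092 := by
  have := gcd_mul_card_PSL (F := ZMod 13)
  rw [ZMod.card, show Nat.gcd 2 (13 - 1) = 2 by decide] at this
  omega

theorem card_SL13 : Nat.card SL13 = 2184 := by
  rw [PSL2.card_SL, ZMod.card]; norm_num

theorem isSimple_P13 : IsSimpleGroup P13 := psl_isSimpleGroup (by rw [ZMod.card]; norm_num)

theorem not_solvable_P13 : ¬ Group.IsSolvable P13 := by
  intro h
  haveI := isSimple_P13
  have hp : (Nat.card P13).Prime := by
    by_contra hnp
    haveI := h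
    have hc : ∀ a b : P13, a * b = b * a := fun a b => IsSimpleGroup.comm_iff_isSolvable.2 h a b
    letI : CommGroup P13 := { (inferInstance : Group P13) with mul_comm := hc }
    exact hnp IsSimpleGroup.prime_card
  rw [card_P13] at hp
  norm_num at hp

theorem perfect_P13 : commutator P13 = ⊤ := by
  haveI := isSimple_P13
  refine ((inferInstance : (commutator P13).Normal).eq_bot_or_eq_top).resolve_left fun h => ?_
  refine not_solvable_P13 (Group.isSolvable_of_comm fun a b => ?_)
  have := commutator_eq_bot_iff_le_centralizer.1 h (mem_top b)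
  exact mem_centralizer_iff.1 this a (mem_top a)

theorem perfect_SL13 : commutator SL13 = ⊤ := by
  set a : (ZMod 13)ˣ := Units.mk0 2 (by decide) with ha
  refine eq_top_of_uu_ll (fun t => ?_) (fun t => ?_)
  · have hm := commutator_mem_commutator (mem_top (dd a)) (mem_top (uu (t / 3)))
    rw [← _root_.commutator_def] at hm
    convert hm using 1
    rw [commutatorElement_def, dd_conj_uu, uu_inv, uu_mul_uu]
    congr 1
    rw [ha, Units.val_mk0, show (2 : ZMod 13) ^ 2 * (t / 3) + -(t / 3) = (t / 3) * 3 by ring,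
      div_mul_cancel₀ t (show (3 : ZMod 13) ≠ 0 by decide)]
  · have hm := commutator_mem_commutator (mem_top (dd a⁻¹)) (mem_top (ll (t / 3)))
    rw [← _root_.commutator_def] at hm
    convert hm using 1
    rw [commutatorElement_def, dd_conj_ll, ll_inv, ll_mul_ll]
    congr 1
    rw [inv_inv, ha, Units.val_mk0, show (2 : ZMod 13) ^ 2 * (t / 3) + -(t / 3) = (t / 3) * 3 by ring,
      div_mul_cancel₀ t (show (3 : ZMod 13) ≠ 0 by decide)]

variable {E : Type*} [Group E] [Finite E] (f : E →* P13) (hf : Function.Surjective f)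
  (hk : f.ker ≤ center E) (hE : commutator E = ⊤)
include hf hk hE

theorem not_dvd_ker : ¬ 13 ∣ Nat.card f.ker :=
  Cfsg.Agent.S0102.result perfect_P13 (fun P => by
    refine isCyclic_of_prime_card (p := 13) ?_
    rw [P.card_eq_multiplicity, card_P13, show (1092 : ℕ) = 13 ^ 1 * 84 by norm_num,
      Nat.factorization_mul (by norm_num) (by norm_num), Nat.factorization_pow]
    simp [(show Nat.Prime 13 by norm_num).factorization_self, Nat.factorization_eq_zero_of_not_dvd])
    f hf hk hE

theorem lift_unique {a b : E} (ha : a ^ 13 = 1) (hb : b ^ 13 = 1) (h : f a = f b) : a = b := by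
  have hm : a⁻¹ * b ∈ f.ker := by rw [MonoidHom.mem_ker, map_mul, map_inv, h, inv_mul_cancel]
  have hc : ∀ c, Commute (a⁻¹ * b) c := fun c => (mem_center_iff.1 (hk hm) c).symm
  have h13 : (a⁻¹ * b) ^ 13 = 1 := by
    have e : b = a * (a⁻¹ * b) := by group
    have e' : b ^ 13 = (a * (a⁻¹ * b)) ^ 13 := congrArg (fun y => y ^ 13) e
    rw [(hc a).symm.mul_pow, hb, ha, one_mul] at e'
    exact e'.symm
  have hd := orderOf_dvd_natCard _ hm
  rcases (Nat.dvd_prime (by norm_num)).1 (orderOf_dvd_of_pow_eq_one h13) with e | e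
  · exact inv_mul_eq_one.1 (orderOf_eq_one_iff.1 e)
  · rw [e] at hd
    exact absurd hd (not_dvd_ker f hf hk hE)

theorem lift_exists {c : P13} (hc : c ^ 13 = 1) : ∃ a : E, a ^ 13 = 1 ∧ f a = c := by
  obtain ⟨k, rfl⟩ := hf c
  set m := Nat.card f.ker with hm
  obtain ⟨j, hj⟩ : ∃ j, m * j % 13 = 1 := by
    have h : ((m : ℕ) : ZMod 13) ≠ 0 := fun e =>
      not_dvd_ker f hf hk hE ((ZMod.natCast_eq_zero_iff m 13).1 e)
    refine ⟨((m : ZMod 13)⁻¹).val, ?_⟩
    rw [← ZMod.val_natCast, Nat.cast_mul, ZMod.natCast_zmod_val, mul_inv_cancel₀ h, ZMod.val_one]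
  refine ⟨k ^ (m * j), ?_, ?_⟩
  · have hk' : k ^ 13 ∈ f.ker := by rw [MonoidHom.mem_ker, map_pow, hc]
    rw [← pow_mul, mul_comm (m * j), pow_mul, pow_mul,
      orderOf_dvd_iff_pow_eq_one.1 (orderOf_dvd_natCard _ hk'), one_pow]
  · rw [map_pow, ← Nat.div_add_mod (m * j) 13, hj, pow_add, pow_mul, hc, one_pow, one_mul, pow_one]

theorem lift_commute {a b : E} (ha : a ^ 13 = 1) (h : Commute (f a) (f b)) : Commute a b := by
  have e : b * a * b⁻¹ = a := lift_unique f hf hk hE (by rw [conj_pow, ha]; group) ha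
    (by rw [map_mul, map_mul, map_inv, ← h.eq, mul_inv_cancel_right])
  exact (mul_inv_eq_iff_eq_mul.1 e).symm

theorem card_cover_le : Nat.card E ≤ 2184 := by
  classical
  have hex : ∀ g : SL13, g ^ 13 = 1 → ∃ a : E, a ^ 13 = 1 ∧ f a = mk g := fun g hg =>
    lift_exists f hf hk hE (by rw [← map_pow, hg, map_one])
  have hu : ∀ t : ZMod 13, (uu t : SL13) ^ 13 = 1 := fun t => by
    rw [uu_pow, CharP.cast_eq_zero (ZMod 13) 13, zero_mul, uu_zero]
  have hl : ∀ t : ZMod 13, (ll t : SL13) ^ 13 = 1 := fun t => by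
    have e : (ll t : SL13) = ww * uu (-t) * ww⁻¹ := by rw [ww_conj_uu, neg_neg]
    rw [e, conj_pow, hu]; group
  choose x hx hfx using fun t => hex (uu t) (hu t)
  choose y hy hfy using fun t => hex (ll t) (hl t)
  have xadd : ∀ a b, x (a + b) = x a * x b := by
    intro a b
    have hc : Commute (x a) (x b) := lift_commute f hf hk hE (hx a) (by
      show _ = _
      rw [hfx, hfx, ← map_mul, ← map_mul, uu_mul_uu, uu_mul_uu, add_comm])
    exact lift_unique f hf hk hE (hx _) (by rw [hc.mul_pow, hx, hx, one_mul])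
      (by rw [map_mul, hfx, hfx, hfx, ← map_mul, uu_mul_uu])
  have yadd : ∀ a b, y (a + b) = y a * y b := by
    intro a b
    have hc : Commute (y a) (y b) := lift_commute f hf hk hE (hy a) (by
      show _ = _
      rw [hfy, hfy, ← map_mul, ← map_mul, ll_mul_ll, ll_mul_ll, add_comm])
    exact lift_unique f hf hk hE (hy _) (by rw [hc.mul_pow, hy, hy, one_mul])
      (by rw [map_mul, hfy, hfy, hfy, ← map_mul, ll_mul_ll])
  have hrel : ∀ t u : ZMod 13, t ≠ 0 →
      (x t * y (-t⁻¹) * x t) * x u * (x t * y (-t⁻¹) * x t)⁻¹ = y (-(t⁻¹ ^ 2 * u)) := by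
    intro t u ht
    refine lift_unique f hf hk hE (by rw [conj_pow, hx]; group) (hy _) ?_
    simp only [map_mul, map_inv, hfx, hfy]
    rw [← map_mul, ← map_mul, ← map_mul, ← map_inv, ← map_mul]
    congr 1
    rw [mul_inv_eq_iff_eq_mul]
    apply ext2 <;> simp only [mul00, mul01, mul10, mul11] <;> simp [uu, ll] <;> (try field_simp) <;> (try ring_nf) <;> (try simp)
  have hgen : closure (Set.range x ∪ Set.range y) = ⊤ := by
    set H := closure (Set.range x ∪ Set.range y) with hH
    have hmap : H.map f = ⊤ := by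
      rw [hH, MonoidHom.map_closure, Set.image_union, ← Set.range_comp, ← Set.range_comp,
        show f ∘ x = mk ∘ uu from funext hfx, show f ∘ y = mk ∘ ll from funext hfy,
        Set.range_comp, Set.range_comp, ← Set.image_union, ← MonoidHom.map_closure, closure_uu_ll,
        ← MonoidHom.range_eq_map, MonoidHom.range_eq_top.2 mk_surjective]
    have hdec : ∀ a : E, ∃ b ∈ H, b⁻¹ * a ∈ f.ker := by
      intro a
      obtain ⟨b, hb, e⟩ : f a ∈ H.map f := hmap ▸ mem_top _
      exact ⟨b, hb, by rw [MonoidHom.mem_ker, map_mul, map_inv, e, inv_mul_cancel]⟩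
    refine top_unique ((hE.ge).trans ?_)
    rw [_root_.commutator_def, commutator_le]
    intro a _ b _
    obtain ⟨a', ha', hza⟩ := hdec a
    obtain ⟨b', hb', hzb⟩ := hdec b
    have h1 : ∀ c, c * (a'⁻¹ * a) = (a'⁻¹ * a) * c := fun c => mem_center_iff.1 (hk hza) c
    have h2 : ∀ c, c * (b'⁻¹ * b) = (b'⁻¹ * b) * c := fun c => mem_center_iff.1 (hk hzb) c
    generalize hz : a'⁻¹ * a = z at h1
    generalize hw : b'⁻¹ * b = w at h2
    have ha : a = a' * z := by rw [← hz, mul_inv_cancel_left]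
    have hb : b = b' * w := by rw [← hw, mul_inv_cancel_left]
    have : ⁅a, b⁆ = ⁅a', b'⁆ := by
      rw [commutatorElement_def, commutatorElement_def, ha, hb]
      calc a' * z * (b' * w) * (a' * z)⁻¹ * (b' * w)⁻¹
          = a' * (z * (b' * w)) * z⁻¹ * a'⁻¹ * w⁻¹ * b'⁻¹ := by group
        _ = a' * b' * w * a'⁻¹ * w⁻¹ * b'⁻¹ := by rw [← h1]; group
        _ = a' * b' * (w * a'⁻¹) * w⁻¹ * b'⁻¹ := by group
        _ = _ := by rw [← h2]; group
    rw [this, commutatorElement_def]
    exact mul_mem (mul_mem (mul_mem ha' hb') (inv_mem ha')) (inv_mem hb')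
  have := (SL2Presentation.Stein.card_le ⟨x, y, xadd, yadd, hrel, hgen⟩).2
  simpa [ZMod.card] using this

theorem cover_cases : Nonempty (E ≃* P13) ∨ Nonempty (E ≃* SL13) := by
  classical
  have hcard : Nat.card f.ker * 1092 = Nat.card E := by
    have h := f.ker.card_mul_index
    rwa [index_ker, MonoidHom.range_eq_top.2 hf, card_top, card_P13] at h
  have hle := card_cover_le f hf hk hE
  by_cases h1 : Nat.card f.ker = 1
  · exact Or.inl ⟨MulEquiv.ofBijective f ⟨(MonoidHom.ker_eq_bot_iff f).1 (card_eq_one.1 h1), hf⟩⟩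
  right
  have hE2 : Nat.card E = 2184 := by
    have := Nat.card_pos (α := f.ker)
    omega
  -- the fibre product with `SL(2, 13)`
  let Pr : Subgroup (E × SL13) :=
    { carrier := {q | f q.1 = mk q.2}
      one_mem' := by simp
      mul_mem' := fun {a b} ha hb => by
        show f (a.1 * b.1) = mk (a.2 * b.2)
        rw [map_mul, map_mul, ha, hb]
      inv_mem' := fun {a} ha => by
        show f a.1⁻¹ = mk a.2⁻¹
        rw [map_inv, map_inv, ha] }
  let g : Pr →* P13 := f.comp ((MonoidHom.fst E SL13).comp Pr.subtype)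
  have hg : Function.Surjective g := fun c => by
    obtain ⟨a, rfl⟩ := hf c
    obtain ⟨s, hs⟩ := mk_surjective (f a)
    exact ⟨⟨(a, s), hs.symm⟩, rfl⟩
  have hgk : g.ker ≤ center Pr := by
    intro q hq
    have h1' : (q : E × SL13).1 ∈ f.ker := hq
    have h2' : (q : E × SL13).2 ∈ center SL13 := by
      rw [← ker_mk, MonoidHom.mem_ker]; exact (q.2).symm.trans hq
    exact mem_center_iff.2 fun r => Subtype.ext (Prod.ext (mem_center_iff.1 (hk h1') _)
      (mem_center_iff.1 h2' _))
  set D : Subgroup Pr := commutator Pr with hD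
  have hDmap : D.map g = ⊤ := by
    rw [hD, _root_.commutator_def, map_commutator, ← MonoidHom.range_eq_map, MonoidHom.range_eq_top.2 hg,
      ← _root_.commutator_def, perfect_P13]
  have hPD : ∀ a : Pr, ∃ b ∈ D, b⁻¹ * a ∈ g.ker := by
    intro a
    obtain ⟨b, hb, e⟩ : g a ∈ D.map g := hDmap ▸ mem_top _
    exact ⟨b, hb, by rw [MonoidHom.mem_ker, map_mul, map_inv, e, inv_mul_cancel]⟩
  have hDperf : commutator D = ⊤ := by
    apply map_injective D.subtype_injective
    rw [_root_.commutator_def, map_commutator, ← MonoidHom.range_eq_map, range_subtype]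
    refine le_antisymm (commutator_le_self D) ?_
    conv_lhs => rw [hD, _root_.commutator_def]
    rw [commutator_le]
    intro a _ b _
    obtain ⟨a', ha', hza⟩ := hPD a
    obtain ⟨b', hb', hzb⟩ := hPD b
    have h1 : ∀ c, c * (a'⁻¹ * a) = (a'⁻¹ * a) * c := fun c => mem_center_iff.1 (hgk hza) c
    have h2 : ∀ c, c * (b'⁻¹ * b) = (b'⁻¹ * b) * c := fun c => mem_center_iff.1 (hgk hzb) c
    generalize hz : a'⁻¹ * a = z at h1
    generalize hw : b'⁻¹ * b = w at h2
    have ha : a = a' * z := by rw [← hz, mul_inv_cancel_left]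
    have hb : b = b' * w := by rw [← hw, mul_inv_cancel_left]
    have : ⁅a, b⁆ = ⁅a', b'⁆ := by
      rw [commutatorElement_def, commutatorElement_def, ha, hb]
      calc a' * z * (b' * w) * (a' * z)⁻¹ * (b' * w)⁻¹
          = a' * (z * (b' * w)) * z⁻¹ * a'⁻¹ * w⁻¹ * b'⁻¹ := by group
        _ = a' * b' * (w * a'⁻¹) * w⁻¹ * b'⁻¹ := by rw [← h1]; group
        _ = _ := by rw [← h2]; group
    rw [this]
    exact commutator_mem_commutator ha' hb'
  have hDk : (g.comp D.subtype).ker ≤ center D := fun q hq => mem_center_iff.2 fun r =>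
    Subtype.ext (mem_center_iff.1 (hgk (show (q : Pr) ∈ g.ker from hq)) r)
  have hgD : Function.Surjective (g.comp D.subtype) := fun c => by
    obtain ⟨b, hb, e⟩ : c ∈ D.map g := hDmap ▸ mem_top _
    exact ⟨⟨b, hb⟩, e⟩
  have hDle := card_cover_le (g.comp D.subtype) hgD hDk hDperf
  let p1 : D →* E := (MonoidHom.fst E SL13).comp (Pr.subtype.comp D.subtype)
  let p2 : D →* SL13 := (MonoidHom.snd E SL13).comp (Pr.subtype.comp D.subtype)
  have hs1 : Function.Surjective p1 := by
    rw [← MonoidHom.range_eq_top]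
    have hfs : Function.Surjective ((MonoidHom.fst E SL13).comp Pr.subtype) := fun a => by
      obtain ⟨s, hs⟩ := mk_surjective (f a)
      exact ⟨⟨(a, s), hs.symm⟩, rfl⟩
    have e : D.map ((MonoidHom.fst E SL13).comp Pr.subtype) = ⊤ := by
      rw [hD, _root_.commutator_def, map_commutator, ← MonoidHom.range_eq_map, MonoidHom.range_eq_top.2 hfs,
        ← _root_.commutator_def, hE]
    refine top_unique fun a _ => ?_
    obtain ⟨b, hb, e'⟩ := (e ▸ mem_top a : a ∈ D.map ((MonoidHom.fst E SL13).comp Pr.subtype))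
    exact ⟨⟨b, hb⟩, e'⟩
  have hs2 : Function.Surjective p2 := by
    rw [← MonoidHom.range_eq_top]
    have hfs : Function.Surjective ((MonoidHom.snd E SL13).comp Pr.subtype) := fun s => by
      obtain ⟨a, ha⟩ := hf (mk s)
      exact ⟨⟨(a, s), ha⟩, rfl⟩
    have e : D.map ((MonoidHom.snd E SL13).comp Pr.subtype) = ⊤ := by
      rw [hD, _root_.commutator_def, map_commutator, ← MonoidHom.range_eq_map, MonoidHom.range_eq_top.2 hfs,
        ← _root_.commutator_def, perfect_SL13]
    refine top_unique fun a _ => ?_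
    obtain ⟨b, hb, e'⟩ := (e ▸ mem_top a : a ∈ D.map ((MonoidHom.snd E SL13).comp Pr.subtype))
    exact ⟨⟨b, hb⟩, e'⟩
  have hDc : Nat.card D = 2184 := le_antisymm hDle (hE2 ▸ Nat.card_le_card_of_surjective p1 hs1)
  have b1 : Function.Bijective p1 :=
    (Nat.bijective_iff_surjective_and_card p1).2 ⟨hs1, hDc.trans hE2.symm⟩
  have b2 : Function.Bijective p2 :=
    (Nat.bijective_iff_surjective_and_card p2).2 ⟨hs2, hDc.trans card_SL13.symm⟩
  exact ⟨(MulEquiv.ofBijective p1 b1).symm.trans (MulEquiv.ofBijective p2 b2)⟩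

end Cfsg.Agent.MaxNormalizer
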