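import Cfsg.Agent.Lib.MaxNormalizer.StageOneA
import Cfsg.Agent.Lib.MaxNormalizer.Cover
import Cfsg.Agent.Lib.LocalStructure.PClosed
import Cfsg.Agent.Lib.Transfer.Burnside
import Cfsg.Agent.S4211

/-!
# From the quotient back to the group
-/

set_option autoImplicit false
set_option linter.style.haveILetI false
set_option linter.unusedSectionVars false

open scoped MatrixGroups

namespace Cfsg.Agent.MaxNormalizer

open Subgroup
open scoped Pointwise

local notation "P13" => PSL(2, ZMod 13)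
local notation "SL13" => SL(2, ZMod 13)

theorem exists_zpow_of_mem_closure_pair {A : Type*} [Group A] {u v w : A} (h : Commute u v)
    (hw : w ∈ closure ({u, v} : Set A)) : ∃ i j : ℤ, u ^ i * v ^ j = w := by
  induction hw using closure_induction with
  | mem x hx =>
    rcases hx with rfl | rfl
    · exact ⟨1, 0, by simp⟩
    · exact ⟨0, 1, by simp⟩
  | one => exact ⟨0, 0, by simp⟩
  | mul x y _ _ hx hy =>
    obtain ⟨i, j, rfl⟩ := hx
    obtain ⟨k, l, rfl⟩ := hy
    exact ⟨i + k, j + l, by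
      rw [zpow_add, zpow_add, mul_assoc, mul_assoc, ← mul_assoc (v ^ j) (u ^ k),
        ← (h.zpow_zpow k j).eq, mul_assoc]⟩
  | inv x _ hx =>
    obtain ⟨i, j, rfl⟩ := hx
    exact ⟨-i, -j, by rw [mul_inv_rev, zpow_neg, zpow_neg, ((h.zpow_zpow i j).inv_inv).eq]⟩

theorem exists_moved_invol :
    ∃ (a b y : P13), ∃ (ha : a * a = 1) (hb : b * b = 1) (hab : b * a = a * b),
      a ≠ 1 ∧ b ≠ 1 ∧ a ≠ b ∧ y ∈ normalizer (four a b ha hb hab : Set P13) ∧ y * a * y⁻¹ = b := by
  haveI := isSimple_P13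
  haveI : Fact (Nat.Prime 2) := ⟨Nat.prime_two⟩
  obtain ⟨a, ha⟩ := exists_prime_orderOf_dvd_card' (G := P13) 2 (by rw [card_P13]; norm_num)
  have ha1 := ne_one_of_orderOf Nat.prime_two ha
  obtain ⟨g, hc, hne⟩ : ∃ g, Commute a (g * a * g⁻¹) ∧ g * a * g⁻¹ ≠ a := by
    by_contra hno
    push Not at hno
    have hO : Cfsg.oddCore P13 = ⊥ := by
      haveI : (Cfsg.oddCore P13).Normal := SolvableTwo.oddCore_normal
      refine (Normal.eq_bot_or_eq_top ‹_›).resolve_right fun h => ?_
      have := SolvableTwo.odd_card_oddCore (G := P13)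
      rw [h, card_top, card_P13] at this
      exact absurd this (by decide)
    have hmem := ZStar.mem_center_of_oddCore_eq_bot (ZStar.inZStar (z := a) ⟨ha, hno⟩) hO
    have hbot : center P13 = ⊥ :=
      (Normal.eq_bot_or_eq_top (inferInstance : (center P13).Normal)).resolve_right fun h =>
        not_solvable_P13 (Group.isSolvable_of_comm fun x y =>
          mem_center_iff.1 (h ▸ mem_top y) x)
    rw [hbot, mem_bot] at hmem
    exact ha1 hmem
  set b := g * a * g⁻¹ with hb
  have ha2 := mul_self_of_orderOf ha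
  have hb2 : b * b = 1 := conj_mul_self ha2
  have hb1 : b ≠ 1 := fun e => ha1 (conj_eq_one_iff.1 e)
  set E := four a b ha2 hb2 hc.eq.symm with hE
  obtain ⟨Q, hQ⟩ := (isPGroup_four : IsPGroup 2 E).exists_le_sylow
  have hQc : Nat.card (Q : Subgroup P13) = 4 := by
    rw [Q.card_eq_multiplicity, card_P13, show (1092 : ℕ) = 2 ^ 2 * 273 by norm_num,
      Nat.factorization_mul (by norm_num) (by norm_num), Nat.factorization_pow]
    simp [Nat.prime_two.factorization_self, Nat.factorization_eq_zero_of_not_dvd]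
  have hEc : 4 ≤ Nat.card E := by
    rw [hE, card_four ha1 hb1 (Ne.symm hne)]
  have hQE : (Q : Subgroup P13) = E := (eq_of_le_of_card_ge hQ (hQc ▸ hEc)).symm
  haveI : IsMulCommutative (Q : Subgroup P13) :=
    IsPGroup.isMulCommutative_of_card_eq_prime_sq (p := 2) hQc
  obtain ⟨n, hn, e⟩ := Q.conj_eq_normalizer_conj_of_mem a g⁻¹
    (hQ (mem_four.2 (Or.inr (Or.inl rfl))))
    (by rw [inv_inv]; exact hQ (mem_four.2 (Or.inr (Or.inr (Or.inl rfl)))))
  rw [inv_inv, ← hb] at e
  refine ⟨a, b, n⁻¹, ha2, hb2, hc.eq.symm, ha1, hb1, fun h => hne h.symm, ?_, ?_⟩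
  · rw [← hE, ← hQE]
    exact inv_mem hn
  · rw [inv_inv]; exact e.symm

theorem exists_moved_odd {p : ℕ} (hp : p = 3 ∨ p = 7 ∨ p = 13) {c : P13} (hc : orderOf c = p) :
    ∃ g, g * c * g⁻¹ ∈ zpowers c ∧ g * c * g⁻¹ ≠ c := by
  haveI := isSimple_P13
  have hpp : p.Prime := by rcases hp with rfl | rfl | rfl <;> norm_num
  haveI := Fact.mk hpp
  obtain ⟨Q, hQ⟩ := (isPGroup_zpowers_prime hc).exists_le_sylow
  have hQc : Nat.card (Q : Subgroup P13) = p := by
    rw [Q.card_eq_multiplicity, card_P13]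
    rcases hp with rfl | rfl | rfl
    · rw [show (1092 : ℕ) = 3 ^ 1 * 364 by norm_num, Nat.factorization_mul (by norm_num) (by norm_num),
        Nat.factorization_pow]
      simp [Nat.prime_three.factorization_self, Nat.factorization_eq_zero_of_not_dvd]
    · rw [show (1092 : ℕ) = 7 ^ 1 * 156 by norm_num, Nat.factorization_mul (by norm_num) (by norm_num),
        Nat.factorization_pow]
      simp [(show Nat.Prime 7 by norm_num).factorization_self, Nat.factorization_eq_zero_of_not_dvd]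
    · rw [show (1092 : ℕ) = 13 ^ 1 * 84 by norm_num, Nat.factorization_mul (by norm_num) (by norm_num),
        Nat.factorization_pow]
      simp [(show Nat.Prime 13 by norm_num).factorization_self, Nat.factorization_eq_zero_of_not_dvd]
  have hQeq : zpowers c = Q := eq_of_le_of_card_ge hQ (by rw [hQc, Nat.card_zpowers, hc])
  by_contra hno
  push Not at hno
  obtain ⟨P', K, hK, hcompl⟩ := Transfer.hasNormalPComplement_of_normalizer_le_centralizer Q
    (fun n hn => by
      refine mem_centralizer_iff.2 fun a ha => ?_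
      have ha' : a ∈ zpowers c := hQeq.ge ha
      obtain ⟨i, rfl⟩ := mem_zpowers_iff.1 ha'
      have hnc : n * c * n⁻¹ = c := hno n (hQeq ▸ conj_mem_of_mem_normalizer hn
        (hQeq ▸ mem_zpowers c))
      exact ((show Commute n c from mul_inv_eq_iff_eq_mul.1 hnc).zpow_right i).eq.symm)
  have hPc : Nat.card (P' : Subgroup P13) = p := by
    rw [P'.card_eq_multiplicity, ← Q.card_eq_multiplicity, hQc]
  have h := hcompl.card_mul_card
  rw [hPc, card_P13] at h
  rcases hK.eq_bot_or_eq_top with e | e <;> rw [e] at h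
  · rw [card_bot, one_mul] at h
    rcases hp with rfl | rfl | rfl <;> omega
  · rw [card_top, card_P13] at h
    rcases hp with rfl | rfl | rfl <;> omega

variable {G : Type*} [Group G] [Finite G]

/-- The lifting setup. -/
structure Lift (f : G →* P13) : Prop where
  surj : Function.Surjective f
  sol : Group.IsSolvable f.ker
  mn : MN G

variable {f : G →* P13} (L : Lift f)
include L

theorem Lift.coatom {H : Subgroup G} (h2 : Two H) (hH : ¬ H ≤ f.ker) :
    IsCoatom (normalizer (H : Set G)) ∧ f.ker ≤ normalizer (H : Set G) := by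
  haveI := isSimple_P13
  have hne : H.map f ≠ ⊥ := fun e => hH ((map_eq_bot_iff H).1 e)
  have hnt : H.map f ≠ ⊤ := fun e => by
    have h := (h2.map f).isSolvable
    rw [e] at h
    haveI := h
    exact not_solvable_P13 (Group.isSolvable_of_surjective (f := (topEquiv (G := P13)).toMonoidHom)
      topEquiv.surjective)
  have hco := L.mn H (fun hs => by
    rcases (hs.map L.surj).eq_bot_or_top_of_isSimpleGroup isSimple_P13 with e | e
    · exact hne e
    · exact hnt e) h2
  refine ⟨hco, ?_⟩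
  by_contra hR
  have hsup : f.ker ⊔ normalizer (H : Set G) = ⊤ := hco.2 _ (right_lt_sup.2 hR)
  have hm : (normalizer (H : Set G)).map f = ⊤ := by
    have e := congrArg (Subgroup.map f) hsup
    rwa [Subgroup.map_sup, (map_eq_bot_iff f.ker).2 le_rfl, bot_sup_eq, ← MonoidHom.range_eq_map,
      MonoidHom.range_eq_top.2 L.surj] at e
  have hn : (H.map f).Normal := normalizer_eq_top_iff.1 (top_unique fun c _ => by
    obtain ⟨n, hn, rfl⟩ := (hm ▸ mem_top c : c ∈ (normalizer (H : Set G)).map f)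
    refine mem_normalizer_of_conj fun b hb => ?_
    obtain ⟨a, ha, rfl⟩ := hb
    exact ⟨n * a * n⁻¹, conj_mem_of_mem_normalizer hn ha, by simp⟩)
  rcases hn.eq_bot_or_eq_top with e | e
  · exact hne e
  · exact hnt e

theorem Lift.exists_core : ∃ K : Subgroup G, K.Normal ∧ K.map f = ⊤ ∧
    ∀ N : Subgroup G, N.Normal → N ≤ K → N.map f = ⊤ → N = K := by
  obtain ⟨K, ⟨h1, h2⟩, hmin⟩ := Set.Finite.exists_minimal
    (s := {N : Subgroup G | N.Normal ∧ N.map f = ⊤}) (Set.toFinite _)
    ⟨⊤, inferInstance, by rw [← MonoidHom.range_eq_map, MonoidHom.range_eq_top.2 L.surj]⟩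
  exact ⟨K, h1, h2, fun N hN hle hmap => le_antisymm hle (hmin (y := N) ⟨hN, hmap⟩ hle)⟩

theorem Lift.core_perfect {K : Subgroup G} (hK : K.Normal) (hm : K.map f = ⊤)
    (hmin : ∀ N : Subgroup G, N.Normal → N ≤ K → N.map f = ⊤ → N = K) : ⁅K, K⁆ = K := by
  haveI := hK
  refine hmin _ inferInstance (commutator_le_self K) ?_
  rw [map_commutator, hm, ← _root_.commutator_def, perfect_P13]

omit L in
theorem exists_pElement {p : ℕ} [hp : Fact p.Prime] {c : P13} (hc : orderOf c = p)
    (hs : Function.Surjective f) :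
    ∃ g : G, IsPGroup p (zpowers g) ∧ g ∉ f.ker := by
  obtain ⟨g, rfl⟩ := hs c
  obtain ⟨a, m, hm, ho⟩ := Nat.exists_eq_pow_mul_and_not_dvd (orderOf_pos g).ne' p hp.out.ne_one
  refine ⟨g ^ m, isPGroup_zpowers (n := a) (orderOf_dvd_of_pow_eq_one ?_), fun h => hm ?_⟩
  · rw [← pow_mul, mul_comm, ← ho, pow_orderOf_eq_one]
  · rw [MonoidHom.mem_ker, map_pow] at h
    exact hc ▸ orderOf_dvd_of_pow_eq_one h

theorem Lift.core_commutes {K : Subgroup G} (hK : K.Normal) (hm : K.map f = ⊤)
    (hmin : ∀ N : Subgroup G, N.Normal → N ≤ K → N.map f = ⊤ → N = K) :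
    ∀ k ∈ K, ∀ r ∈ f.ker, k * r = r * k := by
  haveI := isSimple_P13
  haveI := hK
  have key : ∀ p : ℕ, p.Prime → p ∣ 1092 → ∀ k ∈ K, ∀ r ∈ f.ker,
      k * r * k⁻¹ * r⁻¹ ∈ Cfsg.pCore p G := by
    intro p hp hpd
    haveI := Fact.mk hp
    obtain ⟨c, hc⟩ := exists_prime_orderOf_dvd_card' (G := P13) p (card_P13.symm ▸ hpd)
    obtain ⟨x, hxp, hxR⟩ := exists_pElement hc L.surj
    haveI : (Cfsg.pCore p G).Normal := PCore.pCore_normal
    let q := QuotientGroup.mk' (Cfsg.pCore p G)
    set Cp : Subgroup G := (centralizer ((f.ker.map q : Subgroup _) : Set (G ⧸ Cfsg.pCore p G))).comap q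
      with hCp
    haveI : (f.ker.map q).Normal := (inferInstance : f.ker.Normal).map q (QuotientGroup.mk'_surjective _)
    haveI : Cp.Normal := inferInstance
    have hxC : x ∈ Cp := by
      rw [hCp, mem_comap, mem_centralizer_iff]
      rintro _ ⟨r, hr, rfl⟩
      obtain ⟨-, hle⟩ := L.coatom (two_of_pGroup hp hxp) (fun h => hxR (h (mem_zpowers x)))
      set A := zpowers x ⊓ f.ker with hA
      have hAn : f.ker ≤ normalizer (A : Set G) := fun s hs => mem_normalizer_of_conj fun a ha =>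
        ⟨conj_mem_of_mem_normalizer (hle hs) ha.1, (inferInstance : f.ker.Normal).conj_mem a ha.2 s⟩
      have hAsub : A.IsSubnormal := .step _ f.ker inf_le_right
        (inferInstance : f.ker.Normal).isSubnormal
        ((normal_subgroupOf_iff_le_normalizer inf_le_right).2 hAn)
      have hmem : r * x * r⁻¹ * x⁻¹ ∈ A := by
        refine Subgroup.mem_inf.2 ⟨mul_mem (conj_mem_of_mem_normalizer (hle hr) (mem_zpowers x)) (inv_mem (mem_zpowers x)), ?_⟩
        rw [mul_assoc, mul_assoc]
        exact mul_mem hr (by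
          simpa [mul_assoc] using (inferInstance : f.ker.Normal).conj_mem r⁻¹ (inv_mem hr) x)
      have h1 : q (r * x * r⁻¹ * x⁻¹) = 1 := (QuotientGroup.eq_one_iff _).2
        (LocalStructure.le_pCore_of_isSubnormal hAsub (hxp.to_le inf_le_left) hmem)
      rw [map_mul, map_mul, map_mul, map_inv, map_inv, mul_inv_eq_one, mul_inv_eq_iff_eq_mul] at h1
      exact h1
    have hCm : Cp.map f = ⊤ :=
      ((inferInstance : Cp.Normal).map f L.surj).eq_bot_or_eq_top.resolve_left fun e =>
        hxR ((map_eq_bot_iff Cp).1 e hxC)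
    have hKC : K ≤ Cp := by
      have e := hmin ⁅K, Cp⁆ inferInstance (commutator_le_left K Cp) (by
        rw [map_commutator, hm, hCm, ← _root_.commutator_def, perfect_P13])
      exact e ▸ commutator_le_right K Cp
    intro k hk r hr
    have h := mem_centralizer_iff.1 (mem_comap.1 (hKC hk)) (q r) (mem_map_of_mem q hr)
    refine (QuotientGroup.eq_one_iff _).1 ?_
    show q (k * r * k⁻¹ * r⁻¹) = 1
    rw [map_mul, map_mul, map_mul, map_inv, map_inv, ← h, mul_inv_cancel_right, mul_inv_cancel]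
  intro k hk r hr
  haveI : Fact (Nat.Prime 2) := ⟨Nat.prime_two⟩
  haveI : Fact (Nat.Prime 3) := ⟨Nat.prime_three⟩
  have h2 := key 2 Nat.prime_two (by norm_num) k hk r hr
  have h3 := key 3 Nat.prime_three (by norm_num) k hk r hr
  have e := Nat.eq_one_of_dvd_coprimes
    (coprime_of_pGroups Nat.prime_two Nat.prime_three (by norm_num) PCore.isPGroup_pCore
      PCore.isPGroup_pCore h2) (dvd_refl _) (orderOf_dvd_natCard _ h3)
  rw [orderOf_eq_one_iff, mul_inv_eq_one, mul_inv_eq_iff_eq_mul] at e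
  exact e

/-- The decomposition. -/
theorem Lift.structure_theorem :
    ∃ K S : Subgroup G, K.Normal ∧ S.Normal ∧ K ⊓ S = ⊥ ∧ K ⊔ S = ⊤ ∧
      (Nonempty (K ≃* P13) ∨ Nonempty (K ≃* SL13)) ∧
      IsMulCommutative S ∧ (Nat.card K).Coprime (Nat.card S) := by
  haveI := isSimple_P13
  haveI : Fact (Nat.Prime 2) := ⟨Nat.prime_two⟩
  obtain ⟨K, hK, hm, hmin⟩ := L.exists_core
  haveI := hK
  have hperf := L.core_perfect hK hm hmin
  have hcomm := L.core_commutes hK hm hmin
  let fK : K →* P13 := f.comp K.subtype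
  have hfK : Function.Surjective fK := fun c => by
    obtain ⟨k, hk, e⟩ := (hm ▸ mem_top c : c ∈ K.map f)
    exact ⟨⟨k, hk⟩, e⟩
  have hKperf : commutator K = ⊤ := by
    apply map_injective K.subtype_injective
    rw [_root_.commutator_def, map_commutator, ← MonoidHom.range_eq_map, range_subtype, hperf]
  have hfk : fK.ker ≤ center K := fun a ha => mem_center_iff.2 fun b =>
    Subtype.ext (hcomm b b.2 a (show (a : G) ∈ f.ker from ha))
  have hiso := cover_cases fK hfK hfk hKperf
  have hKcard : Nat.card K = 1092 ∨ Nat.card K = 2184 := by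
    rcases hiso with ⟨⟨e⟩⟩ | ⟨⟨e⟩⟩
    · exact Or.inl ((Nat.card_congr e.toEquiv).trans card_P13)
    · exact Or.inr ((Nat.card_congr e.toEquiv).trans card_SL13)
  have hZ : ∀ a ∈ K, a ∈ f.ker → a * a = 1 := by
    intro a ha haR
    have h := fK.ker.card_mul_index
    rw [index_ker, MonoidHom.range_eq_top.2 hfK, card_top, card_P13] at h
    have hd := orderOf_dvd_natCard fK.ker (x := (⟨a, ha⟩ : K)) haR
    rw [orderOf_mk] at hd
    have h2 : Nat.card fK.ker ∣ 2 := by
      rcases hKcard with e | e <;> rw [e] at h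
      · exact ⟨2, by omega⟩
      · exact ⟨1, by omega⟩
    rw [← pow_two, ← orderOf_dvd_iff_pow_eq_one]
    exact hd.trans h2
  have hdec : ∀ g : G, ∃ k ∈ K, ∃ r ∈ f.ker, g = k * r := by
    intro g
    obtain ⟨k, hk, e⟩ := (hm ▸ mem_top _ : f g ∈ K.map f)
    exact ⟨k, hk, k⁻¹ * g, by rw [MonoidHom.mem_ker, map_mul, map_inv, e, inv_mul_cancel],
      by rw [mul_inv_cancel_left]⟩
  have hKelt : ∀ p : ℕ, p = 3 ∨ p = 7 ∨ p = 13 → ∃ x ∈ K, orderOf x = p ∧ x ∉ f.ker := by
    intro p hp
    have hpp : p.Prime := by rcases hp with rfl | rfl | rfl <;> norm_num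
    haveI := Fact.mk hpp
    obtain ⟨⟨x, hx⟩, hxo⟩ := exists_prime_orderOf_dvd_card' p (show p ∣ Nat.card K by
      rcases hKcard with e | e <;> rw [e] <;> rcases hp with rfl | rfl | rfl <;> norm_num)
    rw [orderOf_mk] at hxo
    refine ⟨x, hx, hxo, fun hxR => ?_⟩
    have h := hxo ▸ orderOf_dvd_of_pow_eq_one (show x ^ 2 = 1 by rw [pow_two]; exact hZ x hx hxR)
    rcases hp with rfl | rfl | rfl <;> norm_num at h
  -- subgroups of prime power order in the radical are normal in it
  have hU : ∀ p : ℕ, p.Prime → ∀ U : Subgroup G, U ≤ f.ker → IsPGroup p U →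
      f.ker ≤ normalizer (U : Set G) := by
    intro p hp U hU hUp
    obtain ⟨q, hq, hqp⟩ : ∃ q, (q = 3 ∨ q = 7) ∧ p ≠ q := by
      by_cases h : p = 3
      · exact ⟨7, Or.inr rfl, by omega⟩
      · exact ⟨3, Or.inl rfl, h⟩
    have hqq : q.Prime := by rcases hq with rfl | rfl <;> norm_num
    obtain ⟨x, hx, hxo, hxR⟩ := hKelt q (by tauto)
    have hB : zpowers x ≤ centralizer (U : Set G) := zpowers_le.2
      (mem_centralizer_iff.2 fun u hu => (hcomm x hx u (hU hu)).symm)
    have hBA : zpowers x ≤ normalizer (U : Set G) := hB.trans (centralizer_le_normalizer _)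
    obtain ⟨-, hle⟩ := L.coatom (two_sup hp hqq hUp (isPGroup_zpowers_prime hxo) hBA)
      (fun h => hxR (h ((le_sup_right : zpowers x ≤ U ⊔ zpowers x) (mem_zpowers x))))
    exact hle.trans (conj_mem_left_of_sup hp hqq hqp hUp (isPGroup_zpowers_prime hxo) hBA)
  -- every cyclic subgroup, hence every subgroup, of the radical is normal in it
  have hded : ∀ g ∈ f.ker, ∀ h ∈ f.ker, g * h * g⁻¹ ∈ zpowers h := by
    intro g hg h hh
    set W := zpowers h ⊓ (zpowers h).comap (MulAut.conj g).toMonoidHom with hW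
    have hWeq : W = zpowers h := by
      refine eq_of_le_of_card_ge inf_le_left (Nat.le_of_dvd Nat.card_pos ?_)
      rw [Nat.dvd_iff_prime_pow_dvd_dvd]
      intro p k hp hd
      haveI := Fact.mk hp
      obtain ⟨P, hP⟩ := Sylow.exists_subgroup_card_pow_prime p hd
      rw [← hP, ← card_map_of_injective (K := P) (zpowers h).subtype_injective]
      refine card_dvd_of_le fun a ha => ⟨map_subtype_le P ha, mem_comap.2 (map_subtype_le P ?_)⟩
      exact conj_mem_of_mem_normalizer
        (hU p hp _ ((map_subtype_le P).trans (zpowers_le.2 hh)) ((IsPGroup.of_card hP).map _) hg) ha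
    exact (hWeq.ge (mem_zpowers h)).2
  -- the primes 3, 7, 13 do not divide the order of the radical
  have hnp : ∀ p : ℕ, p = 3 ∨ p = 7 ∨ p = 13 → ¬ p ∣ Nat.card f.ker := by
    intro p hp hd
    have hpp : p.Prime := by rcases hp with rfl | rfl | rfl <;> norm_num
    have hp2 : p ≠ 2 := by omega
    haveI := Fact.mk hpp
    obtain ⟨⟨z, hz⟩, hzo⟩ := exists_prime_orderOf_dvd_card' p hd
    rw [orderOf_mk] at hzo
    obtain ⟨x, hx, hxo, hxR⟩ := hKelt p hp
    have hxz : Commute x z := hcomm x hx z hz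
    have hxzo : (x * z) ^ p = 1 := by
      rw [hxz.mul_pow, ← hxo, pow_orderOf_eq_one, one_mul, hxo, ← hzo, pow_orderOf_eq_one]
    have hxzp : IsPGroup p (zpowers (x * z)) :=
      isPGroup_zpowers (n := 1) (by rw [pow_one]; exact orderOf_dvd_of_pow_eq_one hxzo)
    obtain ⟨hco, hle⟩ := L.coatom (two_of_pGroup hpp hxzp) (fun h => hxR (by
      simpa using mul_mem (h (mem_zpowers (x * z))) (inv_mem hz)))
    obtain ⟨hco', hle'⟩ := L.coatom (two_of_pGroup hpp (isPGroup_zpowers_prime hxo))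
      (fun h => hxR (h (mem_zpowers x)))
    have hMK : ∀ k ∈ K, k ∈ nz (x * z) → k * x * k⁻¹ = x := by
      intro k hk hkM
      obtain ⟨i, hi⟩ := mem_zpowers_iff.1 (mem_nz.1 hkM)
      have e : k * (x * z) * k⁻¹ = (k * x * k⁻¹) * z := by
        calc k * (x * z) * k⁻¹ = (k * x * k⁻¹) * (k * z * k⁻¹) := by group
          _ = _ := by rw [hcomm k hk z hz, mul_inv_cancel_right]
      rw [e, hxz.mul_zpow] at hi
      have hwK : (x ^ i)⁻¹ * (k * x * k⁻¹) ∈ K :=
        mul_mem (inv_mem (zpow_mem hx i)) (mul_mem (mul_mem hk hx) (inv_mem hk))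
      have hweq : (x ^ i)⁻¹ * (k * x * k⁻¹) = z ^ i * z⁻¹ := by
        rw [inv_mul_eq_iff_eq_mul, ← mul_assoc, eq_mul_inv_iff_mul_eq]
        exact hi.symm
      have h1 : z ^ i * z⁻¹ = z ^ (i - 1) := by rw [zpow_sub, zpow_one]
      have h2 : (z ^ (i - 1)) * (z ^ (i - 1)) = 1 :=
        hZ _ (h1 ▸ hweq ▸ hwK) (zpow_mem hz _)
      have h3 : (p : ℤ) ∣ i - 1 := by
        rw [← zpow_add, ← orderOf_dvd_iff_zpow_eq_one, hzo, ← two_mul] at h2
        exact (Nat.prime_iff_prime_int.1 hpp).dvd_or_dvd h2 |>.resolve_left fun h => hp2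
          ((Nat.prime_dvd_prime_iff_eq hpp Nat.prime_two).1 (Int.natCast_dvd_natCast.1 h))
      have hzi : z ^ i * z⁻¹ = 1 := by
        rw [h1, ← orderOf_dvd_iff_zpow_eq_one, hzo]; exact h3
      have hxi : x ^ i = x := by
        rw [← hxo, orderOf_dvd_iff_zpow_eq_one, zpow_sub, zpow_one, mul_inv_eq_one] at h3
        exact h3
      rw [hzi, inv_mul_eq_one, hxi] at hweq
      exact hweq.symm
    have hlt : nz (x * z) < nz x := by
      refine lt_of_le_of_ne (fun g hg => ?_) fun e => ?_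
      · obtain ⟨k, hk, r, hr, rfl⟩ := hdec g
        have hkM : k ∈ nz (x * z) := by simpa using mul_mem hg (inv_mem (hle hr))
        exact mul_mem (mem_nz.2 (by rw [hMK k hk hkM]; exact mem_zpowers x)) (hle' hr)
      · have hfx : orderOf (f x) = p :=
          orderOf_eq_prime (by rw [← map_pow, ← hxo, pow_orderOf_eq_one, map_one])
            (fun e => hxR (MonoidHom.mem_ker.2 e))
        obtain ⟨c, hc, hc'⟩ := exists_moved_odd hp hfx
        obtain ⟨k, hk, rfl⟩ := (hm ▸ mem_top c : c ∈ K.map f)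
        obtain ⟨i, hi⟩ := mem_zpowers_iff.1 hc
        have hw : (x ^ i)⁻¹ * (k * x * k⁻¹) ∈ f.ker := by
          rw [MonoidHom.mem_ker, map_mul, map_inv, map_zpow, hi, map_mul, map_mul, map_inv,
            inv_mul_cancel]
        have hwK : (x ^ i)⁻¹ * (k * x * k⁻¹) ∈ K :=
          mul_mem (inv_mem (zpow_mem hx i)) (mul_mem (mul_mem hk hx) (inv_mem hk))
        generalize hwdef : (x ^ i)⁻¹ * (k * x * k⁻¹) = w at hw hwK
        have hcw : Commute (x ^ i) w := hcomm _ (zpow_mem hx i) w hw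
        have hconj : k * x * k⁻¹ = x ^ i * w := by rw [← hwdef, mul_inv_cancel_left]
        have hwp : w ^ p = 1 := by
          have h' : (x ^ i * w) ^ p = 1 := by
            rw [← hconj, conj_pow, ← hxo, pow_orderOf_eq_one]; group
          have hxip : (x ^ i) ^ p = 1 := by
            rw [← zpow_natCast, ← zpow_mul, mul_comm, zpow_mul, zpow_natCast, ← hxo,
              pow_orderOf_eq_one, one_zpow]
          rwa [hcw.mul_pow, hxip, one_mul] at h'
        have hw1 : w = 1 := by
          have := Nat.eq_one_of_dvd_coprimes ((Nat.coprime_primes Nat.prime_two hpp).2 (Ne.symm hp2))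
            (orderOf_dvd_of_pow_eq_one (show w ^ 2 = 1 by rw [pow_two]; exact hZ w hwK hw))
            (orderOf_dvd_of_pow_eq_one hwp)
          exact orderOf_eq_one_iff.1 this
        have hkn : k ∈ nz x := mem_nz.2 (by rw [hconj, hw1, mul_one]; exact zpow_mem (mem_zpowers x) i)
        apply hc'
        rw [← map_inv, ← map_mul, ← map_mul, hMK k hk (e ▸ hkn)]
    exact hco'.1 (hco.2 _ hlt)
  -- 2-elements of the radical lie in the core
  have h2Z : ∀ z ∈ f.ker, IsPGroup 2 (zpowers z) → z ∈ K := by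
    intro z hz hz2
    obtain ⟨aX, bX, yX, ha, hb, hab, ha1, hb1, hne, hyN, hyab⟩ := exists_moved_invol
    obtain ⟨a, haK, rfl⟩ := (hm ▸ mem_top aX : aX ∈ K.map f)
    obtain ⟨y, hyK, rfl⟩ := (hm ▸ mem_top yX : yX ∈ K.map f)
    set b := y * a * y⁻¹ with hbdef
    have hbK : b ∈ K := mul_mem (mul_mem hyK haK) (inv_mem hyK)
    have hfb : f b = bX := by rw [hbdef, map_mul, map_mul, map_inv, hyab]
    subst hfb
    set E := four (f a) (f b) ha hb hab with hEdef
    set H := closure ({a * z, b} : Set G) with hH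
    have hQ : IsPGroup 2 (K ⊓ E.comap f : Subgroup G) := fun w => ⟨2, Subtype.ext (by
      have h1 : (w : G) * w ∈ f.ker := by
        rw [MonoidHom.mem_ker, map_mul]; exact mul_self_mem_four (ha := ha) (hb := hb) (hab := hab) w.2.2
      have h2 := hZ _ (mul_mem w.2.1 w.2.1) h1
      show (w : G) ^ 2 ^ 2 = 1
      rw [show (2 : ℕ) ^ 2 = 4 by norm_num, pow_succ, pow_succ, pow_two, mul_assoc]
      exact h2)⟩
    have hzn : zpowers z ≤ normalizer ((K ⊓ E.comap f : Subgroup G) : Set G) :=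
      (zpowers_le.2 (mem_centralizer_iff.2 fun w hw => hcomm w hw.1 z hz)).trans
        (centralizer_le_normalizer _)
    have hbH : b ∈ H := subset_closure (by simp)
    have hH2 : IsPGroup 2 H := by
      refine (hQ.to_sup_of_normal_left' hz2 hzn).to_le ((closure_le _).2 ?_)
      rintro _ (rfl | rfl)
      · exact mul_mem_sup (show a ∈ K ⊓ E.comap f from
          Subgroup.mem_inf.2 ⟨haK, mem_comap.2 (show f a ∈ E from mem_four.2 (Or.inr (Or.inl rfl)))⟩)
          (mem_zpowers z)
      · exact (le_sup_left : K ⊓ E.comap f ≤ _) (Subgroup.mem_inf.2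
          ⟨hbK, mem_comap.2 (show f b ∈ E from mem_four.2 (Or.inr (Or.inr (Or.inl rfl))))⟩)
    obtain ⟨hco, -⟩ := L.coatom (two_of_pGroup Nat.prime_two hH2) (fun h => hb1 (h hbH))
    have hmapH : H.map f = E := by
      refine le_antisymm ?_ fun c hc => ?_
      · rw [hH, MonoidHom.map_closure, closure_le]
        rintro _ ⟨w, (rfl | rfl), rfl⟩
        · rw [SetLike.mem_coe, map_mul, MonoidHom.mem_ker.1 hz, mul_one]
          exact mem_four.2 (Or.inr (Or.inl rfl))
        · exact mem_four.2 (Or.inr (Or.inr (Or.inl rfl)))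
      · have hfa : f a ∈ H.map f := ⟨a * z, subset_closure (by simp), by
          rw [map_mul, MonoidHom.mem_ker.1 hz, mul_one]⟩
        have hfb' : f b ∈ H.map f := mem_map_of_mem f hbH
        rcases mem_four.1 hc with rfl | rfl | rfl | rfl
        exacts [one_mem _, hfa, hfb', mul_mem hfa hfb']
    have hle : normalizer (H : Set G) ≤ (normalizer (E : Set P13)).comap f := fun g hg =>
      mem_comap.2 (mem_normalizer_of_conj fun c hc => by
        rw [← hmapH] at hc ⊢
        obtain ⟨w, hw, rfl⟩ := hc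
        exact ⟨g * w * g⁻¹, conj_mem_of_mem_normalizer hg hw, by simp⟩)
    have hyH : y ∈ normalizer (H : Set G) := by
      rcases hco.le_iff.1 hle with e | e
      · exfalso
        have hEn : E.Normal := normalizer_eq_top_iff.1 (top_unique fun c _ => by
          obtain ⟨g, rfl⟩ := L.surj c
          exact (e ▸ mem_top g : g ∈ (normalizer (E : Set P13)).comap f))
        rcases hEn.eq_bot_or_eq_top with h | h
        · exact ha1 (mem_bot.1 (h ▸ mem_four.2 (Or.inr (Or.inl rfl))))
        · have := (two_of_pGroup Nat.prime_two (isPGroup_four (a := f a) (b := f b) (ha := ha) (hb := hb)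
            (hab := hab))).isSolvable
          rw [← hEdef, h] at this
          exact not_solvable_P13 (Group.isSolvable_of_surjective
            (f := (topEquiv (G := P13)).toMonoidHom) topEquiv.surjective)
      · exact e ▸ mem_comap.2 hyN
    have hbz : b * z ∈ H := by
      have := conj_mem_of_mem_normalizer hyH (subset_closure (by simp) : a * z ∈ H)
      rwa [show y * (a * z) * y⁻¹ = b * (y * z * y⁻¹) by rw [hbdef]; group, hcomm y hyK z hz,
        mul_inv_cancel_right] at this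
    have hzH : z ∈ H := by simpa using mul_mem (inv_mem hbH) hbz
    let ψ : G →* P13 × (G ⧸ K) := f.prod (QuotientGroup.mk' K)
    have hψz : ψ z ∈ closure ({ψ (a * z), ψ b} : Set (P13 × (G ⧸ K))) := by
      have h := mem_map_of_mem ψ hzH
      rwa [hH, MonoidHom.map_closure, Set.image_pair] at h
    have hka : QuotientGroup.mk' K a = 1 := (QuotientGroup.eq_one_iff _).2 haK
    have hkb : QuotientGroup.mk' K b = 1 := (QuotientGroup.eq_one_iff _).2 hbK
    have hc' : ψ b * ψ (a * z) = ψ (a * z) * ψ b := by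
      refine Prod.ext ?_ ?_
      · show f b * f (a * z) = f (a * z) * f b
        rw [show f (a * z) = f a by rw [map_mul, MonoidHom.mem_ker.1 hz, mul_one], hab]
      · show QuotientGroup.mk' K b * QuotientGroup.mk' K (a * z) =
          QuotientGroup.mk' K (a * z) * QuotientGroup.mk' K b
        rw [hkb, one_mul, mul_one]
    obtain ⟨i, j, hij⟩ := exists_zpow_of_mem_closure_pair hc'.symm hψz
    have e1 : (f a) ^ i * (f b) ^ j = 1 := by
      have h := congrArg Prod.fst hij
      simpa [ψ, MonoidHom.mem_ker.1 hz] using h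
    have e2 : (QuotientGroup.mk' K z) ^ i = QuotientGroup.mk' K z := by
      have h := congrArg Prod.snd hij
      simp only [ψ, Prod.snd_mul, Prod.pow_snd, MonoidHom.prod_apply, map_mul, hka, hkb, one_mul,
        one_zpow, mul_one] at h
      exact h
    have hi : Even i := by
      by_contra hodd
      obtain ⟨c, rfl⟩ := Int.not_even_iff_odd.1 hodd
      rw [zpow_add, zpow_mul, zpow_one, show f a ^ (2 : ℤ) = 1 by rw [zpow_two]; exact ha,
        one_zpow, one_mul] at e1
      rcases Int.even_or_odd j with ⟨d, rfl⟩ | ⟨d, rfl⟩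
      · rw [← two_mul, zpow_mul, show f b ^ (2 : ℤ) = 1 by rw [zpow_two]; exact hb, one_zpow,
          mul_one] at e1
        exact ha1 e1
      · rw [zpow_add, zpow_mul, zpow_one, show f b ^ (2 : ℤ) = 1 by rw [zpow_two]; exact hb,
          one_zpow, one_mul] at e1
        exact hne (by rw [eq_inv_of_mul_eq_one_left e1, inv_eq_of_mul_eq_one_right hb])
    obtain ⟨k, hk⟩ := IsPGroup.iff_card.1 hz2
    rw [Nat.card_zpowers] at hk
    have hd : orderOf (QuotientGroup.mk' K z) ∣ 2 ^ k := hk ▸ orderOf_map_dvd _ z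
    have hd2 : (orderOf (QuotientGroup.mk' K z) : ℤ) ∣ i - 1 := by
      rw [orderOf_dvd_iff_zpow_eq_one, zpow_sub, e2, zpow_one, mul_inv_cancel]
    have hone : orderOf (QuotientGroup.mk' K z) = 1 := by
      obtain ⟨l, -, hl⟩ := (Nat.dvd_prime_pow Nat.prime_two).1 hd
      rcases l with _ | l
      · simpa using hl
      · exfalso
        rw [hl] at hd2
        have h2 : (2 : ℤ) ∣ i - 1 :=
          (Dvd.intro ((2 : ℤ) ^ l) (by push_cast; ring)).trans hd2
        obtain ⟨c, rfl⟩ := hi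
        omega
    exact (QuotientGroup.eq_one_iff z).1 (orderOf_eq_one_iff.1 hone)
  -- the radical is abelian
  have hRn : ∀ H : Subgroup f.ker, H.Normal := fun H => ⟨fun h hh g => by
    obtain ⟨i, hi⟩ := mem_zpowers_iff.1 (hded g g.2 h h.2)
    rw [show g * h * g⁻¹ = h ^ i from Subtype.ext (by simpa using hi.symm)]
    exact zpow_mem hh i⟩
  have hRab : IsMulCommutative f.ker := by
    by_contra hna
    obtain ⟨Q, -, -, ⟨e⟩, -⟩ := Cfsg.Agent.S4211.result hna hRn
    have hQc : Nat.card Q = 8 := by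
      rw [Nat.card_congr e.toEquiv, Nat.card_eq_fintype_card, QuaternionGroup.card]
    have hQp : IsPGroup 2 (Q.map f.ker.subtype) :=
      (IsPGroup.of_card (n := 3) (by rw [hQc]; norm_num)).map _
    have hle : Q.map f.ker.subtype ≤ K := fun w hw =>
      h2Z w (map_subtype_le Q hw) (isPGroup_zpowers_mem hQp hw)
    obtain ⟨w, hw⟩ : ∃ w, e.symm (QuaternionGroup.a 1) = w := ⟨_, rfl⟩
    have hwG : ((w : f.ker) : G) ∈ Q.map f.ker.subtype := mem_map_of_mem _ w.2
    have h2 := hZ _ (hle hwG) (w : f.ker).2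
    have h2' : w * w = 1 := Subtype.ext (Subtype.ext h2)
    rw [← hw, ← map_mul, MulEquiv.map_eq_one_iff] at h2'
    have := orderOf_dvd_of_pow_eq_one (show (QuaternionGroup.a 1 : QuaternionGroup 2) ^ 2 = 1 by
      rw [pow_two]; exact h2')
    rw [QuaternionGroup.orderOf_a_one] at this
    norm_num at this
  haveI := hRab
  have hRc : ∀ a ∈ f.ker, ∀ b ∈ f.ker, Commute a b := fun a ha b hb =>
    congrArg Subtype.val (IsMulCommutative.is_comm.comm (⟨a, ha⟩ : f.ker) ⟨b, hb⟩)
  let S : Subgroup G :=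
    { carrier := {r | r ∈ f.ker ∧ Odd (orderOf r)}
      one_mem' := ⟨one_mem _, by simp⟩
      mul_mem' := fun {a b} ha hb => ⟨mul_mem ha.1 hb.1,
        Odd.of_dvd_nat (ha.2.mul hb.2) ((hRc a ha.1 b hb.1).orderOf_mul_dvd_mul_orderOf)⟩
      inv_mem' := fun {a} ha => ⟨inv_mem ha.1, by rw [orderOf_inv]; exact ha.2⟩ }
  refine ⟨K, S, hK, ⟨fun r hr g => ⟨(inferInstance : f.ker.Normal).conj_mem r hr.1 g,
    by rw [orderOf_conj]; exact hr.2⟩⟩, ?_, ?_, hiso, ?_, ?_⟩
  · refine (eq_bot_iff_forall _).2 fun w hw => ?_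
    exact orderOf_eq_one_iff.1 (Nat.eq_one_of_dvd_coprimes ((Nat.coprime_two_left).2 hw.2.2)
      (orderOf_dvd_of_pow_eq_one (show w ^ 2 = 1 by rw [pow_two]; exact hZ w hw.1 hw.2.1))
      (dvd_refl _))
  · refine top_unique fun g _ => ?_
    obtain ⟨k, hk, r, hr, rfl⟩ := hdec g
    obtain ⟨e, m, hm', ho⟩ := Nat.exists_eq_pow_mul_and_not_dvd (orderOf_pos r).ne' 2 (by norm_num)
    have h1 : r ^ m ∈ K := h2Z _ (pow_mem hr m) (isPGroup_zpowers (n := e) (orderOf_dvd_of_pow_eq_one (by
      rw [← pow_mul, mul_comm, ← ho, pow_orderOf_eq_one])))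
    have hmo : Odd m := Nat.odd_iff.2 (by omega)
    have h2 : r ^ 2 ^ e ∈ S := ⟨pow_mem hr _, Odd.of_dvd_nat hmo (orderOf_dvd_of_pow_eq_one (by
      rw [← pow_mul, ← ho, pow_orderOf_eq_one]))⟩
    refine mul_mem ((le_sup_left : K ≤ K ⊔ S) hk) ?_
    have hbez : ((1 : ℕ) : ℤ) = (m : ℤ) * Nat.gcdA m (2 ^ e) + ((2 ^ e : ℕ) : ℤ) * Nat.gcdB m (2 ^ e) := by
      rw [← Nat.gcd_eq_gcd_ab,
        (Nat.Coprime.pow_right e (Nat.coprime_two_right.2 hmo) : Nat.Coprime m (2 ^ e))]
    rw [← zpow_one r, show (1 : ℤ) = ((1 : ℕ) : ℤ) from rfl, hbez, zpow_add, zpow_mul, zpow_mul,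
      zpow_natCast, zpow_natCast]
    exact mul_mem (zpow_mem ((le_sup_left : K ≤ K ⊔ S) h1) _)
      (zpow_mem ((le_sup_right : S ≤ K ⊔ S) h2) _)
  · exact ⟨⟨fun a b => Subtype.ext (hRc a a.2.1 b b.2.1).eq⟩⟩
  · by_contra hcop
    obtain ⟨q, hq, hqK, hqS⟩ := Nat.Prime.not_coprime_iff_dvd.1 hcop
    haveI := Fact.mk hq
    obtain ⟨⟨s, hs⟩, hso⟩ := exists_prime_orderOf_dvd_card' q hqS
    rw [orderOf_mk] at hso
    have hq2 : q ≠ 2 := by
      rintro rfl
      have := hs.2
      rw [hso] at this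
      exact absurd this (by decide)
    have hdiv : q ∣ 2 ^ 3 * 3 * 7 * 13 := by
      rcases hKcard with e | e <;> rw [e] at hqK <;> refine hqK.trans ?_ <;> norm_num
    have hq' : q = 3 ∨ q = 7 ∨ q = 13 := by
      rcases (hq.dvd_mul).1 hdiv with h | h
      · rcases (hq.dvd_mul).1 h with h | h
        · rcases (hq.dvd_mul).1 h with h | h
          · exact absurd ((Nat.prime_dvd_prime_iff_eq hq Nat.prime_two).1 (hq.dvd_of_dvd_pow h)) hq2
          · exact Or.inl ((Nat.prime_dvd_prime_iff_eq hq Nat.prime_three).1 h)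
        · exact Or.inr (Or.inl ((Nat.prime_dvd_prime_iff_eq hq (by norm_num)).1 h))
      · exact Or.inr (Or.inr ((Nat.prime_dvd_prime_iff_eq hq (by norm_num)).1 h))
    exact hnp q hq' (hso ▸ orderOf_dvd_natCard _ hs.1)

end Cfsg.Agent.MaxNormalizer
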