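import Cfsg.Agent.Lib.MaxNormalizer.Basic
import Cfsg.Agent.Lib.PrimeGraph.ThreePrimes

/-!
# Passing to the quotient by the solvable radical
-/

set_option autoImplicit false
set_option linter.style.haveILetI false
set_option linter.unusedSectionVars false

namespace Cfsg.Agent.MaxNormalizer

open Subgroup
open scoped Pointwise

variable {G : Type*} [Group G] [Finite G]

/-- No nontrivial solvable normal subgroup. -/
def RadFree (G : Type*) [Group G] : Prop :=
  ∀ N : Subgroup G, N.Normal → Group.IsSolvable N → N = ⊥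

theorem exists_greatest_solvable (K : Subgroup G) :
    ∃ A : Subgroup G, (A ≤ K ∧ Group.IsSolvable A ∧ K ≤ normalizer (A : Set G)) ∧
      ∀ B : Subgroup G, B ≤ K → Group.IsSolvable B → K ≤ normalizer (B : Set G) → B ≤ A := by
  let S : Set (Subgroup G) := {A | A ≤ K ∧ Group.IsSolvable A ∧ K ≤ normalizer (A : Set G)}
  have hne : S.Nonempty := ⟨⊥, bot_le, inferInstance,
    fun g _ => by rw [normalizer_eq_top]; trivial⟩
  obtain ⟨A, hA, hmax⟩ := S.toFinite.exists_maximal hne
  refine ⟨A, hA, fun B hB hBs hBn => ?_⟩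
  obtain ⟨hAK, hAs, hAn⟩ := hA
  haveI := hAs
  haveI := hBs
  refine le_sup_right.trans (hmax (y := A ⊔ B) ⟨sup_le hAK hB,
    PrimeGraph.isSolvable_sup_of_le_normalizer A B (hB.trans hAn), fun g hg => ?_⟩ le_sup_left)
  refine mem_normalizer_of_conj fun a ha => ?_
  have : (A ⊔ B).map (MulAut.conj g).toMonoidHom ≤ A ⊔ B := by
    rw [Subgroup.map_sup]
    refine sup_le_sup ?_ ?_
    · rintro _ ⟨x, hx, rfl⟩; exact conj_mem_of_mem_normalizer (hAn hg) hx
    · rintro _ ⟨x, hx, rfl⟩; exact conj_mem_of_mem_normalizer (hBn hg) hx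
  exact this ⟨a, ha, rfl⟩

theorem eq_bot_of_subnormal (hG : RadFree G) {K : Subgroup G} (hK : K.IsSubnormal) :
    ∀ A : Subgroup G, A ≤ K → Group.IsSolvable A → K ≤ normalizer (A : Set G) → A = ⊥ := by
  induction hK with
  | top =>
    intro A _ hs hn
    exact hG A (normalizer_eq_top_iff.1 (top_unique hn)) hs
  | step H L hle hL hN ih =>
    intro A hA hs hn
    obtain ⟨M, ⟨hM1, hM2, hM3⟩, hM4⟩ := exists_greatest_solvable H
    have hLH : L ≤ normalizer (H : Set G) := (normal_subgroupOf_iff_le_normalizer hle).1 hN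
    have hML : L ≤ normalizer (M : Set G) := by
      intro l hl
      refine mem_normalizer_of_conj fun a ha => ?_
      have hle' : M.map (MulAut.conj l).toMonoidHom ≤ M := by
        refine hM4 _ ?_ ?_ ?_
        · rintro _ ⟨x, hx, rfl⟩
          exact conj_mem_of_mem_normalizer (hLH hl) (hM1 hx)
        · haveI := hM2
          exact Group.isSolvable_of_surjective ((MulAut.conj l).toMonoidHom.subgroupMap_surjective M)
        · intro h hh
          refine mem_normalizer_of_conj fun b hb => ?_
          obtain ⟨x, hx, rfl⟩ := hb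
          have h' : l⁻¹ * h * l ∈ H := by
            simpa using conj_mem_of_mem_normalizer ((normalizer (H : Set G)).inv_mem (hLH hl)) hh
          refine ⟨(l⁻¹ * h * l) * x * (l⁻¹ * h * l)⁻¹, conj_mem_of_mem_normalizer (hM3 h') hx, ?_⟩
          show l * _ * l⁻¹ = h * (l * x * l⁻¹) * h⁻¹
          group
      exact hle' ⟨a, ha, rfl⟩
    exact le_bot_iff.1 ((hM4 A hA hs hn).trans (ih M (hM1.trans hle) hM2 hML).le)

/-- A solvable subnormal subgroup of a group without solvable normal subgroups is trivial. -/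
theorem RadFree.eq_bot (hG : RadFree G) {A : Subgroup G} (hA : A.IsSubnormal)
    (hs : Group.IsSolvable A) : A = ⊥ :=
  eq_bot_of_subnormal hG hA A le_rfl hs le_normalizer

theorem exists_radical : ∃ R : Subgroup G, R.Normal ∧ Group.IsSolvable R ∧
    ∀ A : Subgroup G, A.Normal → Group.IsSolvable A → A ≤ R := by
  obtain ⟨R, ⟨-, hR, hRn⟩, hmax⟩ := exists_greatest_solvable (⊤ : Subgroup G)
  exact ⟨R, normalizer_eq_top_iff.1 (top_unique hRn), hR, fun A hA hs =>
    hmax A le_top hs (by rw [normalizer_eq_top])⟩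

theorem radFree_quotient {R : Subgroup G} [R.Normal] (hR : Group.IsSolvable R)
    (hmax : ∀ A : Subgroup G, A.Normal → Group.IsSolvable A → A ≤ R) : RadFree (G ⧸ R) := by
  intro N hN hs
  haveI := hN
  haveI := hs
  haveI := hR
  set A := N.comap (QuotientGroup.mk' R) with hA
  have hsol : Group.IsSolvable A := by
    let f : ↥A →* ↥N := ((QuotientGroup.mk' R).comp A.subtype).codRestrict N fun a => a.2
    refine Group.isSolvable_of_ker_le_range
      (Subgroup.inclusion (show R ≤ A from fun r hr => by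
        show QuotientGroup.mk' R r ∈ N
        rw [(QuotientGroup.eq_one_iff r).2 hr |> (fun e => show QuotientGroup.mk' R r = 1 from e)]
        exact one_mem N)) f ?_
    intro a ha
    have : (QuotientGroup.mk' R) (a : G) = 1 := congrArg Subtype.val ha
    exact ⟨⟨a, (QuotientGroup.eq_one_iff _).1 this⟩, rfl⟩
  have hle := hmax A inferInstance hsol
  refine eq_bot_iff.2 fun x hx => ?_
  obtain ⟨g, rfl⟩ := QuotientGroup.mk'_surjective R x
  exact mem_bot.2 ((QuotientGroup.eq_one_iff g).2 (hle hx))

/-- A subgroup minimal with given image in a quotient has no new prime divisors. -/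
theorem exists_lift {R : Subgroup G} [R.Normal] {H : Subgroup (G ⧸ R)} (hH : Two H) :
    ∃ K : Subgroup G, K.map (QuotientGroup.mk' R) = H ∧ Two K := by
  set π := QuotientGroup.mk' R
  let S : Set (Subgroup G) := {K | K.map π = H}
  have hne : S.Nonempty := ⟨H.comap π,
    map_comap_eq_self_of_surjective (QuotientGroup.mk'_surjective R) H⟩
  obtain ⟨K, hK, hmin⟩ := S.toFinite.exists_minimal hne
  have hmin' : ∀ L ≤ K, L.map π = H → L = K := fun L hL hLH => le_antisymm hL (hmin hLH hL)
  obtain ⟨p, q, hp, hq, hpq⟩ := hH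
  refine ⟨K, hK, p, q, hp, hq, fun r hr hd => ?_⟩
  by_contra hnr
  haveI := Fact.mk hr
  have hr' : ¬ r ∣ Nat.card H := fun h => hnr (hpq r hr h)
  let N : Subgroup K := R.subgroupOf K
  haveI : N.Normal := inferInstance
  obtain ⟨P⟩ : Nonempty (Sylow r K) := inferInstance
  have hPN : (P : Subgroup K) ≤ N := by
    intro x hx
    rw [mem_subgroupOf, ← QuotientGroup.eq_one_iff (N := R)]
    have h1 : orderOf (π (x : G)) ∣ Nat.card H := orderOf_dvd_natCard H (hK ▸ mem_map_of_mem π x.2)
    have h2 : orderOf (π (x : G)) ∣ orderOf x := by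
      rw [← orderOf_coe x]; exact orderOf_map_dvd π _
    obtain ⟨k, hk⟩ := IsPGroup.iff_card.1 P.2
    have h3 : orderOf x ∣ r ^ k := hk ▸ orderOf_dvd_natCard _ hx
    exact orderOf_eq_one_iff.1 (Nat.eq_one_of_dvd_coprimes
      ((Nat.Coprime.pow_left k ((hr.coprime_iff_not_dvd).2 hr'))) (h2.trans h3) h1)
  have hmap : ∀ L : Subgroup K, L ⊔ N = ⊤ → L = ⊤ := by
    intro L hL
    have himg : (L.map K.subtype).map π = H := by
      refine le_antisymm (hK ▸ map_mono (map_subtype_le L)) ?_
      rw [← hK]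
      rintro _ ⟨k, hk, rfl⟩
      have hk' : (⟨k, hk⟩ : K) ∈ ((L : Set K) * (N : Set K)) := by
        rw [← mul_normal L N, hL]; trivial
      obtain ⟨l, hl, n, hn, he⟩ := hk'
      refine ⟨(l : G), mem_map_of_mem _ hl, ?_⟩
      have he' : (l : G) * (n : G) = k := congrArg Subtype.val he
      rw [← he', map_mul, show π (n : G) = 1 from (QuotientGroup.eq_one_iff _).2 hn, mul_one]
    have := hmin' _ (map_subtype_le L) himg
    refine map_injective K.subtype_injective ?_
    rw [this, ← MonoidHom.range_eq_map, range_subtype]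
  have hPn : (P : Subgroup K).Normal :=
    normalizer_eq_top_iff.1 (hmap _ (Sylow.normalizer_sup_eq_top' P hPN))
  haveI := hPn
  obtain ⟨L, hL⟩ := exists_right_complement'_of_coprime P.card_coprime_index
  have hLtop : L = ⊤ := hmap L (top_unique (by
    rw [← hL.sup_eq_top, sup_comm]
    exact sup_le_sup_left hPN L))
  have hP1 : (P : Subgroup K) = ⊥ := isComplement'_top_right.1 (hLtop ▸ hL)
  have := P.dvd_card_of_dvd_card hd
  rw [hP1, card_bot] at this
  exact hr.one_lt.not_ge (Nat.le_of_dvd one_pos this)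

/-- The hypothesis of the theorem. -/
def MN (G : Type*) [Group G] : Prop :=
  ∀ H : Subgroup G, ¬ H.IsSubnormal → Two H → IsCoatom (normalizer (H : Set G))

theorem MN.quotient (hG : MN G) {R : Subgroup G} [R.Normal] (hX : RadFree (G ⧸ R)) :
    NM (G ⧸ R) := by
  intro H hH h2
  set π := QuotientGroup.mk' R
  obtain ⟨K, rfl, hK2⟩ := exists_lift h2
  have hns : ¬ K.IsSubnormal := fun h =>
    hH (hX.eq_bot (h.map (QuotientGroup.mk'_surjective R)) h2.isSolvable)
  have hco := hG K hns hK2
  set M := normalizer ((K.map π : Subgroup (G ⧸ R)) : Set (G ⧸ R))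
  have hle : normalizer (K : Set G) ≤ M.comap π := by
    intro g hg
    refine mem_comap.2 (mem_normalizer_of_conj fun a ha => ?_)
    obtain ⟨k, hk, rfl⟩ := ha
    exact ⟨g * k * g⁻¹, conj_mem_of_mem_normalizer hg hk, by simp⟩
  have hMtop : M ≠ ⊤ := fun h =>
    hH (hX (K.map π) (normalizer_eq_top_iff.1 h) h2.isSolvable)
  have hsurj := QuotientGroup.mk'_surjective R
  have hne : M.comap π ≠ ⊤ := fun h => hMtop (top_unique fun x _ => by
    obtain ⟨g, rfl⟩ := hsurj x
    exact (h ▸ mem_top g : g ∈ M.comap π))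
  have heq : M.comap π = normalizer (K : Set G) := by
    by_contra he
    exact hne (hco.2 _ (lt_of_le_of_ne hle (Ne.symm he)))
  refine ⟨hMtop, fun M' hlt => ?_⟩
  have : M.comap π < M'.comap π := (comap_lt_comap_of_surjective hsurj).2 hlt
  rw [heq] at this
  have htop := hco.2 _ this
  exact top_unique fun x _ => by
    obtain ⟨g, rfl⟩ := hsurj x
    exact (htop ▸ mem_top g : g ∈ M'.comap π)

end Cfsg.Agent.MaxNormalizer
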