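import Cfsg.Agent.Lib.MaxNormalizer.Quot
import Cfsg.Agent.S0205
import Cfsg.Agent.Lib.SolvableTwo.Basic

/-!
# The socle is simple
-/

set_option autoImplicit false
set_option linter.style.haveILetI false
set_option linter.unusedSectionVars false

namespace Cfsg.Agent.MaxNormalizer

open Subgroup
open scoped Pointwise

variable {X : Type*} [Group X] [Finite X]

/-- `T` is a minimal normal subgroup. -/
structure IsMinNormal (T : Subgroup X) : Prop where
  normal : T.Normal
  ne_bot : T ≠ ⊥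
  min : ∀ A : Subgroup X, A.Normal → A ≤ T → A ≠ ⊥ → A = T

theorem exists_minNormal_le {N : Subgroup X} (hN : N.Normal) (hne : N ≠ ⊥) :
    ∃ T, IsMinNormal T ∧ T ≤ N := by
  let S : Set (Subgroup X) := {A | A.Normal ∧ A ≠ ⊥ ∧ A ≤ N}
  obtain ⟨T, ⟨hT1, hT2, hT3⟩, hmin⟩ := S.toFinite.exists_minimal ⟨N, hN, hne, le_rfl⟩
  exact ⟨T, ⟨hT1, hT2, fun A hA hle hA' =>
    le_antisymm hle (hmin (y := A) ⟨hA, hA', hle.trans hT3⟩ hle)⟩, hT3⟩

theorem IsMinNormal.not_isSolvable (hrad : RadFree X) {T : Subgroup X} (h : IsMinNormal T) :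
    ¬ Group.IsSolvable T := fun hs => h.ne_bot (hrad T h.normal hs)

theorem IsMinNormal.even (hrad : RadFree X) {T : Subgroup X} (h : IsMinNormal T) :
    2 ∣ Nat.card T := by
  rw [← even_iff_two_dvd, ← Nat.not_odd_iff_even]
  exact fun ho => h.not_isSolvable hrad (Cfsg.Agent.S0205.result ho)

theorem exists_odd_prime_dvd {Y : Type*} [Group Y] [Finite Y] (h : ¬ Group.IsSolvable Y) :
    ∃ p : ℕ, p.Prime ∧ p ≠ 2 ∧ p ∣ Nat.card Y := by
  by_contra hno
  push Not at hno
  refine h (SylowCount.isSolvable_of_primeFactors_card_le_two ?_)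
  refine le_trans (Finset.card_le_card (t := ({2} : Finset ℕ)) fun r hr => ?_) (by simp)
  obtain ⟨h1, h2, -⟩ := Nat.mem_primeFactors.1 hr
  by_contra h'
  exact hno r h1 (by simpa using h') h2

theorem zpowers_isSolvable (x : X) : Group.IsSolvable (zpowers x) :=
  Group.isSolvable_of_comm fun a b => mul_comm' a b
where
  mul_comm' {x : X} (a b : zpowers x) : a * b = b * a := (IsCyclic.isMulCommutative).is_comm.comm a b

theorem RadFree.not_normalizes_zpowers (hrad : RadFree X) {T : Subgroup X} (hT : T.Normal)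
    {x : X} (hx : x ∈ T) (hx1 : x ≠ 1) : ¬ T ≤ nz x := fun h => by
  have hle : zpowers x ≤ T := zpowers_le.2 hx
  exact zpowers_ne_bot_of_ne hx1 (hrad.eq_bot
    (.step _ T hle hT.isSubnormal ((normal_subgroupOf_iff_le_normalizer hle).2 h))
    (zpowers_isSolvable x))

theorem IsMinNormal.simple (hNM : NM X) (hrad : RadFree X) {T : Subgroup X} (h : IsMinNormal T)
    {A : Subgroup X} (hA : A ≤ T) (hn : T ≤ normalizer (A : Set X)) : A = ⊥ ∨ A = T := by
  by_cases hA1 : A = ⊥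
  · exact Or.inl hA1
  right
  let S : Set (Subgroup X) := {B | B ≠ ⊥ ∧ B ≤ A ∧ T ≤ normalizer (B : Set X)}
  obtain ⟨B, ⟨hB1, hBA, hBn⟩, hmin⟩ := S.toFinite.exists_minimal ⟨A, hA1, le_rfl, hn⟩
  suffices B = T from le_antisymm hA (this ▸ hBA)
  have hmin' : ∀ C, C ≤ B → T ≤ normalizer (C : Set X) → C ≠ ⊥ → C = B := fun C hC hCn hC1 =>
    le_antisymm hC (hmin (y := C) ⟨hC1, hC.trans hBA, hCn⟩ hC)
  obtain ⟨p, hp, hpd⟩ := Nat.exists_prime_and_dvd (n := Nat.card B)
    (fun e => hB1 (card_eq_one.1 e))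
  haveI := Fact.mk hp
  obtain ⟨⟨x, hx⟩, hx'⟩ := exists_prime_orderOf_dvd_card' p hpd
  rw [orderOf_mk] at hx'
  have hx1 : x ≠ 1 := fun e => by rw [e, orderOf_one] at hx'; exact hp.one_lt.ne hx'
  have hxT : x ∈ T := hA (hBA hx)
  haveI := h.normal
  have hco := hNM _ (zpowers_ne_bot_of_ne hx1) (two_of_pGroup hp (isPGroup_zpowers_prime hx'))
  have hsup : nz x ⊔ T = ⊤ := hco.2 _ (left_lt_sup.2 (hrad.not_normalizes_zpowers h.normal hxT hx1))
  have hle : nz x ≤ normalizer (B : Set X) := by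
    intro g hg
    refine mem_normalizer_of_conj fun b hb => ?_
    set B' := B.map (MulAut.conj g).toMonoidHom with hB'
    have hmem : g * x * g⁻¹ ∈ B := by
      obtain ⟨i, hi⟩ := mem_zpowers_iff.1 (mem_nz.1 hg)
      rw [← hi]; exact zpow_mem hx i
    have hB'T : T ≤ normalizer (B' : Set X) := by
      intro t ht
      refine mem_normalizer_of_conj fun c hc => ?_
      obtain ⟨d, hd, rfl⟩ := hc
      have ht' : g⁻¹ * t * g ∈ T := by simpa using h.normal.conj_mem t ht g⁻¹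
      refine ⟨(g⁻¹ * t * g) * d * (g⁻¹ * t * g)⁻¹, conj_mem_of_mem_normalizer (hBn ht') hd, ?_⟩
      show g * _ * g⁻¹ = t * (g * d * g⁻¹) * t⁻¹
      group
    have hn2 : T ≤ normalizer ((B ⊓ B' : Subgroup X) : Set X) := fun t ht =>
      mem_normalizer_of_conj fun c hc => ⟨conj_mem_of_mem_normalizer (hBn ht) hc.1,
        conj_mem_of_mem_normalizer (hB'T ht) hc.2⟩
    have hne : B ⊓ B' ≠ ⊥ := fun e => hx1 (conj_eq_one_iff.1
      (mem_bot.1 (e ▸ ⟨hmem, mem_map_of_mem _ hx⟩ : g * x * g⁻¹ ∈ (⊥ : Subgroup X))))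
    have e1 := hmin' _ inf_le_left hn2 hne
    have e2 : B' = B := by
      refine (eq_of_le_of_card_ge (inf_eq_left.1 e1) ?_).symm
      rw [hB', card_map_of_injective (MulAut.conj g).injective]
    exact e2.le ⟨b, hb, rfl⟩
  have hBnorm : B.Normal := normalizer_eq_top_iff.1 (top_unique (hsup ▸ sup_le hle hBn))
  exact h.min B hBnorm (hBA.trans hA) hB1

theorem IsMinNormal.isSimpleGroup (hNM : NM X) (hrad : RadFree X) {T : Subgroup X}
    (h : IsMinNormal T) : IsSimpleGroup T := by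
  haveI : Nontrivial T := (nontrivial_iff_ne_bot T).2 h.ne_bot
  refine ⟨fun A hA => ?_⟩
  rcases h.simple hNM hrad (map_subtype_le A) (fun t ht => mem_normalizer_of_conj fun a ha => by
      obtain ⟨b, hb, rfl⟩ := ha
      exact ⟨_, hA.conj_mem b hb ⟨t, ht⟩, rfl⟩) with h' | h'
  · exact Or.inl ((map_eq_bot_iff_of_injective A T.subtype_injective).1 h')
  · refine Or.inr (map_injective T.subtype_injective (h'.trans ?_))
    rw [← MonoidHom.range_eq_map, range_subtype]

theorem IsMinNormal.centralizer_eq_bot (hNM : NM X) (hrad : RadFree X) {T : Subgroup X}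
    (h : IsMinNormal T) : centralizer (T : Set X) = ⊥ := by
  haveI := h.normal
  by_contra hne
  obtain ⟨T', hT', hle⟩ := exists_minNormal_le
    (inferInstance : (centralizer (T : Set X)).Normal) hne
  haveI : Fact (Nat.Prime 2) := ⟨Nat.prime_two⟩
  obtain ⟨⟨a, haT⟩, ha⟩ := exists_prime_orderOf_dvd_card' 2 (h.even hrad)
  rw [orderOf_mk] at ha
  obtain ⟨p, hp, hp2, hpd⟩ := exists_odd_prime_dvd (hT'.not_isSolvable hrad)
  haveI := Fact.mk hp
  obtain ⟨⟨b, hbT⟩, hb⟩ := exists_prime_orderOf_dvd_card' p hpd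
  rw [orderOf_mk] at hb
  have hb1 : b ≠ 1 := fun e => by rw [e, orderOf_one] at hb; exact hp.one_lt.ne hb
  have hcomm : ∀ c ∈ T', c * a = a * c := fun c hc =>
    (mem_centralizer_iff.1 (hle hc) a haT).symm
  have e := hNM.nz_eq_cen hp hp2 ha (isPGroup_zpowers_prime hb) hb1 (hcomm b hbT)
  exact hrad.not_normalizes_zpowers hT'.normal hbT hb1
    (e ▸ fun c hc => mem_cen.2 (hcomm c hc))

theorem IsMinNormal.le_of_normal (hNM : NM X) (hrad : RadFree X) {T : Subgroup X}
    (h : IsMinNormal T) {N : Subgroup X} (hN : N.Normal) (hne : N ≠ ⊥) : T ≤ N := by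
  haveI := h.normal
  haveI := hN
  by_cases hi : N ⊓ T = ⊥
  · refine absurd ?_ hne
    rw [eq_bot_iff, ← h.centralizer_eq_bot hNM hrad]
    intro n hn
    refine mem_centralizer_iff.2 fun t ht => ?_
    have hmem : n * t * n⁻¹ * t⁻¹ ∈ N ⊓ T := by
      refine ⟨?_, mul_mem (h.normal.conj_mem t ht n) (T.inv_mem ht)⟩
      rw [mul_assoc, mul_assoc]
      refine mul_mem hn ?_
      simpa [mul_assoc] using hN.conj_mem n⁻¹ (inv_mem hn) t
    rw [hi, mem_bot, mul_inv_eq_one, mul_inv_eq_iff_eq_mul] at hmem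
    exact hmem.symm
  · exact (h.min _ inferInstance inf_le_right hi) ▸ inf_le_left

theorem oddCore_eq_bot (hrad : RadFree X) : Cfsg.oddCore X = ⊥ := by
  refine hrad _ ?_ (Cfsg.Agent.S0205.result SolvableTwo.odd_card_oddCore)
  exact PCore.pPrimeCore_normal

theorem center_eq_bot (hrad : RadFree X) : center X = ⊥ :=
  hrad _ inferInstance (Group.isSolvable_of_comm fun a b =>
    Subtype.ext (mem_center_iff.1 b.2 a))

end Cfsg.Agent.MaxNormalizer
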