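import Cfsg.Agent.Lib.MaxNormalizer.Common

/-!
# An involution of the socle with a 2-centraliser excludes the other kind
-/

set_option autoImplicit false
set_option linter.style.haveILetI false
set_option linter.unusedSectionVars false

namespace Cfsg.Agent.MaxNormalizer

open Subgroup
open scoped Pointwise

variable {X : Type*} [Group X] [Finite X]

/-- The four group on two commuting involutions. -/
def four (a b : X) (ha : a * a = 1) (hb : b * b = 1) (hab : b * a = a * b) : Subgroup X where
  carrier := {x | x = 1 ∨ x = a ∨ x = b ∨ x = a * b}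
  one_mem' := Or.inl rfl
  mul_mem' := by
    have h2 : b * (a * b) = a := by rw [← mul_assoc, hab, mul_assoc, hb, mul_one]
    have h3 : a * b * a = b := by rw [mul_assoc, hab, ← mul_assoc, ha, one_mul]
    have h4 : a * b * b = a := by rw [mul_assoc, hb, mul_one]
    have h5 : a * (a * b) = b := by rw [← mul_assoc, ha, one_mul]
    have h6 : a * b * (a * b) = 1 := by rw [← mul_assoc, h3, hb]
    rintro x y (rfl | rfl | rfl | rfl) (rfl | rfl | rfl | rfl) <;>
      simp [ha, hb, hab, h2, h3, h4, h5, h6]
  inv_mem' := by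
    have hai : a⁻¹ = a := inv_eq_of_mul_eq_one_right ha
    have hbi : b⁻¹ = b := inv_eq_of_mul_eq_one_right hb
    rintro x (rfl | rfl | rfl | rfl) <;> simp [hai, hbi, hab]

theorem mem_four {a b : X} {ha : a * a = 1} {hb : b * b = 1} {hab : b * a = a * b} {x : X} :
    x ∈ four a b ha hb hab ↔ x = 1 ∨ x = a ∨ x = b ∨ x = a * b := Iff.rfl

theorem mul_self_mem_four {a b : X} {ha : a * a = 1} {hb : b * b = 1} {hab : b * a = a * b} {x : X}
    (hx : x ∈ four a b ha hb hab) : x * x = 1 := by
  rcases mem_four.1 hx with rfl | rfl | rfl | rfl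
  · exact one_mul 1
  · exact ha
  · exact hb
  · calc a * b * (a * b) = a * (b * a) * b := by group
      _ = a * a * (b * b) := by rw [hab]; group
      _ = 1 := by rw [ha, hb, one_mul]

theorem isPGroup_four {a b : X} {ha : a * a = 1} {hb : b * b = 1} {hab : b * a = a * b} :
    IsPGroup 2 (four a b ha hb hab) := fun x =>
  ⟨1, Subtype.ext (by
    rw [pow_one, pow_two]; exact mul_self_mem_four x.2)⟩

theorem four_ne_bot {a b : X} {ha : a * a = 1} {hb : b * b = 1} {hab : b * a = a * b} (h : a ≠ 1) :
    four a b ha hb hab ≠ ⊥ := fun e => h (mem_bot.1 (e ▸ mem_four.2 (Or.inr (Or.inl rfl))))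

theorem card_four {a b : X} {ha : a * a = 1} {hb : b * b = 1} {hab : b * a = a * b} (h1 : a ≠ 1)
    (h2 : b ≠ 1) (h3 : a ≠ b) : Nat.card (four a b ha hb hab) = 4 := by
  have hprod : a * b ≠ 1 := fun e => h3 (by
    rw [eq_inv_of_mul_eq_one_left e, inv_eq_of_mul_eq_one_right hb])
  rw [← SetLike.coe_sort_coe, Nat.card_coe_set_eq,
    show (four a b ha hb hab : Set X) = {1, a, b, a * b} from rfl,
    Set.ncard_insert_of_notMem (by simp [Ne.symm h1, Ne.symm h2, Ne.symm hprod]),
    Set.ncard_insert_of_notMem (by simp [h3, h2]), Set.ncard_pair (by simp [h1])]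

variable {T : Subgroup X} (C : Soc T)
include C

/-- A second central conjugate does not exist. -/
theorem Soc.central_conj_eq {S : Sylow 2 X} {z : X} (hz : orderOf z = 2)
    (hS : cen z = (S : Subgroup X)) {g : X} (hg : (S : Subgroup X) ≤ cen (g * z * g⁻¹)) :
    g * z * g⁻¹ = z := by
  refine C.eq_of_cen_conj hz (eq_of_le_of_card_ge (hS ▸ hg) ?_).symm
  rw [card_cen_conj]

theorem Soc.cen_eq_sylow {S : Sylow 2 X} {z : X} (hSz : (S : Subgroup X) ≤ cen z)
    (hC : IsPGroup 2 (cen z)) : cen z = (S : Subgroup X) := S.3 hC hSz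

theorem Soc.no_typeB {S : Sylow 2 X} {z : X} (hz : orderOf z = 2) (hzS : z ∈ (S : Subgroup X))
    (hS : cen z = (S : Subgroup X)) {v : X} (hv : orderOf v = 2) (hvS : v ∈ (S : Subgroup X))
    (hB : ¬ IsPGroup 2 (cen v)) : False := by
  haveI : Fact (Nat.Prime 2) := ⟨Nat.prime_two⟩
  obtain ⟨p, x, hp, hp2, hx, hxv⟩ := C.exists_odd_nz hv hB
  have hzS' : ∀ s ∈ (S : Subgroup X), s * z = z * s := fun s hs => mem_cen.1 (hS.symm ▸ hs)
  have hCz : IsPGroup 2 (cen z) := hS.symm ▸ S.2
  have hz2 := mul_self_of_orderOf hz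
  have hv2 := mul_self_of_orderOf hv
  set D := (S : Subgroup X) ⊓ cen v with hDdef
  have hD : IsPGroup 2 D := S.2.to_le inf_le_left
  have hDx : D ≤ nz x := hxv ▸ inf_le_right
  obtain ⟨h, hwS, hwz⟩ := C.exists_conj_ne hz hzS
  set w := h * z * h⁻¹ with hw
  have hw2 : w * w = 1 := conj_mul_self hz2
  have hDS : D < (S : Subgroup X) := by
    refine lt_of_le_of_ne inf_le_left fun e => hwz (C.central_conj_eq hz hS fun s hs => ?_)
    have hs' : s ∈ D := e ▸ hs
    exact mem_cen.2 (C.commute_of_odd hp hp2 hx hD hDx (e.symm ▸ hwS) hw2 hs')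
  obtain ⟨g, hgS, hgD, hgn⟩ := mem_sylow_of_normalizer hD S.2 hDS
  have hvD : v ∈ D := ⟨hvS, mem_cen.2 rfl⟩
  have hzD : z ∈ D := ⟨hzS, mem_cen.2 (hzS' v hvS).symm⟩
  set v' := g * v * g⁻¹ with hv'
  have hv'D : v' ∈ D := conj_mem_of_mem_normalizer hgn hvD
  have hv'v : v' ≠ v := fun e => hgD ⟨hgS, mem_cen_iff_conj.2 e⟩
  have hcv : cen v' ≠ cen v := fun e => hv'v (C.eq_of_cen_conj hv e)
  set x' := g * x * g⁻¹ with hx'
  have hx'o : orderOf x' = p := by rw [hx', orderOf_conj, hx]
  have hx'v' : x' * v' = v' * x' := by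
    have hxv' : x * v = v * x := mem_cen.1 (hxv ▸ mem_nz.2 (by group; exact mem_zpowers x))
    calc x' * v' = g * (x * v) * g⁻¹ := by rw [hx', hv']; group
      _ = v' * x' := by rw [hxv', hx', hv']; group
  have hx'n : nz x' = cen v' := C.nm.nz_eq_cen hp hp2 (by rw [hv', orderOf_conj, hv])
    (isPGroup_zpowers_prime hx'o) (ne_one_of_orderOf hp hx'o) hx'v'
  have hcenx : ∀ e, e * e = 1 → e ≠ 1 → e ∈ cen x → cen e = cen v := fun e he he1 hec => by
    rw [← hxv, ← C.nm.nz_eq_cen hp hp2 (orderOf_two_of_mul_self he he1)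
      (isPGroup_zpowers_prime hx) (ne_one_of_orderOf hp hx) (mem_cen.1 hec).symm]
  have hcenx' : ∀ e, e * e = 1 → e ≠ 1 → e ∈ cen x' → cen e = cen v' := fun e he he1 hec => by
    rw [← hx'n, ← C.nm.nz_eq_cen hp hp2 (orderOf_two_of_mul_self he he1)
      (isPGroup_zpowers_prime hx'o) (ne_one_of_orderOf hp hx'o) (mem_cen.1 hec).symm]
  have hDx' : D ≤ nz x' := by
    intro d hd
    rw [hx'n, mem_cen_conj]
    have := conj_mem_of_mem_normalizer ((normalizer (D : Set X)).inv_mem hgn) hd
    rw [inv_inv] at this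
    exact this.2
  have hzx : z ∉ cen x := fun h => by
    have hd := orderOf_dvd_natCard _ (mem_cen_comm h)
    rw [hx] at hd
    exact hp2 (prime_eq_of_dvd_pGroup Nat.prime_two hp hCz hd)
  have hv1 : v ≠ 1 := ne_one_of_orderOf Nat.prime_two hv
  have hz1 : z ≠ 1 := ne_one_of_orderOf Nat.prime_two hz
  have hKv : ∀ e ∈ D, e * e = 1 → e ∈ cen x → e = 1 ∨ e = v := by
    intro e he he2 hec
    by_contra hne
    push Not at hne
    have hec' : e ∉ cen x' := fun h => hcv ((hcenx' e he2 hne.1 h).symm.trans (hcenx e he2 hne.1 hec))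
    have hvc' : v ∉ cen x' := fun h => hcv (hcenx' v hv2 hv1 h).symm
    have h1 : e * v ∈ cen x' :=
      mul_mem_cen_of_inverting hp hx'o (hDx' he) he2 (hDx' hvD) hv2 hec' hvc'
    have h2 : e * v ∈ cen x := mul_mem hec (mem_cen_comm (hxv ▸ mem_nz.2 (by group; exact mem_zpowers x)))
    have hev : (e * v) * (e * v) = 1 := by
      calc (e * v) * (e * v) = e * (v * e) * v := by group
        _ = (e * e) * (v * v) := by rw [← mem_cen.1 he.2]; group
        _ = 1 := by rw [he2, hv2, one_mul]
    have hev1 : e * v ≠ 1 := fun h => hne.2 (by rw [eq_inv_of_mul_eq_one_left h, inv_eq_of_mul_eq_one_right hv2])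
    exact hcv ((hcenx' _ hev hev1 h1).symm.trans (hcenx _ hev hev1 h2))
  have hΩ : ∀ e ∈ D, e * e = 1 → e = 1 ∨ e = z ∨ e = v ∨ e = z * v := by
    intro e he he2
    by_cases hec : e ∈ cen x
    · rcases hKv e he he2 hec with h | h
      · exact Or.inl h
      · exact Or.inr (Or.inr (Or.inl h))
    · have h1 := mul_mem_cen_of_inverting hp hx (hDx hzD) hz2 (hDx he) he2 hzx hec
      have h2 : (z * e) * (z * e) = 1 := by
        calc (z * e) * (z * e) = z * (e * z) * e := by group
          _ = (z * z) * (e * e) := by rw [hzS' e he.1]; group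
          _ = 1 := by rw [hz2, he2, one_mul]
      rcases hKv _ (mul_mem hzD he) h2 h1 with h | h
      · exact Or.inr (Or.inl (by
          rw [eq_inv_of_mul_eq_one_right h, inv_eq_of_mul_eq_one_right hz2]))
      · exact Or.inr (Or.inr (Or.inr (by rw [← h, ← mul_assoc, hz2, one_mul])))
  have hv'eq : v' = z * v := by
    rcases hΩ v' hv'D (conj_mul_self hv2) with e | e | e | e
    · exact absurd e (fun e => hv1 (conj_eq_one_iff.1 e))
    · refine absurd ?_ hB
      have : v = g⁻¹ * z * g⁻¹⁻¹ := by rw [← e, hv']; group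
      rw [this]
      exact isPGroup_cen_conj hCz
    · exact absurd e hv'v
    · exact e
  have hB' : ¬ IsPGroup 2 (cen v') := fun h => hB (by
    have := isPGroup_cen_conj (g := g⁻¹) h
    rwa [hv', conj_inv_conj] at this)
  have hvz : v * z = z * v := hzS' v hvS
  set V := four z v hz2 hv2 hvz with hVdef
  have hL : normalizer (V : Set X) = (S : Subgroup X) := by
    have hle : normalizer (V : Set X) ≤ cen z := by
      intro l hl
      rcases mem_four.1 (conj_mem_of_mem_normalizer hl (mem_four.2 (Or.inr (Or.inl rfl)) : z ∈ V))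
        with e | e | e | e
      · exact absurd (conj_eq_one_iff.1 e) hz1
      · exact mem_cen_iff_conj.2 e
      · exact absurd (e ▸ isPGroup_cen_conj hCz) hB
      · exact absurd (e ▸ isPGroup_cen_conj hCz) (hv'eq ▸ hB')
    rw [← hS]
    rcases C.nm.eq_top_or_eq (four_ne_bot hz1) (two_of_pGroup Nat.prime_two isPGroup_four) hle with e | e
    · exact absurd e (C.coatom_cen hz).1
    · exact e.symm
  have hswap : ∀ s ∈ (S : Subgroup X), s ∉ D → s * v * s⁻¹ = z * v := by
    intro s hs hsD
    have hVm := conj_mem_of_mem_normalizer (hL.symm ▸ hs : s ∈ normalizer (V : Set X))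
      (mem_four.2 (Or.inr (Or.inr (Or.inl rfl))) : v ∈ V)
    rcases mem_four.1 hVm with e | e | e | e
    · exact absurd (conj_eq_one_iff.1 e) hv1
    · refine absurd ?_ hB
      have : v = s⁻¹ * z * s⁻¹⁻¹ := by rw [← e]; group
      rw [this]; exact isPGroup_cen_conj hCz
    · exact absurd ⟨hs, mem_cen_iff_conj.2 e⟩ hsD
    · exact e
  have hw1 : w ≠ 1 := fun e => hz1 (conj_eq_one_iff.1 e)
  have hwD : w ∉ D := by
    intro hwD
    rcases hΩ w hwD hw2 with e | e | e | e
    · exact hw1 e
    · exact hwz e
    · exact hB (e ▸ isPGroup_cen_conj hCz)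
    · exact hB' (hv'eq ▸ e ▸ isPGroup_cen_conj hCz)
  have hwv := hswap w hwS hwD
  have hwmul : ∀ s ∈ (S : Subgroup X), s ∉ D → w * s ∈ D := by
    intro s hs hsD
    refine ⟨mul_mem hwS hs, mem_cen_iff_conj.2 ?_⟩
    calc w * s * v * (w * s)⁻¹ = w * (s * v * s⁻¹) * w⁻¹ := by group
      _ = (w * z * w⁻¹) * (w * v * w⁻¹) := by rw [hswap s hs hsD]; group
      _ = z * (z * v) := by rw [hwv, hzS' w hwS, mul_inv_cancel_right]
      _ = v := by rw [← mul_assoc, hz2, one_mul]
  have hcw : cen w ≠ (S : Subgroup X) := fun e => hwz (C.central_conj_eq hz hS e.ge)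
  have hcardw : Nat.card (cen w) = Nat.card (S : Subgroup X) := by rw [hw, card_cen_conj, hS]
  have hCw : IsPGroup 2 (cen w) := hw ▸ isPGroup_cen_conj hCz
  have hwc : w * z = z * w := hzS' w hwS
  have hA : (S : Subgroup X) ⊓ cen w < cen w := lt_of_le_of_ne inf_le_right fun e =>
    hcw (eq_of_le_of_card_ge (inf_eq_right.1 e) hcardw.ge)
  by_cases hcase : ∀ d ∈ D, d * w = w * d → d = 1 ∨ d = z
  · set W := four z w hz2 hw2 hwc with hWdef
    have hSw : (S : Subgroup X) ⊓ cen w = W := by
      refine le_antisymm ?_ fun c hc => ?_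
      · rintro c ⟨hcS, hcc⟩
        by_cases hcD : c ∈ D
        · rcases hcase c hcD (mem_cen.1 hcc) with e | e
          · exact mem_four.2 (Or.inl e)
          · exact mem_four.2 (Or.inr (Or.inl e))
        · have hd := hwmul c hcS hcD
          have hdc : w * c * w = w * (w * c) := by rw [mul_assoc, mem_cen.1 hcc]
          rcases hcase _ hd hdc with e | e
          · exact mem_four.2 (Or.inr (Or.inr (Or.inl (by
              rw [eq_inv_of_mul_eq_one_right e, inv_eq_of_mul_eq_one_right hw2]))))
          · refine mem_four.2 (Or.inr (Or.inr (Or.inr ?_)))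
            rw [← hwc, ← e, ← mul_assoc, hw2, one_mul]
      · rcases mem_four.1 hc with rfl | rfl | rfl | rfl
        · exact one_mem _
        · exact ⟨hzS, mem_cen.2 hwc.symm⟩
        · exact ⟨hwS, mem_cen.2 rfl⟩
        · exact ⟨mul_mem hzS hwS, mem_cen.2 (by rw [← mul_assoc w, hwc])⟩
    have hvw : v * w * v⁻¹ = z * w := by
      have e : w * v = z * v * w := mul_inv_eq_iff_eq_mul.1 hwv
      rw [inv_eq_of_mul_eq_one_right hv2, mul_assoc, e]
      calc v * (z * v * w) = (v * z) * v * w := by group
        _ = z * (v * v) * w := by rw [hvz]; group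
        _ = z * w := by rw [hv2, mul_one]
    have hwV : zpowers w ≤ normalizer (V : Set X) := hL.symm ▸ zpowers_le.2 hwS
    set E := V ⊔ zpowers w with hEdef
    have hES : E ≤ (S : Subgroup X) := sup_le (fun c hc => by
      rcases mem_four.1 hc with rfl | rfl | rfl | rfl
      exacts [one_mem _, hzS, hvS, mul_mem hzS hvS]) (zpowers_le.2 hwS)
    have hVD : ∀ c ∈ V, c ∈ D := fun c hc => by
      rcases mem_four.1 hc with rfl | rfl | rfl | rfl
      exacts [one_mem _, hzD, hvD, mul_mem hzD hvD]
    have hWE : W ≤ E := fun c hc => by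
      have hz' : z ∈ E := (le_sup_left : V ≤ E) (mem_four.2 (Or.inr (Or.inl rfl)))
      have hw' : w ∈ E := (le_sup_right : zpowers w ≤ E) (mem_zpowers w)
      rcases mem_four.1 hc with rfl | rfl | rfl | rfl
      exacts [one_mem _, hz', hw', mul_mem hz' hw']
    have hvE : v ∈ E := (le_sup_left : V ≤ E) (mem_four.2 (Or.inr (Or.inr (Or.inl rfl))))
    have hSE : E = (S : Subgroup X) := by
      by_contra hne
      obtain ⟨s, hsS, hsE, hsn⟩ := mem_sylow_of_normalizer (S.2.to_le hES) S.2 (lt_of_le_of_ne hES hne)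
      have hm := conj_mem_of_mem_normalizer hsn (hWE (mem_four.2 (Or.inr (Or.inr (Or.inl rfl)))))
      obtain ⟨a, ha, b, hb, hab⟩ : s * w * s⁻¹ ∈ ((V : Set X) * (zpowers w : Set X)) := by
        rw [← coe_mul_of_right_le_normalizer_left _ _ hwV]; exact hm
      classical
      have hb' : b = 1 ∨ b = w := by
        rw [SetLike.mem_coe, mem_zpowers_iff_mem_range_orderOf,
          orderOf_two_of_mul_self hw2 hw1] at hb
        simpa [Finset.range_add_one, or_comm, eq_comm] using hb
      rcases hb' with rfl | rfl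
      · have hsw : s * w * s⁻¹ ∈ D := by rw [← hab]; simpa using hVD a ha
        refine hwD ⟨hwS, ?_⟩
        have h' := mem_cen_iff_conj.1 hsw.2
        have hv'' : s⁻¹ * v * s ∈ V := by
          simpa using conj_mem_of_mem_normalizer (hL.symm ▸ inv_mem hsS : s⁻¹ ∈ normalizer (V : Set X))
            (mem_four.2 (Or.inr (Or.inr (Or.inl rfl))) : v ∈ V)
        have hwfix : w * (s⁻¹ * v * s) * w⁻¹ = s⁻¹ * v * s := by
          calc w * (s⁻¹ * v * s) * w⁻¹ = s⁻¹ * ((s * w * s⁻¹) * v * (s * w * s⁻¹)⁻¹) * s := by group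
            _ = _ := by rw [h']
        rcases mem_four.1 hv'' with e | e | e | e <;> rw [e] at hwfix
        · exact absurd (show v = s * 1 * s⁻¹ by rw [← e]; group) (by simpa using hv1)
        · exact absurd (show v = s * z * s⁻¹ by rw [← e]; group)
            (by rw [hzS' s hsS, mul_inv_cancel_right]; intro e'; exact hB (e' ▸ hCz))
        · exact mem_cen_iff_conj.2 hwfix
        · refine mem_cen_iff_conj.2 ?_
          have : w * v * w⁻¹ = z⁻¹ * (z * v) := by
            rw [← hwfix]
            calc w * v * w⁻¹ = (w * z⁻¹ * w⁻¹) * (w * (z * v) * w⁻¹) := by group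
              _ = z⁻¹ * _ := by
                rw [show w * z⁻¹ * w⁻¹ = z⁻¹ by
                  rw [inv_eq_of_mul_eq_one_right hz2, hwc, mul_inv_cancel_right]]
          rw [this, inv_mul_cancel_left]
      · simp only at hab
        have hsq : (a * w) * (a * w) = 1 := by rw [hab]; exact conj_mul_self hw2
        have hcase2 : s * w * s⁻¹ = w ∨ s * w * s⁻¹ = z * w := by
          rw [← hab]
          rcases mem_four.1 ha with h | h | h | h <;> rw [h] at hsq ⊢
          · exact Or.inl (one_mul w)
          · exact Or.inr rfl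
          · exfalso
            apply hz1
            calc z = (v * w * v⁻¹) * w⁻¹ := by rw [hvw, mul_inv_cancel_right]
              _ = (v * w) * (v * w) := by
                rw [inv_eq_of_mul_eq_one_right hv2, inv_eq_of_mul_eq_one_right hw2]; group
              _ = 1 := hsq
          · exfalso
            apply hz1
            calc z = (v * w * v⁻¹) * w⁻¹ := by rw [hvw, mul_inv_cancel_right]
              _ = (z * z) * ((v * w) * (v * w)) := by
                rw [inv_eq_of_mul_eq_one_right hv2, inv_eq_of_mul_eq_one_right hw2, hz2]; group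
              _ = (z * v * w) * (z * v * w) := by
                have : (v * w) * z = z * (v * w) := hzS' _ (mul_mem hvS hwS)
                calc z * z * (v * w * (v * w)) = z * (z * (v * w)) * (v * w) := by group
                  _ = z * ((v * w) * z) * (v * w) := by rw [this]
                  _ = z * v * w * (z * v * w) := by group
              _ = 1 := hsq
        rcases hcase2 with e | e
        · exact hsE (hWE (hSw ▸ ⟨hsS, mem_cen_iff_conj.2 e⟩))
        · have : v * s ∈ W := hSw ▸ ⟨mul_mem hvS hsS, mem_cen_iff_conj.2 (by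
            calc v * s * w * (v * s)⁻¹ = v * (s * w * s⁻¹) * v⁻¹ := by group
              _ = (v * z * v⁻¹) * (v * w * v⁻¹) := by rw [e]; group
              _ = z * (z * w) := by rw [hvw, hvz, mul_inv_cancel_right]
              _ = w := by rw [← mul_assoc, hz2, one_mul])⟩
          refine hsE ?_
          have := mul_mem (inv_mem hvE) (hWE this)
          rwa [inv_mul_cancel_left] at this
    have hNW : (S : Subgroup X) ≤ normalizer (W : Set X) := by
      rw [← hSE]
      refine sup_le (fun c hc => ?_) (zpowers_le.2 ?_)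
      · have hzn : z ∈ normalizer (W : Set X) := le_normalizer (mem_four.2 (Or.inr (Or.inl rfl)))
        have hvn : v ∈ normalizer (W : Set X) := mem_normalizer_of_conj fun d hd => by
          rcases mem_four.1 hd with rfl | rfl | rfl | rfl
          · simp
          · rw [hvz, mul_inv_cancel_right]; exact mem_four.2 (Or.inr (Or.inl rfl))
          · exact mem_four.2 (Or.inr (Or.inr (Or.inr hvw)))
          · refine mem_four.2 (Or.inr (Or.inr (Or.inl ?_)))
            calc v * (z * w) * v⁻¹ = (v * z * v⁻¹) * (v * w * v⁻¹) := by group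
              _ = z * (z * w) := by rw [hvw, hvz, mul_inv_cancel_right]
              _ = w := by rw [← mul_assoc, hz2, one_mul]
        rcases mem_four.1 hc with rfl | rfl | rfl | rfl
        exacts [one_mem _, hzn, hvn, mul_mem hzn hvn]
      · exact le_normalizer (mem_four.2 (Or.inr (Or.inr (Or.inl rfl))))
    have hNWeq : normalizer (W : Set X) = (S : Subgroup X) := by
      rcases (C.coatom_cen hz).le_iff.1 (hS ▸ hNW) with e | e
      · exact absurd e (C.normalizer_ne_top (four_ne_bot hz1) (two_of_pGroup Nat.prime_two isPGroup_four))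
      · rw [e, hS]
    obtain ⟨c, hcc, hcW, hcn⟩ := mem_sylow_of_normalizer (isPGroup_four) hCw (hSw ▸ hA)
    exact hcW (hSw.le ⟨hNWeq ▸ hcn, hcc⟩)
  · push Not at hcase
    obtain ⟨d, hdD, hdw, hd1, hdz⟩ := hcase
    have hd2 : d * d ≠ 1 := fun h => by
      rcases hΩ d hdD h with e | e | e | e
      · exact hd1 e
      · exact hdz e
      · subst e
        apply hz1
        have := hwv
        rw [← hdw, mul_inv_cancel_right] at this
        simpa using this.symm
      · subst e
        apply hz1
        have hwv2 : w * v = z * v * w := mul_inv_eq_iff_eq_mul.1 hwv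
        have h5 : z * v * w = z * (z * v * w) := by
          calc z * v * w = w * (z * v) := hdw
            _ = (w * z) * v := by group
            _ = z * (w * v) := by rw [hwc]; group
            _ = _ := by rw [hwv2]
        simpa using h5.symm
    obtain ⟨k, hk⟩ : ∃ k, orderOf d = 2 ^ k := by
      obtain ⟨k, hk⟩ := IsPGroup.iff_card.1 hD
      exact ((Nat.dvd_prime_pow Nat.prime_two).1 (hk ▸ orderOf_dvd_natCard D hdD)).imp fun _ => And.right
    have hk2 : 2 ≤ k := by
      by_contra hh
      apply hd2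
      rw [← pow_two, ← orderOf_dvd_iff_pow_eq_one, hk]
      interval_cases k <;> norm_num
    set s := d ^ (2 ^ (k - 2)) with hs
    have hso : orderOf s = 4 := by
      rw [hs, orderOf_pow' _ (pow_ne_zero _ two_ne_zero), hk,
        Nat.gcd_eq_right (pow_dvd_pow 2 (by omega)), Nat.pow_div (by omega) two_pos,
        show k - (k - 2) = 2 by omega]
      norm_num
    have hsD : s ∈ D := pow_mem hdD _
    have hsw : s * w = w * s := (show Commute d w from hdw).pow_left _
    have hsq : ∀ a ∈ D, a * w = w * a → (a * a) * (a * a) = 1 → a * a ≠ 1 → a * a = z := by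
      intro a ha haw h4 h2
      rcases hΩ _ (mul_mem ha ha) h4 with e | e | e | e
      · exact absurd e h2
      · exact e
      · exfalso
        apply hz1
        have h' : (a * a) * w = w * (a * a) := ((show Commute a w from haw).mul_left haw).eq
        rw [e] at h'
        have := hwv
        rw [← h', mul_inv_cancel_right] at this
        simpa using this.symm
      · exfalso
        apply hz1
        have h' : (a * a) * w = w * (a * a) := ((show Commute a w from haw).mul_left haw).eq
        rw [e] at h'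
        have hwv2 : w * v = z * v * w := mul_inv_eq_iff_eq_mul.1 hwv
        have h5 : z * v * w = z * (z * v * w) := by
          calc z * v * w = w * (z * v) := h'
            _ = (w * z) * v := by group
            _ = z * (w * v) := by rw [hwc]; group
            _ = _ := by rw [hwv2]
        simpa using h5.symm
    have hs4 : (s * s) * (s * s) = 1 := by
      have := pow_orderOf_eq_one s
      rw [hso] at this
      rw [show s ^ 4 = (s * s) * (s * s) by rw [pow_succ, pow_succ, pow_two, mul_assoc]] at this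
      exact this
    have hs2 : s * s ≠ 1 := fun e => by
      have := orderOf_dvd_of_pow_eq_one (show s ^ 2 = 1 by rw [pow_two]; exact e)
      rw [hso] at this
      norm_num at this
    obtain ⟨c, hcc, hcA, hcn⟩ := mem_sylow_of_normalizer (S.2.to_le inf_le_left) hCw hA
    apply hcA
    refine ⟨?_, hcc⟩
    rw [← hS]
    refine mem_cen_iff_conj.2 ?_
    rw [← hsq s hsD hsw hs4 hs2]
    set a := c * s * c⁻¹ with hadef
    have hac : c * (s * s) * c⁻¹ = a * a := by rw [hadef]; group
    rw [hac, hsq s hsD hsw hs4 hs2]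
    obtain ⟨haS, haw⟩ := conj_mem_of_mem_normalizer hcn (show s ∈ (S : Subgroup X) ⊓ cen w from
      ⟨hsD.1, mem_cen.2 hsw⟩)
    rw [← hadef] at haS haw
    have ha4 : (a * a) * (a * a) = 1 := by rw [← hac]; exact conj_mul_self hs4
    have ha2 : a * a ≠ 1 := fun e => hs2 (conj_eq_one_iff.1 (hac.trans e))
    by_cases haD : a ∈ D
    · exact hsq a haD (mem_cen.1 haw) ha4 ha2
    · have hd' := hwmul a haS haD
      have hcomm : Commute a w := mem_cen.1 haw
      have hsame : (w * a) * (w * a) = a * a := by
        calc (w * a) * (w * a) = w * (a * w) * a := by group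
          _ = (w * w) * (a * a) := by rw [hcomm.eq]; group
          _ = a * a := by rw [hw2, one_mul]
      rw [← hsame]
      exact hsq _ hd' (((Commute.refl w).mul_left hcomm).eq) (hsame.symm ▸ ha4) (hsame.symm ▸ ha2)

end Cfsg.Agent.MaxNormalizer
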