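import Cfsg.Agent.Lib.MaxNormalizer.StageOneA
import Cfsg.Agent.Lib.PSL2.Basic
import Cfsg.Agent.S3331

/-!
# Not every involution centraliser is a 2-group
-/

set_option autoImplicit false
set_option linter.style.haveILetI false
set_option linter.unusedSectionVars false

namespace Cfsg.Agent.MaxNormalizer

open Subgroup
open scoped Pointwise

variable {X : Type*} [Group X] [Finite X]

theorem exists_sylow_subgroupOf {p : ℕ} [Fact p.Prime] (S : Sylow p X) {T : Subgroup X}
    (hT : T.Normal) : ∃ P : Sylow p T, (P : Subgroup T) = (S : Subgroup X).subgroupOf T := by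
  have h1 : IsPGroup p ((S : Subgroup X).subgroupOf T) :=
    S.2.comap_of_injective _ T.subtype_injective
  obtain ⟨P, hP⟩ := h1.exists_le_sylow
  refine ⟨P, (eq_of_le_of_card_ge hP ?_).symm⟩
  obtain ⟨g, hg⟩ := exists_conj_mem_sylow S (P.2.map T.subtype)
  refine Nat.card_le_card_of_injective
    (fun a : (P : Subgroup T) => (⟨⟨g * ((a : T) : X) * g⁻¹, hT.conj_mem _ (a : T).2 g⟩,
      mem_subgroupOf.2 (hg _ (mem_map_of_mem T.subtype a.2))⟩ : (S : Subgroup X).subgroupOf T)) ?_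
  intro a b hab
  have : g * ((a : T) : X) * g⁻¹ = g * ((b : T) : X) * g⁻¹ := congrArg (fun c => ((c.1 : T) : X)) hab
  exact Subtype.ext (Subtype.ext (mul_left_cancel (mul_right_cancel this)))

variable {T : Subgroup X} (C : Soc T)
include C

theorem Soc.normalizer_inf_sylow {S : Sylow 2 X} (hS : IsCoatom (S : Subgroup X))
    (hne : (S : Subgroup X) ⊓ T ≠ ⊥) :
    normalizer (((S : Subgroup X) ⊓ T : Subgroup X) : Set X) = (S : Subgroup X) := by
  have hle : (S : Subgroup X) ≤ normalizer (((S : Subgroup X) ⊓ T : Subgroup X) : Set X) :=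
    fun s hs => mem_normalizer_of_conj fun a ha =>
      Subgroup.mem_inf.2 ⟨mul_mem (mul_mem hs ha.1) (inv_mem hs), C.min.normal.conj_mem a ha.2 s⟩
  exact (hS.le_iff.1 hle).resolve_left
    (C.normalizer_ne_top hne (two_of_pGroup Nat.prime_two (S.2.to_le inf_le_left)))

theorem Soc.exists_cen_eq {S : Sylow 2 X} {z : X} (hz : orderOf z = 2)
    (hS : cen z = (S : Subgroup X)) {t : X} (ht : orderOf t = 2) (hC : IsPGroup 2 (cen t)) :
    ∃ g : X, cen (g * t * g⁻¹) = (S : Subgroup X) := by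
  haveI : Fact (Nat.Prime 2) := ⟨Nat.prime_two⟩
  obtain ⟨g, hg⟩ := exists_conj_mem_sylow S hC
  refine ⟨g, ?_⟩
  have hle : cen (g * t * g⁻¹) ≤ (S : Subgroup X) := by
    rw [cen_conj]
    rintro _ ⟨a, ha, rfl⟩
    exact hg a ha
  rcases (C.coatom_cen (by rw [orderOf_conj, ht])).le_iff.1 hle with e | e
  · exact absurd (hS.trans e) (C.coatom_cen hz).1
  · exact e.symm

theorem Soc.false_of_all_twoGroup {S : Sylow 2 X} {z : X} (hz : orderOf z = 2)
    (hzS : z ∈ (S : Subgroup X)) (hzT : z ∈ T) (hS : cen z = (S : Subgroup X))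
    (hall : ∀ t ∈ T, orderOf t = 2 → IsPGroup 2 (cen t)) : False := by
  haveI : Fact (Nat.Prime 2) := ⟨Nat.prime_two⟩
  haveI := C.min.normal
  have hzS' : ∀ s ∈ (S : Subgroup X), s * z = z * s := fun s hs => mem_cen.1 (hS.symm ▸ hs)
  have hz2 := mul_self_of_orderOf hz
  have hz1 : z ≠ 1 := ne_one_of_orderOf Nat.prime_two hz
  have hcoS : IsCoatom (S : Subgroup X) := hS ▸ C.coatom_cen hz
  set S0 := (S : Subgroup X) ⊓ T with hS0
  have hS0ne : S0 ≠ ⊥ := fun e => hz1 (mem_bot.1 (e ▸ (⟨hzS, hzT⟩ : z ∈ S0)))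
  -- an involution of `S0` which is not central in `S0`
  obtain ⟨v, ⟨hvS, hvT⟩, hv2, hv1, a, ha, hav⟩ :
      ∃ v ∈ S0, v * v = 1 ∧ v ≠ 1 ∧ ∃ a ∈ S0, a * v ≠ v * a := by
    by_contra hno
    push Not at hno
    obtain ⟨h, hwS, hwz⟩ := C.exists_conj_ne hz hzS
    have hwT : h * z * h⁻¹ ∈ T := C.min.normal.conj_mem z hzT h
    have hw1 : h * z * h⁻¹ ≠ 1 := fun e => hz1 (conj_eq_one_iff.1 e)
    have hcen := hno _ ⟨hwS, hwT⟩ (conj_mul_self hz2) hw1
    have hn : h⁻¹ ∈ normalizer (S0 : Set X) := by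
      refine mem_normalizer_of_conj fun a ha => ⟨?_, C.min.normal.conj_mem a ha.2 _⟩
      rw [inv_inv, ← hS]
      exact mem_cen_conj.1 (mem_cen.2 (hcen a ha))
    rw [C.normalizer_inf_sylow hcoS hS0ne] at hn
    apply hwz
    rw [hzS' h (by simpa using inv_mem hn), mul_inv_cancel_right]
  have hvo := orderOf_two_of_mul_self hv2 hv1
  have hvz : v * z = z * v := hzS' v hvS
  have hvne : v ≠ z := fun e => hav (e ▸ hzS' a ha.1)
  set V := four z v hz2 hv2 hvz with hVdef
  have hzV : z ∈ V := mem_four.2 (Or.inr (Or.inl rfl))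
  have hvV : v ∈ V := mem_four.2 (Or.inr (Or.inr (Or.inl rfl)))
  set M := normalizer (V : Set X) with hMdef
  have hMco : IsCoatom M := C.nm V (four_ne_bot hz1) (two_of_pGroup Nat.prime_two isPGroup_four)
  set C0 := (S : Subgroup X) ⊓ cen v with hC0
  have hC0p : IsPGroup 2 C0 := S.2.to_le inf_le_left
  have hC0V : ∀ c ∈ C0, ∀ b ∈ V, c * b = b * c := by
    intro c hc b hb
    rcases mem_four.1 hb with rfl | rfl | rfl | rfl
    · simp
    · exact hzS' c hc.1
    · exact mem_cen.1 hc.2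
    · exact ((show Commute c z from hzS' c hc.1).mul_right (show Commute c v from mem_cen.1 hc.2)).eq
  have hMconj : ∀ m ∈ M, ∀ c ∈ C0, m * c * m⁻¹ ∈ C0 := by
    intro m hm c hc
    have key : ∀ b ∈ V, m * c * m⁻¹ ∈ cen b := by
      intro b hb
      have hb' := conj_mem_of_mem_normalizer (M.inv_mem hm) hb
      rw [show b = m * (m⁻¹ * b * m⁻¹⁻¹) * m⁻¹ by group]
      refine mem_cen_conj.2 ?_
      rw [show m⁻¹ * (m * c * m⁻¹) * m = c by group]
      exact mem_cen.2 (hC0V c hc _ hb')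
    exact ⟨hS ▸ key z hzV, key v hvV⟩
  have hvnc : cen v ≠ (S : Subgroup X) := fun e => hav (mem_cen.1 (e.symm ▸ ha.1))
  have hC0ne : C0 ≠ ⊥ := fun e => hz1 (mem_bot.1 (e ▸ (⟨hzS, mem_cen.2 hvz.symm⟩ : z ∈ C0)))
  have hNC0 : normalizer (C0 : Set X) = M :=
    (hMco.le_iff.1 fun m hm => mem_normalizer_of_conj (hMconj m hm)).resolve_left
      (C.normalizer_ne_top hC0ne (two_of_pGroup Nat.prime_two hC0p))
  have hfix : ∀ b ∈ V, b ≠ 1 → ∃ m ∈ M, m * b * m⁻¹ ≠ b := by
    intro b hb hb1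
    by_contra hno
    push Not at hno
    have hbo := orderOf_two_of_mul_self (mul_self_mem_four hb) hb1
    have hMle : M ≤ cen b := fun m hm => mem_cen_iff_conj.2 (hno m hm)
    have hMeq : cen b = M := (hMco.le_iff.1 hMle).resolve_left (C.coatom_cen hbo).1
    obtain ⟨u, hu, hgen⟩ : ∃ u, (u = z ∨ u = v) ∧
        ∀ c, c * b = b * c → c * u = u * c → c * z = z * c ∧ c * v = v * c := by
      rcases mem_four.1 hb with rfl | rfl | rfl | rfl
      · exact absurd rfl hb1
      · exact ⟨v, Or.inr rfl, fun c h1 h2 => ⟨h1, h2⟩⟩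
      · exact ⟨z, Or.inl rfl, fun c h1 h2 => ⟨h2, h1⟩⟩
      · refine ⟨z, Or.inl rfl, fun c h1 h2 => ⟨h2, ?_⟩⟩
        have h3 := (show Commute c z from h2).mul_right (show Commute c (z * v) from h1)
        rw [← mul_assoc, hz2, one_mul] at h3
        exact h3.eq
    have hlt : C0 < cen u ∧ IsPGroup 2 (cen u) := by
      rcases hu with rfl | rfl
      · refine ⟨lt_of_le_of_ne (hS ▸ inf_le_left) fun e => ?_, hS ▸ S.2⟩
        exact hav (mem_cen.1 ((e.trans hS).ge ha.1).2)
      · refine ⟨lt_of_le_of_ne inf_le_right fun e => hvnc ?_, hall u hvT hvo⟩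
        exact ((C.coatom_cen hvo).le_iff.1 (e.ge.trans inf_le_left)).resolve_left hcoS.1 |>.symm
    obtain ⟨g, hgu, hgC0, hgn⟩ := mem_sylow_of_normalizer hC0p hlt.2 hlt.1
    rw [hNC0, ← hMeq] at hgn
    obtain ⟨h1, h2⟩ := hgen g (mem_cen.1 hgn) (mem_cen.1 hgu)
    exact hgC0 ⟨hS ▸ mem_cen.2 h1, mem_cen.2 h2⟩
  -- the element of `M ∩ T` swapping `v` and `zv`
  set C00 := C0 ⊓ T with hC00
  have hC00p : IsPGroup 2 C00 := hC0p.to_le inf_le_left
  have hzC00 : z ∈ C00 := ⟨⟨hzS, mem_cen.2 hvz.symm⟩, hzT⟩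
  have hMC00 : M ≤ normalizer (C00 : Set X) := fun m hm => mem_normalizer_of_conj fun c hc =>
    ⟨hMconj m hm c hc.1, C.min.normal.conj_mem c hc.2 m⟩
  have hNC00 : normalizer (C00 : Set X) = M :=
    (hMco.le_iff.1 hMC00).resolve_left (C.normalizer_ne_top
      (fun e => hz1 (mem_bot.1 (e ▸ hzC00))) (two_of_pGroup Nat.prime_two hC00p))
  have hC00S : C00 < S0 := lt_of_le_of_ne (fun c hc => ⟨hc.1.1, hc.2⟩)
    fun e => hav (mem_cen.1 (e.ge ha).1.2)
  obtain ⟨g, hgS0, hgC, hgn⟩ := mem_sylow_of_normalizer hC00p (S.2.to_le inf_le_left) hC00S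
  rw [hNC00] at hgn
  have hgz : g * z * g⁻¹ = z := by rw [hzS' g hgS0.1, mul_inv_cancel_right]
  have hzv1 : z * v ≠ 1 := fun e => hvne (by
    rw [eq_inv_of_mul_eq_one_right e, inv_eq_of_mul_eq_one_right hz2])
  have hzvv : z * v ≠ v := fun e => hz1 (by simpa using e)
  have hzvz : z * v ≠ z := fun e => hv1 (by simpa using e)
  have hgv : g * v * g⁻¹ = z * v := by
    rcases mem_four.1 (conj_mem_of_mem_normalizer hgn hvV) with e | e | e | e
    · exact absurd (conj_eq_one_iff.1 e) hv1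
    · exact absurd (mul_left_cancel (mul_right_cancel (e.trans hgz.symm))) hvne
    · exact absurd ⟨⟨hgS0.1, mem_cen_iff_conj.2 e⟩, hgS0.2⟩ hgC
    · exact e
  obtain ⟨m, hm, hmz⟩ : ∃ m ∈ M, m * z * m⁻¹ = v := by
    obtain ⟨m, hm, hne⟩ := hfix z hzV hz1
    rcases mem_four.1 (conj_mem_of_mem_normalizer hm hzV) with e | e | e | e
    · exact absurd (conj_eq_one_iff.1 e) hz1
    · exact absurd e hne
    · exact ⟨m, hm, e⟩
    · refine ⟨g * m, mul_mem hgn hm, ?_⟩
      calc g * m * z * (g * m)⁻¹ = g * (m * z * m⁻¹) * g⁻¹ := by group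
        _ = (g * z * g⁻¹) * (g * v * g⁻¹) := by rw [e]; group
        _ = v := by rw [hgz, hgv, ← mul_assoc, hz2, one_mul]
  set g' := m * g * m⁻¹ with hg'
  have hg'M : g' ∈ M := mul_mem (mul_mem hm hgn) (inv_mem hm)
  have hg'T : g' ∈ T := C.min.normal.conj_mem g hgS0.2 m
  have hg'v : g' * v * g'⁻¹ = v := by
    calc g' * v * g'⁻¹ = m * (g * (m⁻¹ * v * m) * g⁻¹) * m⁻¹ := by rw [hg']; group
      _ = v := by
        rw [show m⁻¹ * v * m = z by rw [← hmz]; group, hgz, hmz]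
  have hg'z : g' * z * g'⁻¹ = z * v := by
    rcases mem_four.1 (conj_mem_of_mem_normalizer hg'M hzV) with e | e | e | e
    · exact absurd (conj_eq_one_iff.1 e) hz1
    · exfalso
      set b := m⁻¹ * z * m with hb
      have hgb : g * b * g⁻¹ = b := by
        calc g * b * g⁻¹ = m⁻¹ * (g' * z * g'⁻¹) * m := by rw [hg', hb]; group
          _ = b := by rw [e]
      have hbV : b ∈ V := by
        have := conj_mem_of_mem_normalizer (M.inv_mem hm) hzV
        rwa [inv_inv] at this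
      rcases mem_four.1 hbV with h | h | h | h
      · exact hz1 (by
          calc z = m * b * m⁻¹ := by rw [hb]; group
            _ = 1 := by rw [h]; group)
      · exact hvne (by
          rw [← hmz]
          calc m * z * m⁻¹ = m * b * m⁻¹ := by rw [h]
            _ = z := by rw [hb]; group)
      · rw [h, hgv] at hgb; exact hzvv hgb
      · rw [h, show g * (z * v) * g⁻¹ = (g * z * g⁻¹) * (g * v * g⁻¹) by group, hgz, hgv,
          ← mul_assoc, hz2, one_mul] at hgb
        exact hzvv hgb.symm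
    · exact absurd (mul_left_cancel (mul_right_cancel (e.trans hg'v.symm))) (Ne.symm hvne)
    · exact e
  -- a three cycle
  set y := g * g' with hy
  have hyM : y ∈ M ⊓ T := ⟨mul_mem hgn hg'M, mul_mem hgS0.2 hg'T⟩
  have hyz : y * z * y⁻¹ = v := by
    calc y * z * y⁻¹ = g * (g' * z * g'⁻¹) * g⁻¹ := by rw [hy]; group
      _ = (g * z * g⁻¹) * (g * v * g⁻¹) := by rw [hg'z]; group
      _ = v := by rw [hgz, hgv, ← mul_assoc, hz2, one_mul]
  have hyv : y * v * y⁻¹ = z * v := by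
    calc y * v * y⁻¹ = g * (g' * v * g'⁻¹) * g⁻¹ := by rw [hy]; group
      _ = z * v := by rw [hg'v, hgv]
  have hmemC00 : ∀ c ∈ T, c * z * c⁻¹ = z → c * v * c⁻¹ = v → c ∈ C00 := fun c hc h1 h2 =>
    ⟨⟨hS ▸ mem_cen_iff_conj.2 h1, mem_cen_iff_conj.2 h2⟩, hc⟩
  have hy3 : y ^ 3 ∈ C00 := by
    have hyzv : y * (z * v) * y⁻¹ = z := by
      calc y * (z * v) * y⁻¹ = (y * z * y⁻¹) * (y * v * y⁻¹) := by group
        _ = v * z * v := by rw [hyz, hyv]; group
        _ = z := by rw [hvz, mul_assoc, hv2, mul_one]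
    refine hmemC00 _ (pow_mem hyM.2 3) ?_ ?_
    · calc y ^ 3 * z * (y ^ 3)⁻¹ = y * (y * (y * z * y⁻¹) * y⁻¹) * y⁻¹ := by
            rw [pow_succ, pow_two]; group
        _ = z := by rw [hyz, hyv, hyzv]
    · calc y ^ 3 * v * (y ^ 3)⁻¹ = y * (y * (y * v * y⁻¹) * y⁻¹) * y⁻¹ := by
            rw [pow_succ, pow_two]; group
        _ = v := by rw [hyv, hyzv, hyz]
  obtain ⟨k, hk⟩ := IsPGroup.iff_card.1 hC00p
  obtain ⟨d, hd⟩ : ∃ d, 4 ^ k = 3 * d + 1 := by
    have : 4 ^ k % 3 = 1 := by rw [Nat.pow_mod]; simp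
    exact ⟨4 ^ k / 3, by omega⟩
  set x := y ^ (4 ^ k) with hxdef
  have hxy : x * y⁻¹ ∈ C00 := by
    rw [hxdef, hd, pow_succ, mul_inv_cancel_right, pow_mul]
    exact pow_mem hy3 d
  have hx3 : x ^ 3 = 1 := by
    rw [hxdef, ← pow_mul, mul_comm, pow_mul, show 4 ^ k = Nat.card C00 * 2 ^ k by
      rw [hk, ← mul_pow]; norm_num, pow_mul]
    rw [orderOf_dvd_iff_pow_eq_one.1 (orderOf_dvd_natCard C00 hy3), one_pow]
  have hxM : x ∈ M ⊓ T := pow_mem hyM _
  have hcfix : ∀ c ∈ C00, c * z * c⁻¹ = z ∧ c * v * c⁻¹ = v := fun c hc =>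
    ⟨by rw [hzS' c hc.1.1, mul_inv_cancel_right], mem_cen_iff_conj.1 hc.1.2⟩
  obtain ⟨c₀, hc₀, hxc⟩ : ∃ c ∈ C00, x = c * y := ⟨_, hxy, by rw [inv_mul_cancel_right]⟩
  have hxz : x * z * x⁻¹ = v := by
    calc x * z * x⁻¹ = c₀ * (y * z * y⁻¹) * c₀⁻¹ := by rw [hxc]; group
      _ = v := by rw [hyz, (hcfix _ hc₀).2]
  have hxv : x * v * x⁻¹ = z * v := by
    calc x * v * x⁻¹ = c₀ * (y * v * y⁻¹) * c₀⁻¹ := by rw [hxc]; group
      _ = (c₀ * z * c₀⁻¹) * (c₀ * v * c₀⁻¹) := by rw [hyv]; group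
      _ = z * v := by rw [(hcfix _ hc₀).1, (hcfix _ hc₀).2]
  have hx1 : x ≠ 1 := fun e => hvne (by rw [← hxz, e]; group)
  haveI : Fact (Nat.Prime 3) := ⟨Nat.prime_three⟩
  have hxo : orderOf x = 3 := orderOf_eq_prime hx3 hx1
  -- Frattini: an element of `M ∩ T` inverting `x`
  set P := C00 ⊔ zpowers x with hP
  have hxN : zpowers x ≤ normalizer (C00 : Set X) := zpowers_le.2 (hMC00 hxM.1)
  set gx := g * x * g⁻¹ with hgx
  have hgxc : gx * x ∈ C00 := by
    refine hmemC00 _ (mul_mem (C.min.normal.conj_mem x hxM.2 g) hxM.2) ?_ ?_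
    · have hgzv : g * (z * v) * g⁻¹ = v := by
        calc g * (z * v) * g⁻¹ = (g * z * g⁻¹) * (g * v * g⁻¹) := by group
          _ = v := by rw [hgz, hgv, ← mul_assoc, hz2, one_mul]
      have hgiv : g⁻¹ * v * g = z * v := by
        calc g⁻¹ * v * g = g⁻¹ * (g * (z * v) * g⁻¹) * g := by rw [hgzv]
          _ = z * v := by group
      calc gx * x * z * (gx * x)⁻¹ = g * (x * (g⁻¹ * (x * z * x⁻¹) * g) * x⁻¹) * g⁻¹ := by
            rw [hgx]; group
        _ = g * (x * (z * v) * x⁻¹) * g⁻¹ := by rw [hxz, hgiv]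
        _ = g * ((x * z * x⁻¹) * (x * v * x⁻¹)) * g⁻¹ := by group
        _ = z := by
            rw [hxz, hxv, show v * (z * v) = z by rw [← mul_assoc, hvz, mul_assoc, hv2, mul_one], hgz]
    · calc gx * x * v * (gx * x)⁻¹ = g * (x * (g⁻¹ * (x * v * x⁻¹) * g) * x⁻¹) * g⁻¹ := by
            rw [hgx]; group
        _ = v := by
            rw [hxv, show g⁻¹ * (z * v) * g = v by rw [← hgv]; group, hxv]
            calc g * (z * v) * g⁻¹ = (g * z * g⁻¹) * (g * v * g⁻¹) := by group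
              _ = v := by rw [hgz, hgv, ← mul_assoc, hz2, one_mul]
  have hgxP : gx ∈ P := by
    rw [show gx = (gx * x) * x⁻¹ by rw [mul_inv_cancel_right]]
    exact mul_mem ((le_sup_left : C00 ≤ P) hgxc)
      (inv_mem ((le_sup_right : zpowers x ≤ P) (mem_zpowers x)))
  obtain ⟨Q, hQ⟩ : ∃ Q : Sylow 3 P, (zpowers x).subgroupOf P ≤ Q :=
    IsPGroup.exists_le_sylow ((isPGroup_zpowers_prime hxo).comap_of_injective _ P.subtype_injective)
  have hQle : Nat.card (Q : Subgroup P) ≤ 3 := by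
    have hdec : ∀ q : (Q : Subgroup P), ∃ b ∈ zpowers x, ((q : P) : X) * b⁻¹ ∈ C00 := by
      intro q
      obtain ⟨c, hc, b, hb, e⟩ : ((q : P) : X) ∈ ((C00 : Set X) * (zpowers x : Set X)) := by
        rw [← coe_mul_of_right_le_normalizer_left _ _ hxN]; exact (q : P).2
      exact ⟨b, hb, by rw [← e]; simpa using hc⟩
    choose f hf hf' using hdec
    refine le_of_le_of_eq (Nat.card_le_card_of_injective
      (fun q => (⟨f q, hf q⟩ : zpowers x)) fun q r e => ?_) (by rw [Nat.card_zpowers, hxo])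
    have e' : f q = f r := congrArg Subtype.val e
    set w := ((q : P) : X) * ((r : P) : X)⁻¹ with hw
    have hwC : w ∈ C00 := by
      rw [hw, show ((q : P) : X) * ((r : P) : X)⁻¹ = (((q : P) : X) * (f q)⁻¹) *
        (((r : P) : X) * (f r)⁻¹)⁻¹ by rw [e']; group]
      exact mul_mem (hf' q) (inv_mem (hf' r))
    have hwQ : w ∈ (Q : Subgroup P).map P.subtype :=
      ⟨(q : P) * (r : P)⁻¹, mul_mem q.2 (inv_mem r.2), rfl⟩
    have := Nat.eq_one_of_dvd_coprimes
      (coprime_of_pGroups Nat.prime_two Nat.prime_three (by norm_num) hC00p (Q.2.map P.subtype) hwC)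
      (dvd_refl _) (orderOf_dvd_natCard _ hwQ)
    exact Subtype.ext (Subtype.ext (mul_inv_eq_one.1 (orderOf_eq_one_iff.1 this)))
  have hQeq : (zpowers x).subgroupOf P = Q := eq_of_le_of_card_ge hQ (by
    rw [Nat.card_congr (subgroupOfEquivOfLe (le_sup_right : zpowers x ≤ P)).toEquiv,
      Nat.card_zpowers, hxo]
    exact hQle)
  obtain ⟨q, hq⟩ := exists_conj_mem_sylow Q (P := (zpowers gx).subgroupOf P)
    ((isPGroup_zpowers_prime (p := 3) (by rw [hgx, orderOf_conj, hxo])).comap_of_injective _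
      P.subtype_injective)
  have hq' := hq ⟨gx, hgxP⟩ (mem_subgroupOf.2 (mem_zpowers gx))
  rw [← hQeq, mem_subgroupOf] at hq'
  set u₀ := (q : X) * g with hu₀
  obtain ⟨i, hi⟩ : ∃ i : ℤ, x ^ i = u₀ * x * u₀⁻¹ := by
    refine mem_zpowers_iff.1 ?_
    convert hq' using 1
    simp [hu₀, hgx, mul_assoc]
  have hu₀inv : u₀ * x * u₀⁻¹ = x⁻¹ := by
    obtain ⟨c, hc, b, hb, e⟩ : (q : X) ∈ ((C00 : Set X) * (zpowers x : Set X)) := by
      rw [← coe_mul_of_right_le_normalizer_left _ _ hxN]; exact q.2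
    have hcomm : Commute b x := by
      obtain ⟨j, rfl⟩ := mem_zpowers_iff.1 hb
      exact (Commute.refl x).zpow_left j
    have hbn : b ∈ normalizer (C00 : Set X) := hxN hb
    have hxn : x⁻¹ ∈ normalizer (C00 : Set X) := inv_mem (hxN (mem_zpowers x))
    have hmem : u₀ * x * u₀⁻¹ * x ∈ C00 := by
      have : u₀ * x * u₀⁻¹ * x =
          c * (b * (gx * x) * b⁻¹) * (x⁻¹ * c⁻¹ * x⁻¹⁻¹) := by
        calc u₀ * x * u₀⁻¹ * x = c * b * gx * b⁻¹ * c⁻¹ * x := by
              rw [hu₀, ← e, hgx]; group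
          _ = c * b * gx * (x * b⁻¹ * x⁻¹) * c⁻¹ * x := by
              rw [← hcomm.inv_left.eq, mul_inv_cancel_right]
          _ = _ := by group
      rw [this]
      exact mul_mem (mul_mem hc (conj_mem_of_mem_normalizer hbn hgxc))
        (conj_mem_of_mem_normalizer hxn (inv_mem hc))
    have hmemx : u₀ * x * u₀⁻¹ * x ∈ zpowers x := mul_mem (hi ▸ zpow_mem (mem_zpowers x) i) (mem_zpowers x)
    have := Nat.eq_one_of_dvd_coprimes
      (coprime_of_pGroups Nat.prime_two Nat.prime_three (by norm_num) hC00p (isPGroup_zpowers_prime hxo) hmem)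
      (dvd_refl _) (orderOf_dvd_natCard _ hmemx)
    exact mul_eq_one_iff_eq_inv.1 (orderOf_eq_one_iff.1 this)
  have hu₀T : u₀ ∈ T := mul_mem ((sup_le inf_le_right (zpowers_le.2 hxM.2) : P ≤ T) q.2) hgS0.2
  -- no involution of `T` centralises `x`
  have hnoinv : ∀ c ∈ T, c ∈ cen x → c * c = 1 → c = 1 := by
    intro c hcT hcx hc2
    by_contra hc1
    have hd := orderOf_dvd_natCard _ (mem_cen_comm hcx)
    rw [hxo] at hd
    have := prime_eq_of_dvd_pGroup Nat.prime_two Nat.prime_three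
      (hall c hcT (orderOf_two_of_mul_self hc2 hc1)) hd
    norm_num at this
  have hodd : ∀ c ∈ T, c ∈ cen x → ∀ j : ℕ, c ^ 2 ^ j = 1 → c = 1 := by
    intro c hcT hcx j
    induction j with
    | zero => intro h; simpa using h
    | succ j ih =>
      intro h
      exact ih (hnoinv _ (pow_mem hcT _) (pow_mem hcx _) (by
        rw [← pow_add, ← two_mul, ← pow_succ']; exact h))
  obtain ⟨a₁, m₁, hm₁, ho⟩ : ∃ a m : ℕ, ¬ 2 ∣ m ∧ orderOf u₀ = 2 ^ a * m :=
    Nat.exists_eq_pow_mul_and_not_dvd (orderOf_pos u₀).ne' 2 (by norm_num)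
  set u := u₀ ^ m₁ with hudef
  have hu : u * x * u⁻¹ = x⁻¹ := by
    obtain ⟨r, rfl⟩ : ∃ r, m₁ = 2 * r + 1 := ⟨m₁ / 2, by omega⟩
    rw [hudef]
    have h2 : u₀ ^ 2 * x * (u₀ ^ 2)⁻¹ = x := by
      calc u₀ ^ 2 * x * (u₀ ^ 2)⁻¹ = u₀ * (u₀ * x * u₀⁻¹) * u₀⁻¹ := by rw [pow_two]; group
        _ = (u₀ * x * u₀⁻¹)⁻¹ := by nth_rewrite 1 [hu₀inv]; group
        _ = x := by rw [hu₀inv, inv_inv]
    have h3 : (u₀ ^ 2) ^ r ∈ cen x := pow_mem (mem_cen_iff_conj.2 h2) r
    rw [pow_succ', pow_mul]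
    calc u₀ * (u₀ ^ 2) ^ r * x * (u₀ * (u₀ ^ 2) ^ r)⁻¹
        = u₀ * ((u₀ ^ 2) ^ r * x * ((u₀ ^ 2) ^ r)⁻¹) * u₀⁻¹ := by
          simp only [mul_inv_rev, mul_assoc]
      _ = x⁻¹ := by rw [mem_cen_iff_conj.1 h3, hu₀inv]
  have huT : u ∈ T := pow_mem hu₀T _
  have hu2 : u * u = 1 := by
    refine hodd _ (mul_mem huT huT) (mem_cen_iff_conj.2 ?_) a₁ ?_
    · calc u * u * x * (u * u)⁻¹ = u * (u * x * u⁻¹) * u⁻¹ := by simp only [mul_inv_rev, mul_assoc]
        _ = (u * x * u⁻¹)⁻¹ := by nth_rewrite 1 [hu]; group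
        _ = x := by rw [hu, inv_inv]
    · rw [hudef, ← pow_add, ← pow_mul, show (m₁ + m₁) * 2 ^ a₁ = orderOf u₀ * 2 by rw [ho]; ring,
        pow_mul, pow_orderOf_eq_one, one_pow]
  have hu1 : u ≠ 1 := by
    intro e
    rw [e] at hu
    have : x * x = 1 := by
      nth_rewrite 1 [show x = x⁻¹ by simpa using hu]
      exact inv_mul_cancel x
    have := orderOf_two_of_mul_self this hx1
    omega
  have huo := orderOf_two_of_mul_self hu2 hu1
  have hCT : ∀ c ∈ T, c ∈ cen x → c ∈ zpowers x := by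
    intro c hcT hcx
    obtain ⟨j, hj⟩ := C.real_cen Nat.prime_three (by norm_num) hxo huo hu (cen_le_nz x hcx)
    obtain ⟨e, he⟩ := hall u huT huo ⟨_, hj⟩
    have h1 : x ^ j * c = 1 := hodd _ (mul_mem (T.zpow_mem hxM.2 j) hcT)
      (mul_mem ((cen x).zpow_mem (mem_cen.2 rfl) j) hcx) e (congrArg Subtype.val he)
    rw [eq_inv_of_mul_eq_one_right h1]
    exact inv_mem (zpow_mem (mem_zpowers x) j)
  haveI hsimp := C.min.isSimpleGroup C.nm C.rad
  set xT : T := ⟨x, hxM.2⟩ with hxT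
  have hX3 : Nat.card (zpowers xT) = 3 := by rw [Nat.card_zpowers, orderOf_mk, hxo]
  have hCX : centralizer (zpowers xT : Set T) = zpowers xT := by
    refine le_antisymm (fun c hc => ?_) (fun c hc => mem_centralizer_iff.2 fun b hb => ?_)
    · have h1 : (c : X) * x = x * c :=
        (congrArg Subtype.val (mem_centralizer_iff.1 hc xT (mem_zpowers xT))).symm
      obtain ⟨j, hj⟩ := mem_zpowers_iff.1 (hCT c c.2 (mem_cen.2 h1))
      exact mem_zpowers_iff.2 ⟨j, Subtype.ext hj⟩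
    · obtain ⟨i, rfl⟩ := mem_zpowers_iff.1 hb
      obtain ⟨j, rfl⟩ := mem_zpowers_iff.1 hc
      exact ((Commute.refl xT).zpow_zpow i j).eq
  obtain ⟨Q2, hQ2⟩ := exists_sylow_subgroupOf S C.min.normal
  have hcard0 : Nat.card S0 = 2 ^ (Nat.card T).factorization 2 := by
    rw [← Q2.card_eq_multiplicity, hQ2, ← inf_subgroupOf_right]
    exact (Nat.card_congr (subgroupOfEquivOfLe (inf_le_right : (S : Subgroup X) ⊓ T ≤ T)).toEquiv).symm
  rcases Cfsg.Agent.S3331.result (zpowers xT) hX3 hCX with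
    ⟨N, hN, hnil, -, hquot⟩ | ⟨N, hN, hab, -, hquot⟩ | ⟨⟨e⟩⟩
  · haveI := hnil
    rcases hN.eq_bot_or_eq_top with rfl | rfl
    · have hcard : Nat.card (T ⧸ (⊥ : Subgroup T)) = Nat.card T :=
        Nat.card_congr QuotientGroup.quotientBot.toEquiv
      apply C.min.not_isSolvable C.rad
      rcases hquot with h | ⟨⟨e⟩⟩
      · exact isSolvable_of_card_dvd (a := 0) (b := 1) (by rw [← hcard, h]; norm_num)
      · refine isSolvable_of_card_dvd (a := 1) (b := 1) ?_
        rw [← hcard, Nat.card_congr e.toEquiv, Nat.card_perm, Nat.card_fin]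
        decide
    · exact C.min.not_isSolvable C.rad
        (Group.isSolvable_of_surjective (f := (Subgroup.topEquiv (G := T)).toMonoidHom)
          Subgroup.topEquiv.surjective)
  · haveI := hab
    haveI : Group.IsSolvable N := Group.isSolvable_of_comm fun a b => hab.is_comm.comm a b
    rcases hN.eq_bot_or_eq_top with rfl | rfl
    · obtain ⟨e⟩ := hquot
      have hcT : Nat.card T = 60 := by
        rw [← Nat.card_congr (QuotientGroup.quotientBot (G := T)).toEquiv, Nat.card_congr e.toEquiv,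
          Nat.card_eq_fintype_card]
        decide
      have h60 : (60 : ℕ).factorization 2 = 2 := by
        rw [show (60 : ℕ) = 2 ^ 2 * 15 by norm_num, Nat.factorization_mul (by norm_num) (by norm_num),
          Nat.factorization_pow]
        simp [Nat.prime_two.factorization_self, Nat.factorization_eq_zero_of_not_dvd]
      rw [hcT, h60] at hcard0
      haveI : IsMulCommutative S0 := IsPGroup.isMulCommutative_of_card_eq_prime_sq hcard0
      exact hav (congrArg Subtype.val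
        (IsMulCommutative.is_comm.comm (⟨a, ha⟩ : S0) ⟨v, hvS, hvT⟩))
    · exact C.min.not_isSolvable C.rad
        (Group.isSolvable_of_surjective (f := (Subgroup.topEquiv (G := T)).toMonoidHom)
          Subgroup.topEquiv.surjective)
  · have hcT : Nat.card T = 168 := by
      haveI : Fact (Nat.Prime 7) := ⟨by norm_num⟩
      have := PSL2.gcd_mul_card_PSL (F := ZMod 7)
      rw [Nat.card_congr e.toEquiv]
      rw [ZMod.card, show Nat.gcd 2 (7 - 1) = 2 by decide] at this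
      norm_num at this
      simp only [Nat.card_eq_fintype_card] at this ⊢
      omega
    have h168 : (168 : ℕ).factorization 2 = 3 := by
      rw [show (168 : ℕ) = 2 ^ 3 * 21 by norm_num, Nat.factorization_mul (by norm_num) (by norm_num),
        Nat.factorization_pow]
      simp [Nat.prime_two.factorization_self, Nat.factorization_eq_zero_of_not_dvd]
    rw [hcT, h168] at hcard0
    have hV00 : V ≤ C00 := fun c hc => by
      have hv' : v ∈ C00 := ⟨⟨hvS, mem_cen.2 rfl⟩, hvT⟩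
      rcases mem_four.1 hc with rfl | rfl | rfl | rfl
      exacts [one_mem _, hzC00, hv', mul_mem hzC00 hv']
    have h4 : 4 ≤ Nat.card C00 := by
      rw [← card_four (ha := hz2) (hb := hv2) (hab := hvz) hz1 hv1 (Ne.symm hvne)]
      exact card_le_of_le hV00
    have hS0M : S0 ≤ M := by
      rw [← hNC00]
      have hn : (C00.subgroupOf S0).Normal := by
        haveI : Fact (Nat.Prime 2) := ⟨Nat.prime_two⟩
        refine Subgroup.normal_of_index_eq_two ?_
        have hm := (C00.subgroupOf S0).index_mul_card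
        rw [Nat.card_congr (subgroupOfEquivOfLe hC00S.le).toEquiv, hk, hcard0] at hm
        rw [hk] at h4
        have hlt : Nat.card C00 < Nat.card S0 := lt_of_le_of_ne (card_le_of_le hC00S.le)
          fun e' => hC00S.ne (eq_of_le_of_card_ge hC00S.le e'.ge)
        rw [hk, hcard0] at hlt
        have : k < 3 := (Nat.pow_lt_pow_iff_right (by norm_num)).1 hlt
        interval_cases k <;> omega
      exact (normal_subgroupOf_iff_le_normalizer hC00S.le).1 hn
    have hTM : ¬ T ≤ M := by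
      intro h
      have hVT : V ≤ T := hV00.trans inf_le_right
      rcases C.min.simple C.nm C.rad hVT h with e | e
      · exact hz1 (mem_bot.1 (e ▸ hzV))
      · exact C.min.not_isSolvable C.rad (e ▸ (two_of_pGroup Nat.prime_two isPGroup_four).isSolvable)
    have hsup : T ⊔ M = ⊤ := hMco.2 _ (right_lt_sup.2 hTM)
    have hrel : T.relIndex M = T.index := by
      rw [← relIndex_sup_left, hsup, relIndex_top_right]
    obtain ⟨j, hj⟩ : 8 ∣ Nat.card (T.subgroupOf M) := by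
      rw [← show Nat.card S0 = 8 by rw [hcard0]; norm_num,
        ← Nat.card_congr (subgroupOfEquivOfLe hS0M).toEquiv]
      exact card_dvd_of_le fun c hc => mem_subgroupOf.2 (mem_subgroupOf.1 hc).2
    have hMcard : Nat.card M = T.index * (8 * j) := by
      rw [← hj, ← hrel, relIndex, index_mul_card]
    have hXcard : Nat.card X = T.index * 168 := by rw [← hcT, index_mul_card]
    obtain ⟨e2, he2⟩ := IsPGroup.iff_card.1 S.2
    have hdiv : Nat.card (S : Subgroup X) ∣ Nat.card M := by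
      have h1 : Nat.card (S : Subgroup X) ∣ T.index * 8 * 21 := by
        rw [mul_assoc]; norm_num; rw [← hXcard]; exact card_subgroup_dvd_card _
      rw [he2] at h1 ⊢
      have := (Nat.Coprime.pow_left e2 (by norm_num : Nat.Coprime 2 21)).dvd_of_dvd_mul_right h1
      rw [hMcard, ← mul_assoc]
      exact this.mul_right j
    obtain ⟨Pm, hPm⟩ := Sylow.exists_subgroup_card_pow_prime 2 (he2 ▸ hdiv)
    have hP2 : IsPGroup 2 (Pm.map M.subtype) := (IsPGroup.of_card hPm).map _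
    obtain ⟨h, hh⟩ := exists_conj_mem_sylow S hP2
    have heq : (Pm.map M.subtype).map (MulAut.conj h).toMonoidHom = (S : Subgroup X) := by
      refine eq_of_le_of_card_ge ?_ ?_
      · rintro _ ⟨c, hc, rfl⟩; exact hh c hc
      · rw [card_map_of_injective (MulAut.conj h).injective,
          card_map_of_injective M.subtype_injective, hPm, he2]
    have hcenM : cen (h⁻¹ * z * h⁻¹⁻¹) ≤ M := by
      intro c hc
      rw [mem_cen_conj, inv_inv, hS, ← heq] at hc
      obtain ⟨d, ⟨b, hb, rfl⟩, hd⟩ := hc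
      have : c = (b : X) := by
        have hd' : h * (b : X) * h⁻¹ = h * c * h⁻¹ := hd
        exact (mul_left_cancel (mul_right_cancel hd')).symm
      exact this ▸ b.2
    have hMeq := ((C.coatom_cen (by rw [orderOf_conj, hz])).le_iff.1 hcenM).resolve_left hMco.1
    have hd := orderOf_dvd_natCard _ (hMeq ▸ hxM.1)
    rw [hxo] at hd
    have := prime_eq_of_dvd_pGroup Nat.prime_two Nat.prime_three
      (isPGroup_cen_conj (hS ▸ S.2)) hd
    norm_num at this

/-- Stage one: central involutions of the socle have centralisers with odd primes. -/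
theorem Soc.not_twoGroup_of_central {S : Sylow 2 X} {z : X} (hz : orderOf z = 2)
    (hzS : z ∈ (S : Subgroup X)) (hzT : z ∈ T) (hSz : (S : Subgroup X) ≤ cen z) :
    ¬ IsPGroup 2 (cen z) := fun hC => by
  haveI : Fact (Nat.Prime 2) := ⟨Nat.prime_two⟩
  have hS := C.cen_eq_sylow hSz hC
  refine C.false_of_all_twoGroup hz hzS hzT hS fun t _ ht => ?_
  by_contra hB
  obtain ⟨g, hg⟩ := exists_conj_mem_sylow S (isPGroup_zpowers_prime ht)
  refine C.no_typeB hz hzS hS (v := g * t * g⁻¹) (by rw [orderOf_conj, ht])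
    (hg t (mem_zpowers t)) fun h => hB ?_
  have := isPGroup_cen_conj (g := g⁻¹) h
  rwa [conj_inv_conj] at this

end Cfsg.Agent.MaxNormalizer
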