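import Cfsg.Agent.Lib.MaxNormalizer.StageTwoB
import Cfsg.Agent.Lib.AutPSLOuter.Outer
import Cfsg.Agent.Lib.AutPSLOrder.Main
import Cfsg.Agent.Lib.PSL2.Sylow
import Cfsg.Agent.Lib.PSL2.PGLHom
import Cfsg.Agent.Lib.PSL2Eleven.Basic

/-!
# The field is the prime field of thirteen elements
-/

set_option autoImplicit false
set_option linter.style.haveILetI false
set_option linter.unusedSectionVars false

open scoped MatrixGroups

namespace Cfsg.Agent.MaxNormalizer

open Subgroup PSL2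
open scoped Pointwise

variable {F : Type*} [Field F] [Fintype F]

theorem centralizer_uu (h2 : (2 : F) ≠ 0) {c : PSL(2, F)} (hc : c * PSL2.mk (uu 1) = PSL2.mk (uu 1) * c) :
    c ∈ (unip F).map PSL2.mk := by
  obtain ⟨h, rfl⟩ := mk_surjective c
  have e : PSL2.mk (h * uu 1 * h⁻¹) = PSL2.mk (uu (1 : F)) := by
    rw [map_mul, map_mul, map_inv, hc, mul_inv_cancel_right]
  rcases mk_eq_mk.1 e with e' | e'
  · have hm : h ∈ cent (uu (1 : F)) := mem_cent.2 (mul_inv_eq_iff_eq_mul.1 e')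
    rw [cent_uu one_ne_zero, mem_pmUnip] at hm
    rcases hm with hm | hm
    · exact mem_map_of_mem _ hm
    · exact ⟨-h, hm, mk_neg h⟩
  · exfalso
    have ht := congrArg tr e'
    rw [tr_conj, tr_neg] at ht
    have h4 : (2 : F) * 2 = 0 := by
      have huu : tr (uu (1 : F)) = 2 := by simp [tr, uu]; norm_num
      rw [huu] at ht; linear_combination ht
    exact h2 (mul_self_eq_zero.1 h4)

theorem card_le_two_mul (p : ℕ) [hp : Fact p.Prime] [CharP F p]
    (h : ∀ a : F, a ≠ 0 → ∃ i : ℤ, a ^ 2 = (i : F)) : Fintype.card F ≤ 2 * p := by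
  classical
  have h' : ∀ a : F, ∃ c : ZMod p, a ^ 2 = ZMod.castHom (dvd_refl p) F c := by
    intro a
    by_cases ha : a = 0
    · exact ⟨0, by rw [ha, map_zero]; ring⟩
    · obtain ⟨i, hi⟩ := h a ha
      exact ⟨i, by rw [map_intCast, hi]⟩
  choose g hg using h'
  have hfib : ∀ c ∈ (Finset.univ : Finset (ZMod p)),
      (Finset.univ.filter fun a => g a = c).card ≤ 2 := by
    intro c _
    by_cases hne : ∃ a, g a = c
    · obtain ⟨a, ha⟩ := hne
      refine (Finset.card_le_card (t := {a, -a}) fun b hb => ?_).trans Finset.card_le_two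
      have hb' := (Finset.mem_filter.1 hb).2
      have e : b ^ 2 = a ^ 2 := by rw [hg b, hg a, hb', ha]
      simpa using sq_eq_sq_iff_eq_or_eq_neg.1 e
    · push Not at hne
      rw [Finset.filter_eq_empty_iff.2 fun a _ => hne a]
      simp
  have := Finset.card_le_mul_card_image (f := g) (s := (Finset.univ : Finset F)) 2
    fun c _ => hfib c (Finset.mem_univ c)
  calc Fintype.card F = (Finset.univ : Finset F).card := rfl
    _ ≤ 2 * (Finset.univ.image g).card := this
    _ ≤ 2 * p := by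
      gcongr
      exact (Finset.card_le_univ _).trans_eq (ZMod.card p)

theorem NM.of_equiv {G H : Type*} [Group G] [Group H] (e : G ≃* H) (h : NM G) : NM H := by
  intro K hK hK2
  set K' := K.map e.symm.toMonoidHom with hK'
  have hK'ne : K' ≠ ⊥ := fun e' => hK ((map_eq_bot_iff_of_injective K e.symm.injective).1 e')
  have hcard : Nat.card K' = Nat.card K := card_map_of_injective e.symm.injective
  have h2 : Two K' := by
    obtain ⟨p, q, hp, hq, hr⟩ := hK2
    exact ⟨p, q, hp, hq, fun r hr' hd => hr r hr' (hcard ▸ hd)⟩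
  have hco := h K' hK'ne h2
  have heq : normalizer (K : Set H) = (normalizer (K' : Set G)).map e.toMonoidHom := by
    rw [map_equiv_normalizer_eq, hK', Subgroup.map_map]
    congr 2
    ext c
    simp
  rw [heq]
  exact ((MulEquiv.mapSubgroup e).isCoatom_iff _).2 hco

theorem torus_dvd (hNM : NM PSL(2, F)) {g : SL(2, F)} (h4 : tr g ^ 2 ≠ 4) {r : ℕ} (hr : r.Prime)
    (hr2 : r ≠ 2) (hd : r ∣ Nat.card ((cent g).map PSL2.mk)) :
    Nat.card ((cent g).map PSL2.mk) ∣ 2 * r := by
  obtain ⟨⟨c, hc⟩, hgen⟩ := (isCyclic_map_cent h4).exists_generator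
  have hord : orderOf c = Nat.card ((cent g).map PSL2.mk) := by
    rw [← orderOf_mk c hc, orderOf_eq_card_of_forall_mem_zpowers hgen]
  set n := Nat.card ((cent g).map PSL2.mk) with hn
  obtain ⟨z, hz, rfl⟩ := mem_map.1 hc
  obtain ⟨w, hw⟩ := exists_inverting h4
  set u := PSL2.mk w with hu
  have hwc : u * PSL2.mk z * u⁻¹ = (PSL2.mk z)⁻¹ := by
    rw [hu, ← map_inv, ← map_inv, ← map_mul, ← map_mul,
      conj_eq_inv (not_mem_center_of_tr h4) (mem_cent.1 hz) hw]
  have hu2 : u * u = 1 := by rw [hu, ← map_mul, sq_eq_neg_one_of_inverting h4 hw, mk_neg_one]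
  set x := PSL2.mk z ^ (n / r) with hx
  have hxo : orderOf x = r := by
    rw [hx, ← hord, orderOf_pow_orderOf_div (orderOf_pos _).ne' (hord.symm ▸ hd)]
  have hux : u * x * u⁻¹ = x⁻¹ := by rw [hx, ← conj_pow, hwc, inv_pow]
  have hu1 : u ≠ 1 := by
    intro e
    rw [e, one_mul, inv_one, mul_one] at hux
    have : x * x = 1 := by
      nth_rewrite 1 [hux]
      exact inv_mul_cancel x
    exact hr2 (hxo ▸ orderOf_two_of_mul_self this (ne_one_of_orderOf hr hxo))
  have huo := orderOf_two_of_mul_self hu2 hu1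
  have hcx : PSL2.mk z ∈ nz x := cen_le_nz x (mem_cen.2 (Commute.self_pow (PSL2.mk z) _).eq)
  -- the dihedral group on `x` and `u`
  have hA := isPGroup_zpowers_prime (G := PSL(2, F)) hxo
  have hB := isPGroup_zpowers_prime (G := PSL(2, F)) huo
  have hBA : zpowers u ≤ nz x := zpowers_le.2 (mem_nz.2 (hux ▸ inv_mem (mem_zpowers x)))
  have h2 := two_sup hr Nat.prime_two hA hB hBA
  have hne : zpowers x ⊔ zpowers u ≠ ⊥ := fun e =>
    zpowers_ne_bot_of_ne (ne_one_of_orderOf hr hxo) (le_bot_iff.1 (e ▸ le_sup_left))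
  have e := hNM.eq_of_le hne (zpowers_ne_bot_of_ne (ne_one_of_orderOf hr hxo)) h2
    (two_of_pGroup hr hA) (conj_mem_left_of_sup hr Nat.prime_two hr2 hA hB hBA)
  have hm := conj_mem_of_mem_normalizer (e.symm ▸ hcx :
    PSL2.mk z ∈ normalizer ((zpowers x ⊔ zpowers u : Subgroup _) : Set PSL(2, F)))
    ((le_sup_right : zpowers u ≤ zpowers x ⊔ zpowers u) (mem_zpowers u))
  obtain ⟨b, hb, q, hq, hbq⟩ : PSL2.mk z * u * (PSL2.mk z)⁻¹ ∈
      ((zpowers x : Set PSL(2, F)) * (zpowers u : Set PSL(2, F))) := by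
    rw [← coe_mul_of_right_le_normalizer_left _ _ hBA]; exact hm
  have hzz : PSL2.mk z * u * (PSL2.mk z)⁻¹ = (PSL2.mk z * PSL2.mk z) * u := by
    calc PSL2.mk z * u * (PSL2.mk z)⁻¹ = PSL2.mk z * (u * (PSL2.mk z)⁻¹ * u⁻¹) * u := by group
      _ = PSL2.mk z * ((u * PSL2.mk z * u⁻¹)⁻¹) * u := by group
      _ = _ := by rw [hwc, inv_inv]
  have hsq : PSL2.mk z * PSL2.mk z * (u * q⁻¹) = b := by
    rw [← mul_assoc, ← hzz, ← hbq, mul_inv_cancel_right]
  classical
  have hq' : q = 1 ∨ q = u := by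
    rw [SetLike.mem_coe, mem_zpowers_iff_mem_range_orderOf, huo] at hq
    simpa [Finset.range_add_one, or_comm, eq_comm] using hq
  rcases hq' with rfl | rfl
  · exfalso
    have h1 := orderOf_dvd_natCard _ hb
    rw [show b = PSL2.mk z * u * (PSL2.mk z)⁻¹ by simpa using hbq, orderOf_conj, huo, Nat.card_zpowers,
      hxo] at h1
    exact hr2 ((Nat.prime_dvd_prime_iff_eq Nat.prime_two hr).1 h1).symm
  · rw [mul_inv_cancel, mul_one] at hsq
    rw [← hord, orderOf_dvd_iff_pow_eq_one, pow_mul, pow_two, hsq, ← orderOf_dvd_iff_pow_eq_one]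
    have h1 := orderOf_dvd_natCard _ hb
    rwa [Nat.card_zpowers, hxo] at h1

variable {X : Type*} [Group X] [Finite X] {T : Subgroup X} (C : Soc T) {S : Sylow 2 X} {t t' : X}
include C

theorem Soc.prime_field (he : T ≃* PSL(2, F)) (hodd : Odd (Fintype.card F))
    (p : ℕ) [hp : Fact p.Prime] [CharP F p] : Fintype.card F = p := by
  haveI := C.min.normal
  have hp2 : p ≠ 2 := by
    rintro rfl
    have := PSL2.p_dvd_q (F := F) 2
    rw [Nat.odd_iff] at hodd
    omega
  have h2 : (2 : F) ≠ 0 := Ring.two_ne_zero (fun e => hp2 (ringChar.eq F p ▸ e))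
  let ι : PSL(2, F) →* X := T.subtype.comp he.symm.toMonoidHom
  have hι : Function.Injective ι := T.subtype_injective.comp he.symm.injective
  set x := ι (PSL2.mk (uu (1 : F))) with hx
  set U := ((unip F).map PSL2.mk).map ι with hU
  have hxo : orderOf x = p := by
    rw [hx, orderOf_injective ι hι, orderOf_mk_uu p one_ne_zero]
  have hxU : x ∈ U := mem_map_of_mem _ (mem_map_of_mem _ (mem_unip.2 ⟨1, rfl⟩))
  have hUp : IsPGroup p U := ((isPGroup_unip p).map _).map _
  have hUT : ∀ c ∈ U, c ∈ T := by rintro _ ⟨d, -, rfl⟩; exact (he.symm d).2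
  have hUcomm : ∀ c ∈ U, c * x = x * c := by
    rintro _ ⟨_, ⟨d, hd, rfl⟩, rfl⟩
    obtain ⟨s, rfl⟩ := mem_unip.1 hd
    rw [hx, ← map_mul, ← map_mul, ← map_mul, ← map_mul, uu_mul_uu, uu_mul_uu, add_comm]
  have hle : nz x ≤ normalizer (U : Set X) := fun n hn => mem_normalizer_of_conj fun c hc => by
    have hx' : x ∈ zpowers (n * x * n⁻¹) := by
      have hle' : zpowers (n * x * n⁻¹) ≤ zpowers x := zpowers_le.2 (mem_nz.1 hn)
      rw [eq_of_le_of_card_ge hle' (by rw [Nat.card_zpowers, Nat.card_zpowers, orderOf_conj])]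
      exact mem_zpowers x
    have hcomm : Commute (n * c * n⁻¹) (n * x * n⁻¹) := by
      show _ = _
      calc n * c * n⁻¹ * (n * x * n⁻¹) = n * (c * x) * n⁻¹ := by group
        _ = n * x * n⁻¹ * (n * c * n⁻¹) := by rw [hUcomm c hc]; group
    obtain ⟨i, hi⟩ := mem_zpowers_iff.1 hx'
    have hcx : Commute (n * c * n⁻¹) x := hi ▸ hcomm.zpow_right i
    set d : T := ⟨n * c * n⁻¹, C.min.normal.conj_mem c (hUT c hc) n⟩
    have hd : he d * PSL2.mk (uu (1 : F)) = PSL2.mk (uu 1) * he d := by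
      apply hι
      rw [map_mul, map_mul]
      have e1 : ι (he d) = n * c * n⁻¹ := congrArg Subtype.val (he.symm_apply_apply d)
      rw [e1]; exact hcx.eq
    exact ⟨he d, centralizer_uu h2 hd, congrArg Subtype.val (he.symm_apply_apply d)⟩
  have heq := C.nm.eq_of_le (zpowers_ne_bot_of_ne (ne_one_of_orderOf hp.out hxo))
    (fun e => ne_one_of_orderOf hp.out hxo (mem_bot.1 (e ▸ hxU)))
    (two_of_pGroup hp.out (isPGroup_zpowers_prime hxo)) (two_of_pGroup hp.out hUp) hle
  have hsq : ∀ a : F, a ≠ 0 → ∃ i : ℤ, a ^ 2 = (i : F) := by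
    intro a ha
    set k := Units.mk0 a ha
    have hn : ι (PSL2.mk (dd k)) ∈ normalizer (U : Set X) := mem_normalizer_of_conj fun c hc => by
      obtain ⟨_, ⟨d, hd, rfl⟩, rfl⟩ := hc
      obtain ⟨s, rfl⟩ := mem_unip.1 hd
      refine ⟨PSL2.mk (uu ((k : F) ^ 2 * s)), mem_map_of_mem _ (mem_unip.2 ⟨_, rfl⟩), ?_⟩
      rw [← dd_conj_uu, map_mul, map_mul, map_inv, map_mul, map_mul, map_inv]
    rw [← heq] at hn
    obtain ⟨i, hi⟩ := mem_zpowers_iff.1 (conj_mem_of_mem_normalizer hn (mem_zpowers x))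
    rw [hx, ← map_zpow, ← map_inv, ← map_mul, ← map_mul, ← map_inv, ← map_mul, ← map_mul,
      dd_conj_uu, ← map_zpow] at hi
    have h' := mk_injOn_unip (mem_unip.2 ⟨(i : F), rfl⟩) (mem_unip.2 ⟨(k : F) ^ 2 * 1, rfl⟩) (by
      rw [← hι hi]
      congr 1
      have hz : (uuHom (Multiplicative.ofAdd (1 : F))) ^ i = uu (i : F) := by
        rw [← map_zpow]
        show uu ((Multiplicative.ofAdd (1 : F) ^ i).toAdd) = _
        simp
      exact hz.symm)
    exact ⟨i, by rw [uu_injective h']; simp [k]⟩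
  obtain ⟨f, -, hf⟩ := FiniteField.card F p
  have hle2 := card_le_two_mul p hsq
  have hp3 : 3 ≤ p := by have := hp.out.two_le; omega
  rw [hf] at hle2 ⊢
  rcases Nat.lt_or_ge (f : ℕ) 2 with hf2 | hf2
  · have : (f : ℕ) = 1 := by have := f.pos; omega
    rw [this, pow_one]
  · exfalso
    have : p ^ 2 ≤ p ^ (f : ℕ) := Nat.pow_le_pow_right (by omega) hf2
    nlinarith

omit C

theorem mulAut_inner_index (hp : ∀ σ : F ≃+* F, σ = 1) (hodd : Odd (Fintype.card F)) :
    (Cfsg.Inn PSL(2, F)).index ≤ 2 := by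
  have htop : (AutPSLOuter.outDiag : GL (Fin (1 + 1)) F →* Cfsg.Out PSL(2, F)).range = ⊤ := by
    refine top_unique fun b _ => ?_
    obtain ⟨β, rfl⟩ := QuotientGroup.mk'_surjective (Cfsg.Inn PSL(2, F)) b
    obtain ⟨g, σ, γ, hγ, hβ⟩ := AutPSL.exists_decomposition (m := 1) le_rfl β
    rw [hp σ, AutPSL.fieldP_one, mul_one] at hβ
    obtain ⟨g', hg'⟩ : ∃ g', β = AutPSL.conjP g' := by
      rcases hγ with rfl | rfl
      · exact ⟨g, by rw [hβ, mul_one]⟩
      · obtain ⟨J, hJ⟩ := AutPSLOrder.invP_eq_conjP (F := F)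
        exact ⟨g * J, by rw [map_mul, hβ, hJ]⟩
    exact ⟨g', by rw [hg']; rfl⟩
  have h := (AutPSLOuter.diag_card_cyclic (F := F) (m := 1) le_rfl).2
  rw [htop, card_top] at h
  rw [index_eq_card]
  show Nat.card (Cfsg.Out PSL(2, F)) ≤ 2
  rw [h]
  exact Nat.le_of_dvd two_pos (Nat.gcd_dvd_left _ _)

include C

/-- At most index two over the socle. -/
theorem Soc.index_le_two (he : T ≃* PSL(2, F)) (hp : ∀ σ : F ≃+* F, σ = 1)
    (hodd : Odd (Fintype.card F)) : T.index ≤ 2 := by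
  haveI := C.min.normal
  let φ : X →* MulAut PSL(2, F) :=
    (MulAut.congr he).toMonoidHom.comp (MulAut.conjNormal : X →* MulAut T)
  have hφ : ∀ (g : X) (s : PSL(2, F)), ((he.symm (φ g s) : T) : X) = g * (he.symm s : T) * g⁻¹ := by
    intro g s
    show ((he.symm (he (MulAut.conjNormal g (he.symm s))) : T) : X) = _
    rw [MulEquiv.symm_apply_apply, MulAut.conjNormal_apply]
  have hle : (Cfsg.Inn PSL(2, F)).comap φ ≤ T := by
    rintro g ⟨c, hc⟩
    have hcen : ((he.symm c : T) : X)⁻¹ * g ∈ centralizer (T : Set X) := by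
      refine mem_centralizer_iff.2 fun a ha => ?_
      have h := hφ g (he ⟨a, ha⟩)
      rw [← hc, MulEquiv.symm_apply_apply] at h
      have h' : (he.symm c : T) * a * ((he.symm c : T) : X)⁻¹ = g * a * g⁻¹ := by
        rw [← h]
        simp [MulAut.conj_apply]
      calc a * (((he.symm c : T) : X)⁻¹ * g)
          = ((he.symm c : T) : X)⁻¹ * ((he.symm c : T) * a * ((he.symm c : T) : X)⁻¹) * g := by group
        _ = _ := by rw [h']; group
    rw [C.min.centralizer_eq_bot C.nm C.rad, mem_bot, inv_mul_eq_one] at hcen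
    rw [← hcen]; exact (he.symm c).2
  have h1 : T.index ≤ ((Cfsg.Inn PSL(2, F)).comap φ).index :=
    Nat.le_of_dvd (Nat.pos_of_ne_zero index_ne_zero_of_finite) (index_dvd_of_le hle)
  refine h1.trans ?_
  rw [index_comap]
  exact (Nat.le_of_dvd (Nat.pos_of_ne_zero index_ne_zero_of_finite)
    (relIndex_dvd_index_of_normal _ _)).trans (mulAut_inner_index hp hodd)

theorem Soc.eq_top (F' : FourData T S t t') (hi : T.index ≤ 2) : T = ⊤ := by
  haveI : Fact (Nat.Prime 2) := ⟨Nat.prime_two⟩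
  haveI := C.min.normal
  by_contra hne
  have hi2 : T.index = 2 := by
    have h0 : T.index ≠ 0 := index_ne_zero_of_finite
    have h1 : T.index ≠ 1 := fun e => hne (index_eq_one.1 e)
    omega
  have hmul : ∀ a b, a * b ∈ T ↔ (a ∈ T ↔ b ∈ T) := fun a b => mul_mem_iff_of_index_two hi2
  obtain ⟨s, hsS, hsT⟩ : ∃ s ∈ (S : Subgroup X), s ∉ T := by
    by_contra hno
    push Not at hno
    apply S.not_dvd_index
    rw [← relIndex_mul_index (show (S : Subgroup X) ≤ T from hno), hi2]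
    exact Dvd.intro_left _ rfl
  have hcomm : ∀ a ∈ (S : Subgroup X) ⊓ T, s * a = a * s := fun a ha =>
    C.invol_central S ha.1 (C.fourData_sq F' a ha) hsS
  have hsq : ∀ r ∈ (S : Subgroup X), r ∉ T → r * r = s * s := by
    intro r hr hrT
    set e := s⁻¹ * r with he
    have heS : e ∈ (S : Subgroup X) ⊓ T := Subgroup.mem_inf.2 ⟨mul_mem (inv_mem hsS) hr,
      (hmul _ _).2 ⟨fun h => absurd (by simpa using T.inv_mem h) hsT, fun h => absurd h hrT⟩⟩
    have hre : r = s * e := by rw [he, mul_inv_cancel_left]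
    calc r * r = s * (e * s) * e := by rw [hre]; group
      _ = (s * s) * (e * e) := by rw [← hcomm e heS]; group
      _ = s * s := by rw [C.fourData_sq F' e heS, mul_one]
  have hs2 : s * s = 1 := by
    by_contra hs1
    have hssT : s * s ∈ (S : Subgroup X) ⊓ T := ⟨mul_mem hsS hsS, (hmul _ _).2 Iff.rfl⟩
    obtain ⟨n, hn, hne'⟩ := C.exists_moved S hssT.1
      (orderOf_two_of_mul_self (C.fourData_sq F' _ hssT) hs1)
    apply hne'
    rw [show n * (s * s) * n⁻¹ = (n * s * n⁻¹) * (n * s * n⁻¹) by group]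
    exact hsq _ (conj_mem_of_mem_normalizer hn hsS) fun h => hsT (by
      have := C.min.normal.conj_mem _ h n⁻¹
      rwa [show n⁻¹ * (n * s * n⁻¹) * n⁻¹⁻¹ = s by group] at this)
  obtain ⟨p, x, hp, hp2, hx, hxt⟩ := C.exists_nz F'.mem.2 F'.inv
  obtain ⟨p', x', hp', hp2', hx', hxt'⟩ := C.exists_nz F'.mem'.2 F'.inv'
  have hn : ∀ a ∈ (S : Subgroup X), a ∈ nz x ∧ a ∈ nz x' := fun a ha =>
    ⟨hxt ▸ C.sylow_le_cen S F'.mem.1 (mul_self_of_orderOf F'.inv) ha,
      hxt' ▸ C.sylow_le_cen S F'.mem'.1 (mul_self_of_orderOf F'.inv') ha⟩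
  have htx : t ∈ cen x := mem_cen_comm (hxt ▸ mem_nz.2 (by group; exact mem_zpowers x))
  have htx' : t' ∈ cen x' := mem_cen_comm (hxt' ▸ mem_nz.2 (by group; exact mem_zpowers x'))
  have htn : t' ∉ cen x := fun h => F'.ne (by
    rw [← hxt, C.nm.nz_eq_cen hp hp2 F'.inv' (isPGroup_zpowers_prime hx) (ne_one_of_orderOf hp hx)
      (mem_cen.1 h).symm])
  have htn' : t ∉ cen x' := fun h => F'.ne (by
    rw [← hxt', C.nm.nz_eq_cen hp' hp2' F'.inv (isPGroup_zpowers_prime hx') (ne_one_of_orderOf hp' hx')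
      (mem_cen.1 h).symm])
  have key : ∀ a ∈ (S : Subgroup X), a ∉ T → a ∈ cen x → a ∈ cen x' → False := by
    intro a ha haT h1 h2
    have ha2 : a * a = 1 := (hsq a ha haT).trans hs2
    have ho := orderOf_two_of_mul_self ha2 fun e => haT (e ▸ one_mem T)
    exact F'.ne ((hxt.symm.trans (C.nm.nz_eq_cen hp hp2 ho (isPGroup_zpowers_prime hx)
      (ne_one_of_orderOf hp hx) (mem_cen.1 h1).symm)).trans
      ((C.nm.nz_eq_cen hp' hp2' ho (isPGroup_zpowers_prime hx') (ne_one_of_orderOf hp' hx')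
        (mem_cen.1 h2).symm).symm.trans hxt'))
  -- choose a representative of the coset centralising both
  obtain ⟨a, haS, haT, hax⟩ : ∃ a ∈ (S : Subgroup X), a ∉ T ∧ a ∈ cen x := by
    by_cases h : s ∈ cen x
    · exact ⟨s, hsS, hsT, h⟩
    · exact ⟨s * t', mul_mem hsS F'.mem'.1, fun h' => hsT (((hmul _ _).1 h').2 F'.mem'.2),
        mul_mem_cen_of_inverting hp hx (hn s hsS).1 hs2 (hn t' F'.mem'.1).1
          (mul_self_of_orderOf F'.inv') h htn⟩
  by_cases h : a ∈ cen x'
  · exact key a haS haT hax h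
  · exact key (a * t) (mul_mem haS F'.mem.1) (fun h' => haT (((hmul _ _).1 h').2 F'.mem.2))
      (mul_mem hax htx) (mul_mem_cen_of_inverting hp' hx' (hn a haS).2 ((hsq a haS haT).trans hs2)
        (hn t F'.mem.1).2 (mul_self_of_orderOf F'.inv) h htn')

omit C

theorem not_NM_eleven (h11 : Fintype.card F = 11) : ¬ NM PSL(2, F) := by
  intro hNM
  haveI : Fact (Nat.Prime 11) := ⟨by norm_num⟩
  have h0 : (11 : F) = 0 := by
    have := Nat.cast_card_eq_zero F
    rw [h11] at this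
    exact_mod_cast this
  haveI := PSL2Eleven.charP_eleven h0
  obtain ⟨e⟩ := PSL2Eleven.iso_M0 h0
  set M := PSL2Eleven.M0 h0
  have hMc : Nat.card M = 60 := by
    rw [Nat.card_congr e.toEquiv, Nat.card_eq_fintype_card]; decide
  haveI : IsSimpleGroup M :=
    haveI := alternatingGroup.isSimpleGroup_five
    e.isSimpleGroup
  haveI : Fact (Nat.Prime 5) := ⟨by norm_num⟩
  obtain ⟨⟨c, hcM⟩, hco⟩ := exists_prime_orderOf_dvd_card' 5 (show 5 ∣ Nat.card M by rw [hMc]; norm_num)
  rw [orderOf_mk] at hco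
  have hc1 : c ≠ 1 := ne_one_of_orderOf (by norm_num) hco
  obtain ⟨g, hg, h4⟩ : ∃ g, PSL2.mk g = c ∧ tr g ^ 2 ≠ 4 := by
    refine (psl_cases hc1).resolve_right ?_
    rintro ⟨k, s, hs, rfl⟩
    rw [orderOf_mk_conj, orderOf_mk_uu 11 hs] at hco
    omega
  set A := (cent g).map PSL2.mk with hA
  have hcA : c ∈ A := hg ▸ mem_map_of_mem _ (mem_cent.2 (Commute.refl g))
  have hAc : Nat.card A = 5 := by
    have hd := orderOf_dvd_natCard _ hcA
    rw [hco, hA, card_map_cent_eq, h11] at hd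
    rw [hA, card_map_cent_eq, h11]
    rcases card_cent_of_tr h4 with e' | e' <;> rw [e', h11] at hd ⊢ <;> norm_num at hd <;> norm_num
  have hAeq : zpowers c = A :=
    eq_of_le_of_card_ge (zpowers_le.2 hcA) (by rw [hAc, Nat.card_zpowers, hco])
  have hN : nz c ≤ (normalizer (cent g : Set SL(2, F))).map PSL2.mk := by
    intro n hn
    obtain ⟨h, rfl⟩ := mk_surjective n
    refine mem_map_of_mem _ (mem_normalizer_of_conj fun a ha => ?_)
    rw [← mk_mem_map_iff (center_le_cent g)]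
    have hn' : PSL2.mk h ∈ normalizer (A : Set PSL(2, F)) := hAeq ▸ hn
    rw [map_mul, map_mul, map_inv]
    exact conj_mem_of_mem_normalizer hn' (mem_map_of_mem _ ha)
  have hNcard : Nat.card (nz c) ∣ 10 := by
    have := card_dvd_of_le hN
    obtain ⟨e'⟩ := dihedral_normalizer h4 hAc
    rwa [Nat.card_congr e'.toEquiv, DihedralGroup.nat_card] at this
  obtain ⟨Q5, hQ5⟩ : ∃ Q5 : Sylow 5 M, (zpowers c).subgroupOf M ≤ Q5 :=
    IsPGroup.exists_le_sylow ((isPGroup_zpowers_prime hco).comap_of_injective _ M.subtype_injective)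
  have hcle : zpowers c ≤ M := zpowers_le.2 hcM
  have hQc : Nat.card (Q5 : Subgroup M) = 5 := by
    rw [Q5.card_eq_multiplicity, hMc, show (60 : ℕ) = 5 ^ 1 * 12 by norm_num,
      Nat.factorization_mul (by norm_num) (by norm_num), Nat.factorization_pow]
    simp [(show Nat.Prime 5 by norm_num).factorization_self, Nat.factorization_eq_zero_of_not_dvd]
  have hQeq : (zpowers c).subgroupOf M = Q5 := eq_of_le_of_card_ge hQ5 (by
    rw [hQc, Nat.card_congr (subgroupOfEquivOfLe hcle).toEquiv, Nat.card_zpowers, hco])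
  obtain ⟨n, hn, hnc⟩ : ∃ n ∈ normalizer ((Q5 : Subgroup M) : Set M),
      n ∉ centralizer ((Q5 : Subgroup M) : Set M) := by
    by_contra hno
    push Not at hno
    obtain ⟨P', K, hK, hcompl⟩ := Transfer.hasNormalPComplement_of_normalizer_le_centralizer Q5 hno
    have hPc : Nat.card (P' : Subgroup M) = 5 := by
      rw [P'.card_eq_multiplicity, ← Q5.card_eq_multiplicity, hQc]
    have := hcompl.card_mul_card
    rw [hPc, hMc] at this
    rcases hK.eq_bot_or_eq_top with h | h <;> rw [h] at this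
    · simp at this
    · rw [card_top, hMc] at this; norm_num at this
  have hnM : (n : PSL(2, F)) ∈ nz c := by
    refine mem_nz.2 ?_
    have := conj_mem_of_mem_normalizer (a := (⟨c, hcM⟩ : M)) hn (hQeq ▸ mem_subgroupOf.2 (mem_zpowers c))
    rw [← hQeq, mem_subgroupOf] at this
    exact this
  have hlt : zpowers c < nz c ⊓ M := by
    refine lt_of_le_of_ne (le_inf le_normalizer hcle) fun e' => hnc ?_
    have hmem : (n : PSL(2, F)) ∈ zpowers c := e'.ge ⟨hnM, n.2⟩
    refine mem_centralizer_iff.2 fun a ha => Subtype.ext ?_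
    rw [SetLike.mem_coe, ← hQeq, mem_subgroupOf] at ha
    obtain ⟨i, hi⟩ := mem_zpowers_iff.1 hmem
    obtain ⟨j, hj⟩ := mem_zpowers_iff.1 ha
    show (a : PSL(2, F)) * n = n * a
    rw [← hi, ← hj]
    exact ((Commute.refl c).zpow_zpow j i).eq
  have hNle : nz c ≤ M := by
    have h1 := card_dvd_of_le (hlt.le)
    rw [Nat.card_zpowers, hco] at h1
    have h2 : Nat.card (nz c ⊓ M : Subgroup _) ≠ 5 := fun e' =>
      hlt.ne (eq_of_le_of_card_ge hlt.le (by rw [e', Nat.card_zpowers, hco]))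
    have h3 := (card_dvd_of_le (inf_le_left : nz c ⊓ M ≤ nz c)).trans hNcard
    have h4' := Nat.le_of_dvd (by norm_num) h3
    refine inf_eq_left.1 (eq_of_le_of_card_ge inf_le_left ?_)
    have := Nat.le_of_dvd (by norm_num) hNcard
    interval_cases (Nat.card (nz c ⊓ M : Subgroup _)) <;> omega
  rcases hNM.eq_top_or_eq (zpowers_ne_bot_of_ne hc1)
    (two_of_pGroup (by norm_num) (isPGroup_zpowers_prime hco)) hNle with h | h
  · have hP : Nat.card PSL(2, F) = 60 := by rw [← hMc, h, card_top]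
    have := gcd_mul_card_PSL (F := F)
    rw [hP, h11] at this
    norm_num at this
  · have h' := Nat.le_of_dvd (by norm_num) hNcard
    have hMN : Nat.card M = Nat.card (nz c) := by rw [h]
    omega

/-- The arithmetic of the two tori. -/
theorem card_eq_thirteen (hNM : NM PSL(2, F)) (p : ℕ) [hp : Fact p.Prime] [CharP F p]
    (hF : Fintype.card F = p) (h5 : 5 ≤ p) {y : PSL(2, F)} {r : ℕ} (hr : r.Prime) (hr2 : r ≠ 2)
    (hy : orderOf y = 2 * r) : p = 13 ∨ p = 11 := by
  obtain ⟨g1, h41, hg1⟩ := exists_torus_card_sub_one (F := F) (by omega)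
  obtain ⟨g2, h42, hg2⟩ := exists_torus_card_add_one F
  have hodd : p % 2 = 1 := Nat.odd_iff.1 (hp.out.odd_of_ne_two (by omega))
  have hgcd : Nat.gcd 2 (p - 1) = 2 := Nat.gcd_eq_left ⟨(p - 1) / 2, by omega⟩
  have hA : Nat.card ((cent g1).map PSL2.mk) = (p - 1) / 2 := by rw [card_map_cent_eq, hg1, hF, hgcd]
  have hB : Nat.card ((cent g2).map PSL2.mk) = (p + 1) / 2 := by rw [card_map_cent_eq, hg2, hF, hgcd]
  set A := (p - 1) / 2 with hAdef
  set B := (p + 1) / 2 with hBdef
  have hAB : B = A + 1 ∧ p = 2 * A + 1 := ⟨by omega, by omega⟩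
  have tA : ∀ q, q.Prime → q ≠ 2 → q ∣ A → A ∣ 2 * q := fun q hq hq2 hd =>
    hA ▸ torus_dvd hNM h41 hq hq2 (hA.symm ▸ hd)
  have tB : ∀ q, q.Prime → q ≠ 2 → q ∣ B → B ∣ 2 * q := fun q hq hq2 hd =>
    hB ▸ torus_dvd hNM h42 hq hq2 (hB.symm ▸ hd)
  have hprime : ∀ n : ℕ, (∀ q, q.Prime → q ≠ 2 → q ∣ n → n ∣ 2 * q) → n % 2 = 1 → 2 ≤ n →
      n.Prime := by
    intro n hn hnodd hn2
    obtain ⟨q, hq, hqd⟩ := Nat.exists_prime_and_dvd (n := n) (by omega)
    have hq2 : q ≠ 2 := by rintro rfl; omega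
    have hcop : n.Coprime 2 := Nat.coprime_two_right.2 (Nat.odd_iff.2 hnodd)
    exact Nat.dvd_antisymm (hcop.dvd_of_dvd_mul_left (hn q hq hq2 hqd)) hqd ▸ hq
  have hdiv : 2 * r ∣ A ∨ 2 * r ∣ B := by
    have := psl_orderOf_dvd p y
    rw [hy, hF, hgcd] at this
    rcases this with h | h | h
    · exfalso
      obtain ⟨k, hk⟩ : 2 ∣ p := (Dvd.intro r rfl).trans h
      omega
    · exact Or.inl h
    · exact Or.inr h
  have h3 : ¬ 3 ∣ p := fun h => by
    rcases hp.out.eq_one_or_self_of_dvd 3 h with h | h <;> omega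
  have hrd : r ∣ 2 * r := Dvd.intro_left 2 rfl
  have h3r : r = 3 ∨ ¬ 3 ∣ 2 * r := by
    by_cases h : 3 ∣ 2 * r
    · exact Or.inl ((Nat.prime_dvd_prime_iff_eq Nat.prime_three hr).1
        ((Nat.Coprime.dvd_of_dvd_mul_left (by norm_num) h))).symm
    · exact Or.inr h
  have hr3 : 3 ≤ r := by have := hr.two_le; omega
  rcases hdiv with h | h
  · have hAe : A = 2 * r := Nat.dvd_antisymm (tA r hr hr2 (hrd.trans h)) h
    have hBp := hprime B tB (by omega) (by omega)
    rcases h3r with rfl | h'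
    · exact Or.inl (by omega)
    · exfalso
      have hA3 : A % 3 ≠ 0 := fun e => h' (by omega)
      have hA4 : A % 3 ≠ 1 := fun e => h3 (by omega)
      have : 3 ∣ B := by omega
      rcases hBp.eq_one_or_self_of_dvd 3 this with e | e <;> omega
  · have hBe : B = 2 * r := Nat.dvd_antisymm (tB r hr hr2 (hrd.trans h)) h
    have hAp := hprime A tA (by omega) (by omega)
    rcases h3r with rfl | h'
    · exact Or.inr (by omega)
    · exfalso
      have hB3 : B % 3 ≠ 0 := fun e => h' (by omega)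
      have hB4 : B % 3 ≠ 2 := fun e => h3 (by omega)
      have : 3 ∣ A := by omega
      rcases hAp.eq_one_or_self_of_dvd 3 this with e | e <;> omega

/-- The quotient by the radical. -/
theorem iso_of_NM {X : Type*} [Group X] [Finite X] [Nontrivial X] (hNM : NM X) (hrad : RadFree X) :
    Nonempty (X ≃* PSL(2, ZMod 13)) := by
  haveI : Fact (Nat.Prime 2) := ⟨Nat.prime_two⟩
  obtain ⟨T, hT, -⟩ := exists_minNormal_le (inferInstance : (⊤ : Subgroup X).Normal) top_ne_bot
  have C : Soc T := ⟨hNM, hrad, hT⟩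
  haveI := C.min.normal
  obtain ⟨S⟩ : Nonempty (Sylow 2 X) := inferInstance
  obtain ⟨t, t', F'⟩ := C.exists_fourData S
  obtain ⟨K, iK, iF, hodd, ⟨he⟩⟩ := C.exists_psl F'
  obtain ⟨p, hchar⟩ := CharP.exists K
  haveI : Fact p.Prime := ⟨CharP.char_is_prime K p⟩
  have hcard := C.prime_field he hodd p
  have hσ : ∀ σ : K ≃+* K, σ = 1 := by
    intro σ
    ext a
    have hbij : Function.Bijective (ZMod.castHom (dvd_refl p) K) :=
      (Fintype.bijective_iff_injective_and_card _).2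
        ⟨ZMod.castHom_injective K, by rw [ZMod.card, hcard]⟩
    obtain ⟨c, rfl⟩ := hbij.2 a
    obtain ⟨n, rfl⟩ : ∃ n : ℕ, (n : ZMod p) = c := ⟨c.val, ZMod.natCast_zmod_val c⟩
    simp
  have htop := C.eq_top F' (C.index_le_two he hσ hodd)
  subst htop
  let eX : X ≃* PSL(2, K) := topEquiv.symm.trans he
  have hNM' : NM PSL(2, K) := hNM.of_equiv eX
  obtain ⟨r, x, hr, hr2, hx, hxt⟩ := C.exists_nz F'.mem.2 F'.inv
  have hxc : x * t = t * x := by
    have : x ∈ cen t := hxt ▸ mem_nz.2 (by group; exact mem_zpowers x)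
    exact mem_cen.1 this
  have hy : orderOf (eX (x * t)) = 2 * r := by
    rw [MulEquiv.orderOf_eq, (show Commute x t from hxc).orderOf_mul_eq_mul_orderOf_of_coprime
      (by rw [hx, F'.inv]; exact (Nat.coprime_primes hr Nat.prime_two).2 hr2), hx, F'.inv, mul_comm]
  have h5 : 5 ≤ p := by
    have hp2 := (Fact.out : p.Prime).two_le
    have hne2 : p ≠ 2 := fun e => by rw [hcard, e] at hodd; exact absurd hodd (by decide)
    by_contra hh
    have hp3 : p = 3 := by
      interval_cases p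
      · exact absurd rfl hne2
      · rfl
      · exact absurd (Fact.out : Nat.Prime 4) (by norm_num)
    subst hp3
    have h12 : Nat.card PSL(2, K) = 12 := by
      have := gcd_mul_card_PSL (F := K)
      rw [hcard] at this
      norm_num at this
      try simp only [Nat.card_eq_fintype_card] at this ⊢
      omega
    apply C.min.not_isSolvable C.rad
    exact isSolvable_of_card_dvd (a := 2) (b := 1) (by rw [Nat.card_congr he.toEquiv, h12]; norm_num)
  rcases card_eq_thirteen hNM' p hcard h5 hr hr2 hy with e | e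
  · subst e
    haveI : Fact (Nat.Prime 13) := ⟨by norm_num⟩
    exact ⟨eX.trans (PSL2.pslCongr (ZMod.ringEquiv K hcard).symm)⟩
  · exact absurd hNM' (not_NM_eleven (hcard.trans e))

end Cfsg.Agent.MaxNormalizer
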