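import Cfsg.Agent.Lib.MaxNormalizer.StageOneB
import Cfsg.Agent.S0949
import Mathlib.GroupTheory.SpecificGroups.KleinFour
import Mathlib.GroupTheory.SpecificGroups.Dihedral

/-!
# The Sylow 2-subgroup of the socle is a four group
-/

set_option autoImplicit false
set_option linter.style.haveILetI false
set_option linter.unusedSectionVars false

namespace Cfsg.Agent.MaxNormalizer

open Subgroup
open scoped Pointwise

variable {X : Type*} [Group X] [Finite X]

theorem pow_two_group_order {p : ℕ} [Fact p.Prime] {H : Subgroup X} (hH : IsPGroup p H) {a : X}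
    (ha : a ∈ H) : ∃ k, orderOf a = p ^ k := by
  obtain ⟨k, hk⟩ := IsPGroup.iff_orderOf.1 hH ⟨a, ha⟩
  exact ⟨k, by rwa [orderOf_mk] at hk⟩

/-- A nontrivial element of a 2-group has an involution among its powers. -/
theorem exists_invol_pow {H : Subgroup X} (hH : IsPGroup 2 H) {a : X} (ha : a ∈ H) (ha1 : a ≠ 1) :
    ∃ k : ℕ, (a ^ k) * (a ^ k) = 1 ∧ a ^ k ≠ 1 := by
  haveI : Fact (Nat.Prime 2) := ⟨Nat.prime_two⟩
  obtain ⟨k, hk⟩ := pow_two_group_order hH ha
  rcases k with _ | k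
  · exact absurd (orderOf_eq_one_iff.1 (by simpa using hk)) ha1
  refine ⟨2 ^ k, ?_, fun e => ?_⟩
  · rw [← pow_add, ← two_mul, ← pow_succ', ← hk, pow_orderOf_eq_one]
  · have := Nat.le_of_dvd (by positivity) (hk ▸ orderOf_dvd_of_pow_eq_one e)
    rw [pow_succ] at this
    have := Nat.one_le_two_pow (n := k)
    omega

variable {T : Subgroup X} (C : Soc T)
include C

theorem Soc.exists_central (S : Sylow 2 X) :
    ∃ z, z ∈ (S : Subgroup X) ∧ z ∈ T ∧ orderOf z = 2 ∧ (S : Subgroup X) ≤ cen z := by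
  haveI : Fact (Nat.Prime 2) := ⟨Nat.prime_two⟩
  haveI := C.min.normal
  haveI : (T.subgroupOf (S : Subgroup X)).Normal := inferInstance
  have hne : T.subgroupOf (S : Subgroup X) ≠ ⊥ := by
    intro e
    obtain ⟨⟨a, haT⟩, ha⟩ := exists_prime_orderOf_dvd_card' 2 (C.min.even C.rad)
    rw [orderOf_mk] at ha
    obtain ⟨g, hg⟩ := exists_conj_mem_sylow S (isPGroup_zpowers_prime ha)
    have hm : (⟨g * a * g⁻¹, hg a (mem_zpowers a)⟩ : (S : Subgroup X)) ∈ T.subgroupOf (S : Subgroup X) :=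
      mem_subgroupOf.2 (C.min.normal.conj_mem a haT g)
    rw [e, mem_bot] at hm
    exact ne_one_of_orderOf Nat.prime_two ha (conj_eq_one_iff.1 (congrArg Subtype.val hm))
  obtain ⟨z, hz1, hz2, hz3⟩ := PGroup.exists_orderOf_eq_mem_center S.2 _ hne
  refine ⟨z, z.2, mem_subgroupOf.1 hz1, by rw [orderOf_coe, hz3], fun s hs => mem_cen.2 ?_⟩
  exact congrArg Subtype.val (mem_center_iff.1 hz2 ⟨s, hs⟩)

/-- Involutions of a Sylow 2-subgroup are central in it. -/
theorem Soc.invol_central (S : Sylow 2 X) {u s : X} (hu : u ∈ (S : Subgroup X)) (hu2 : u * u = 1)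
    (hs : s ∈ (S : Subgroup X)) : s * u = u * s := by
  obtain ⟨z, hzS, hzT, hz, hSz⟩ := C.exists_central S
  obtain ⟨p, x, hp, hp2, hx, hxz⟩ :=
    C.exists_odd_nz hz (C.not_twoGroup_of_central hz hzS hzT hSz)
  exact C.commute_of_odd hp hp2 hx S.2 (hxz ▸ hSz) hu hu2 hs

theorem Soc.sylow_le_cen (S : Sylow 2 X) {u : X} (hu : u ∈ (S : Subgroup X)) (hu2 : u * u = 1) :
    (S : Subgroup X) ≤ cen u := fun _ hs => mem_cen.2 (C.invol_central S hu hu2 hs)

theorem Soc.exists_nz {t : X} (htT : t ∈ T) (ht : orderOf t = 2) :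
    ∃ p x, p.Prime ∧ p ≠ 2 ∧ orderOf x = p ∧ nz x = cen t := by
  haveI : Fact (Nat.Prime 2) := ⟨Nat.prime_two⟩
  refine C.exists_odd_nz ht fun h => ?_
  obtain ⟨S⟩ : Nonempty (Sylow 2 X) := inferInstance
  obtain ⟨g, hg⟩ := exists_conj_mem_sylow S (isPGroup_zpowers_prime ht)
  refine C.not_twoGroup_of_central (z := g * t * g⁻¹) (by rw [orderOf_conj, ht]) (hg t (mem_zpowers t))
    (C.min.normal.conj_mem t htT g) (C.sylow_le_cen S (hg t (mem_zpowers t)) ?_) (isPGroup_cen_conj h)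
  exact conj_mul_self (mul_self_of_orderOf ht)

/-- No involution of `S` is fixed by the normaliser of `S`. -/
theorem Soc.exists_moved (S : Sylow 2 X) {z : X} (hzS : z ∈ (S : Subgroup X)) (hz : orderOf z = 2) :
    ∃ n ∈ normalizer ((S : Subgroup X) : Set X), n * z * n⁻¹ ≠ z := by
  haveI : Fact (Nat.Prime 2) := ⟨Nat.prime_two⟩
  by_contra hno
  push Not at hno
  obtain ⟨g, hgS, hgz⟩ := C.exists_conj_ne hz hzS
  have hcen : ∀ u ∈ (S : Subgroup X), u * u = 1 → u ∈ centralizer ((S : Subgroup X) : Set X) :=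
    fun u hu hu2 => mem_centralizer_iff.2 fun s hs => C.invol_central S hu hu2 hs
  obtain ⟨n, hn, e⟩ := S.conj_eq_normalizer_conj_of_mem_centralizer z g⁻¹
    (hcen z hzS (mul_self_of_orderOf hz))
    (by rw [inv_inv]; exact hcen _ hgS (conj_mul_self (mul_self_of_orderOf hz)))
  apply hgz
  rw [inv_inv] at e
  have h' := hno n⁻¹ (inv_mem hn)
  rw [inv_inv] at h'
  rw [e, h']

/-- The four group data. -/
structure FourData (T : Subgroup X) (S : Sylow 2 X) (t t' : X) : Prop where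
  mem : t ∈ (S : Subgroup X) ∧ t ∈ T
  mem' : t' ∈ (S : Subgroup X) ∧ t' ∈ T
  inv : orderOf t = 2
  inv' : orderOf t' = 2
  ne : cen t ≠ cen t'
  ne_prod : cen (t * t') ≠ cen t
  ne_prod' : cen (t * t') ≠ cen t'
  comm : t' * t = t * t'
  all : ∀ e ∈ (S : Subgroup X) ⊓ T, e * e = 1 → e = 1 ∨ e = t ∨ e = t' ∨ e = t * t'

theorem Soc.exists_fourData (S : Sylow 2 X) : ∃ t t', FourData T S t t' := by
  haveI : Fact (Nat.Prime 2) := ⟨Nat.prime_two⟩
  haveI := C.min.normal
  obtain ⟨z, hzS, hzT, hz, -⟩ := C.exists_central S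
  let E : Subgroup X :=
    { carrier := {e | (e ∈ (S : Subgroup X) ∧ e ∈ T) ∧ e * e = 1}
      one_mem' := ⟨⟨one_mem _, one_mem _⟩, one_mul 1⟩
      mul_mem' := fun {a b} ha hb => ⟨⟨mul_mem ha.1.1 hb.1.1, mul_mem ha.1.2 hb.1.2⟩, by
        calc a * b * (a * b) = a * (b * a) * b := by group
          _ = (a * a) * (b * b) := by rw [C.invol_central S ha.1.1 ha.2 hb.1.1]; group
          _ = 1 := by rw [ha.2, hb.2, one_mul]⟩
      inv_mem' := fun {a} ha => ⟨⟨inv_mem ha.1.1, inv_mem ha.1.2⟩, by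
        rw [← mul_inv_rev, ha.2, inv_one]⟩ }
  have hE : IsPGroup 2 E := fun a => ⟨1, Subtype.ext (by rw [pow_one, pow_two]; exact a.2.2)⟩
  have hzE : z ∈ E := ⟨⟨hzS, hzT⟩, mul_self_of_orderOf hz⟩
  have hEne : E ≠ ⊥ := fun e => ne_one_of_orderOf Nat.prime_two hz (mem_bot.1 (e ▸ hzE))
  have hNSE : normalizer ((S : Subgroup X) : Set X) ≤ normalizer (E : Set X) := fun n hn =>
    mem_normalizer_of_conj fun a ha => ⟨⟨conj_mem_of_mem_normalizer hn ha.1.1,
      C.min.normal.conj_mem a ha.1.2 n⟩, conj_mul_self ha.2⟩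
  obtain ⟨t', htE', ht1', hne⟩ : ∃ t' ∈ E, t' ≠ 1 ∧ cen z ≠ cen t' := by
    by_contra hno
    push Not at hno
    have hle : cen z ≤ normalizer (E : Set X) := fun c hc => mem_normalizer_of_conj fun a ha => by
      rcases eq_or_ne a 1 with rfl | ha1
      · simp
      · rwa [mem_cen_iff_conj.1 (hno a ha ha1 ▸ hc)]
    have heq : normalizer (E : Set X) = cen z := ((C.coatom_cen hz).le_iff.1 hle).resolve_left
      (C.normalizer_ne_top hEne (two_of_pGroup Nat.prime_two hE))
    obtain ⟨n, hn, hnz⟩ := C.exists_moved S hzS hz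
    exact hnz (mem_cen_iff_conj.1 (heq ▸ hNSE hn))
  have ht' := orderOf_two_of_mul_self htE'.2 ht1'
  obtain ⟨p, x, hp, hp2, hx, hxz⟩ := C.exists_nz hzT hz
  obtain ⟨p', x', hp', hp2', hx', hxt'⟩ := C.exists_nz htE'.1.2 ht'
  have hEx : ∀ e ∈ E, e ∈ nz x ∧ e ∈ nz x' := fun e he =>
    ⟨hxz ▸ C.sylow_le_cen S hzS (mul_self_of_orderOf hz) he.1.1,
      hxt' ▸ C.sylow_le_cen S htE'.1.1 htE'.2 he.1.1⟩
  have hcx : ∀ e, e * e = 1 → e ≠ 1 → e ∈ cen x → cen e = cen z := fun e he he1 hec => by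
    rw [← hxz, ← C.nm.nz_eq_cen hp hp2 (orderOf_two_of_mul_self he he1)
      (isPGroup_zpowers_prime hx) (ne_one_of_orderOf hp hx) (mem_cen.1 hec).symm]
  have hcx' : ∀ e, e * e = 1 → e ≠ 1 → e ∈ cen x' → cen e = cen t' := fun e he he1 hec => by
    rw [← hxt', ← C.nm.nz_eq_cen hp' hp2' (orderOf_two_of_mul_self he he1)
      (isPGroup_zpowers_prime hx') (ne_one_of_orderOf hp' hx') (mem_cen.1 hec).symm]
  have hzx : z ∈ cen x := mem_cen_comm (hxz ▸ mem_nz.2 (by group; exact mem_zpowers x))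
  have htx : t' ∉ cen x := fun h => hne (hcx t' htE'.2 ht1' h).symm
  have hK : ∀ e ∈ E, e ∈ cen x → e = 1 ∨ e = z := by
    intro e he hec
    by_contra hno
    push Not at hno
    have h1 : e ∉ cen x' := fun h => hne ((hcx e he.2 hno.1 hec).symm.trans (hcx' e he.2 hno.1 h))
    have h2 : z ∉ cen x' := fun h => hne (hcx' z hzE.2 (ne_one_of_orderOf Nat.prime_two hz) h)
    have h3 := mul_mem_cen_of_inverting hp' hx' (hEx e he).2 he.2 (hEx z hzE).2 hzE.2 h1 h2
    have h4 : e * z ≠ 1 := fun h => hno.2 (by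
      rw [eq_inv_of_mul_eq_one_left h, inv_eq_of_mul_eq_one_right (mul_self_of_orderOf hz)])
    exact hne ((hcx _ (mul_mem he hzE).2 h4 (mul_mem hec hzx)).symm.trans
      (hcx' _ (mul_mem he hzE).2 h4 h3))
  have hzt1 : z * t' ≠ 1 := fun h => hne (by
    rw [eq_inv_of_mul_eq_one_right h, inv_eq_of_mul_eq_one_right (mul_self_of_orderOf hz)])
  refine ⟨z, t', ⟨hzS, hzT⟩, htE'.1, hz, ht', hne, fun h => ?_, fun h => ?_,
    C.invol_central S hzS (mul_self_of_orderOf hz) htE'.1.1, ?_⟩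
  · have hx_mem : x ∈ cen (z * t') := by rw [h, ← hxz]; exact mem_nz.2 (by group; exact mem_zpowers x)
    exact htx (by simpa using mul_mem (inv_mem hzx) (mem_cen_comm hx_mem))
  · have htx' : t' ∈ cen x' := mem_cen_comm (hxt' ▸ mem_nz.2 (by group; exact mem_zpowers x'))
    have hx_mem : x' ∈ cen (z * t') := by rw [h, ← hxt']; exact mem_nz.2 (by group; exact mem_zpowers x')
    have hz' : z ∈ cen x' := by simpa using mul_mem (mem_cen_comm hx_mem) (inv_mem htx')
    exact hne (hcx' z hzE.2 (ne_one_of_orderOf Nat.prime_two hz) hz')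
  · intro e he he2
    have heE : e ∈ E := ⟨he, he2⟩
    by_cases hec : e ∈ cen x
    · rcases hK e heE hec with h | h
      · exact Or.inl h
      · exact Or.inr (Or.inl h)
    · have h1 := mul_mem_cen_of_inverting hp hx (hEx e heE).1 he2 (hEx t' htE').1 htE'.2 hec htx
      rcases hK _ (mul_mem heE htE') h1 with h | h
      · exact Or.inr (Or.inr (Or.inl (by
          rw [eq_inv_of_mul_eq_one_left h, inv_eq_of_mul_eq_one_right htE'.2])))
      · refine Or.inr (Or.inr (Or.inr ?_))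
        rw [← h, mul_assoc, htE'.2, mul_one]

variable {S : Sylow 2 X} {t t' : X}

theorem Soc.fourData_commute (F : FourData T S t t') {a b : X} (ha : a ∈ (S : Subgroup X) ⊓ T)
    (hb : b ∈ (S : Subgroup X) ⊓ T) : a * b = b * a := by
  by_contra hab
  have hc1 : a * b * a⁻¹ * b⁻¹ ≠ 1 := fun e => hab (by
    rwa [mul_inv_eq_one, mul_inv_eq_iff_eq_mul] at e)
  set c := a * b * a⁻¹ * b⁻¹ with hc
  have hcS : c ∈ (S : Subgroup X) ⊓ T :=
    mul_mem (mul_mem (mul_mem ha hb) (inv_mem ha)) (inv_mem hb)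
  have key : ∀ e ∈ (S : Subgroup X) ⊓ T, orderOf e = 2 → ∀ (p : ℕ) (x : X), nz x = cen e →
      orderOf x = p → c ∈ cen x := by
    intro e he heo p x hxe _
    have hS : (S : Subgroup X) ≤ nz x := hxe ▸ C.sylow_le_cen S he.1 (mul_self_of_orderOf heo)
    obtain ⟨i, hi⟩ := mem_zpowers_iff.1 (mem_nz.1 (hS ha.1))
    obtain ⟨j, hj⟩ := mem_zpowers_iff.1 (mem_nz.1 (hS hb.1))
    have hba : (b * a) * x * (b * a)⁻¹ = (a * b) * x * (a * b)⁻¹ := by
      calc (b * a) * x * (b * a)⁻¹ = b * (a * x * a⁻¹) * b⁻¹ := by group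
        _ = x ^ (j * i) := by rw [← hi, ← conj_zpow, ← hj, ← zpow_mul]
        _ = x ^ (i * j) := by rw [mul_comm]
        _ = a * (b * x * b⁻¹) * a⁻¹ := by rw [← hj, ← conj_zpow, ← hi, ← zpow_mul]
        _ = (a * b) * x * (a * b)⁻¹ := by group
    refine mem_cen_iff_conj.2 ?_
    calc c * x * c⁻¹ = (a * b) * ((b * a)⁻¹ * x * (b * a)) * (a * b)⁻¹ := by rw [hc]; group
      _ = (b * a) * ((b * a)⁻¹ * x * (b * a)) * (b * a)⁻¹ := by
        have h' : ∀ y, y ∈ zpowers x → (b * a) * y * (b * a)⁻¹ = (a * b) * y * (a * b)⁻¹ := by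
          intro y hy
          obtain ⟨k, rfl⟩ := mem_zpowers_iff.1 hy
          rw [← conj_zpow, hba, conj_zpow]
        refine (h' _ ?_).symm
        have hn : (b * a)⁻¹ ∈ nz x := inv_mem (mul_mem (hS hb.1) (hS ha.1))
        have := mem_nz.1 hn
        rwa [inv_inv] at this
      _ = x := by group
  obtain ⟨k, hk2, hk1⟩ := exists_invol_pow S.2 hcS.1 hc1
  obtain ⟨p, x, hp, hp2, hx, hxt⟩ := C.exists_nz F.mem.2 F.inv
  obtain ⟨p', x', hp', hp2', hx', hxt'⟩ := C.exists_nz F.mem'.2 F.inv'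
  have h1 := C.nm.nz_eq_cen hp hp2 (orderOf_two_of_mul_self hk2 hk1) (isPGroup_zpowers_prime hx)
    (ne_one_of_orderOf hp hx) (mem_cen.1 (pow_mem (key t F.mem F.inv p x hxt hx) k)).symm
  have h2 := C.nm.nz_eq_cen hp' hp2' (orderOf_two_of_mul_self hk2 hk1) (isPGroup_zpowers_prime hx')
    (ne_one_of_orderOf hp' hx') (mem_cen.1 (pow_mem (key t' F.mem' F.inv' p' x' hxt' hx') k)).symm
  exact F.ne (hxt ▸ hxt' ▸ h1.trans h2.symm)

/-- The Sylow 2-subgroup of the socle has exponent two. -/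
theorem Soc.fourData_sq (F : FourData T S t t') :
    ∀ a ∈ (S : Subgroup X) ⊓ T, a * a = 1 := by
  haveI : Fact (Nat.Prime 2) := ⟨Nat.prime_two⟩
  haveI := C.min.normal
  set S0 := (S : Subgroup X) ⊓ T with hS0
  have hS0p : IsPGroup 2 S0 := S.2.to_le inf_le_left
  by_contra hno
  push Not at hno
  obtain ⟨a0, ha0, ha0'⟩ := hno
  obtain ⟨⟨a, ha⟩, -, hmax⟩ := Set.Finite.exists_maximalFor (fun s : S0 => orderOf (s : X))
    Set.univ Set.finite_univ Set.univ_nonempty
  obtain ⟨m, hm⟩ := pow_two_group_order hS0p ha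
  have hexp : ∀ s ∈ S0, s ^ 2 ^ m = 1 := by
    intro s hs
    obtain ⟨k, hk⟩ := pow_two_group_order hS0p hs
    rw [← orderOf_dvd_iff_pow_eq_one, hk]
    rcases le_total k m with h | h
    · exact pow_dvd_pow 2 h
    · have h2 : orderOf s ≤ orderOf a := hmax (j := (⟨s, hs⟩ : S0)) (Set.mem_univ _) (by
        show orderOf a ≤ orderOf s
        rw [hm, hk]; exact Nat.pow_le_pow_right (by norm_num) h)
      rw [hk, hm] at h2
      exact pow_dvd_pow 2 ((Nat.pow_le_pow_iff_right (by norm_num)).1 h2)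
  have hm2 : 2 ≤ m := by
    by_contra hh
    apply ha0'
    have := hexp a0 ha0
    interval_cases m
    · simp at this; simp [this]
    · rw [← pow_two]; simpa using this
  set t1 := a ^ 2 ^ (m - 1) with ht1
  have ht1S : t1 ∈ S0 := pow_mem ha _
  have ht1o : orderOf t1 = 2 := by
    rw [ht1, orderOf_pow' _ (by positivity), hm, Nat.gcd_eq_right (pow_dvd_pow 2 (by omega)),
      Nat.pow_div (by omega) two_pos, show m - (m - 1) = 1 by omega, pow_one]
  obtain ⟨n, hn, hnt⟩ := C.exists_moved S ht1S.1 ht1o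
  set b := n * a * n⁻¹ with hb
  have hbS : b ∈ S0 := ⟨conj_mem_of_mem_normalizer hn ha.1, C.min.normal.conj_mem a ha.2 n⟩
  have hbo : orderOf b = 2 ^ m := by rw [hb, orderOf_conj, hm]
  set t2 := b ^ 2 ^ (m - 1) with ht2
  have ht2S : t2 ∈ S0 := pow_mem hbS _
  have ht2eq : t2 = n * t1 * n⁻¹ := by rw [ht2, hb, conj_pow]
  have ht2o : orderOf t2 = 2 := by rw [ht2eq, orderOf_conj, ht1o]
  have ht12 : t1 ≠ t2 := fun e => hnt (by rw [← ht2eq, ← e])
  have hcomm : Commute a b := C.fourData_commute F ha hbS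
  have hcomm' : ∀ i j : ℕ, Commute (a ^ i) (b ^ j) := fun i j => hcomm.pow_pow i j
  set N := 2 ^ m with hN
  haveI : NeZero N := ⟨by positivity⟩
  have hA : ∀ n, a ^ (n % N) = a ^ n := fun n => by
    have := pow_mod_orderOf a n
    rwa [hm] at this
  have hB : ∀ n, b ^ (n % N) = b ^ n := fun n => by
    have := pow_mod_orderOf b n
    rwa [hbo] at this
  let f : Multiplicative (ZMod N × ZMod N) →* S0 :=
    MonoidHom.mk' (fun w => ⟨a ^ w.toAdd.1.val * b ^ w.toAdd.2.val,
      mul_mem (pow_mem ha _) (pow_mem hbS _)⟩) fun v w => Subtype.ext (by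
        show a ^ (v.toAdd.1 + w.toAdd.1).val * b ^ (v.toAdd.2 + w.toAdd.2).val =
          (a ^ v.toAdd.1.val * b ^ v.toAdd.2.val) * (a ^ w.toAdd.1.val * b ^ w.toAdd.2.val)
        rw [ZMod.val_add, ZMod.val_add, hA, hB,
          pow_add, pow_add, mul_assoc, mul_assoc, ← mul_assoc (b ^ _) (a ^ _),
          ← (hcomm' w.toAdd.1.val v.toAdd.2.val).eq, mul_assoc])
  have hinv : ∀ c ∈ S0, c * c = 1 → c ≠ 1 → c = t1 ∨ c = t2 ∨ c = t1 * t2 := by
    intro c hc hc2 hc1
    have hn1 := ne_one_of_orderOf Nat.prime_two ht1o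
    have hn2 := ne_one_of_orderOf Nat.prime_two ht2o
    set E0 := four t t' (mul_self_of_orderOf F.inv) (mul_self_of_orderOf F.inv') F.comm with hE0
    set E1 := four t1 t2 (mul_self_of_orderOf ht1o) (mul_self_of_orderOf ht2o)
      (C.fourData_commute F ht2S ht1S) with hE1
    have h1 : t1 ∈ E0 := mem_four.2 (F.all t1 ht1S (mul_self_of_orderOf ht1o))
    have h2 : t2 ∈ E0 := mem_four.2 (F.all t2 ht2S (mul_self_of_orderOf ht2o))
    have hle : E1 ≤ E0 := fun e he => by
      rcases mem_four.1 he with rfl | rfl | rfl | rfl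
      exacts [one_mem _, h1, h2, mul_mem h1 h2]
    have heq : E1 = E0 := eq_of_le_of_card_ge hle (by
      rw [hE1, card_four hn1 hn2 ht12, hE0, card_four (ne_one_of_orderOf Nat.prime_two F.inv)
        (ne_one_of_orderOf Nat.prime_two F.inv') fun e => F.ne (e ▸ rfl)])
    exact (mem_four.1 (heq.ge (mem_four.2 (F.all c hc hc2)) : c ∈ E1)).resolve_left hc1
  have hsurj : Function.Surjective f := by
    have hgen : ∀ k, ∀ s ∈ S0, s ^ 2 ^ k = 1 → k ≤ m → ∃ i j : ℕ, s = a ^ i * b ^ j := by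
      intro k
      induction k with
      | zero => intro s _ hs _; exact ⟨0, 0, by simpa using hs⟩
      | succ k ih =>
        intro s hs hsk hkm
        obtain ⟨i, j, hij⟩ := ih (s * s) (mul_mem hs hs)
          (by rw [← pow_two, ← pow_mul, ← pow_succ']; exact hsk) (by omega)
        have hzero : a ^ (i * 2 ^ k) * b ^ (j * 2 ^ k) = 1 := by
          rw [pow_mul, pow_mul, ← (hcomm' i j).mul_pow, ← hij, ← pow_two, ← pow_mul, ← pow_succ']
          exact hsk
        have hsep : a ^ (i * 2 ^ k) = 1 := by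
          by_contra hne1
          have hq : a ^ (i * 2 ^ k) = (b ^ (j * 2 ^ k))⁻¹ := eq_inv_of_mul_eq_one_left hzero
          obtain ⟨l, hl2, hl1⟩ := exists_invol_pow hS0p (pow_mem ha _) hne1
          have hu : ∀ c : X, orderOf c = 2 ^ m → ∀ q : ℕ, c ^ q * c ^ q = 1 → c ^ q ≠ 1 →
              c ^ q = c ^ 2 ^ (m - 1) := by
            intro c hc q hq2 hq1
            rw [← pow_add, ← orderOf_dvd_iff_pow_eq_one, hc] at hq2
            obtain ⟨r, hr⟩ := hq2
            have hpow : (2 : ℕ) ^ m = 2 ^ (m - 1) * 2 := by rw [← pow_succ]; congr 1; omega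
            have hq' : q = 2 ^ (m - 1) * r := by
              rw [hpow, mul_comm (2 ^ (m - 1)) 2, mul_assoc] at hr
              omega
            obtain ⟨r', rfl | rfl⟩ : ∃ r', r = 2 * r' ∨ r = 2 * r' + 1 := ⟨r / 2, by omega⟩
            · exfalso
              apply hq1
              rw [hq', ← mul_assoc, ← hpow, ← hc, pow_mul, pow_orderOf_eq_one, one_pow]
            · rw [hq', mul_add, mul_one, pow_add, ← mul_assoc, ← hpow, ← hc, pow_mul,
                pow_orderOf_eq_one, one_pow, one_mul]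
          apply ht12
          have e1 := hu a hm (i * 2 ^ k * l) (by rw [pow_mul]; exact hl2) (by rw [pow_mul]; exact hl1)
          have e2 := hu b hbo (j * 2 ^ k * l)
            (by
              rw [pow_mul]
              have := hl2
              rw [hq, inv_pow, ← mul_inv_rev, inv_eq_one] at this
              exact this)
            (by
              rw [pow_mul]
              have := hl1
              rw [hq, inv_pow, ne_eq, inv_eq_one] at this
              exact this)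
          show a ^ 2 ^ (m - 1) = b ^ 2 ^ (m - 1)
          rw [← e1, ← e2, pow_mul a (i * 2 ^ k) l, pow_mul b (j * 2 ^ k) l, hq, inv_pow]
          apply inv_eq_of_mul_eq_one_right
          have := hl2
          rw [hq, inv_pow, ← mul_inv_rev, inv_eq_one] at this
          exact this
        have hsepb : b ^ (j * 2 ^ k) = 1 := by rwa [hsep, one_mul] at hzero
        have heven : ∀ c : X, orderOf c = 2 ^ m → ∀ q, c ^ (q * 2 ^ k) = 1 → 2 ∣ q := by
          intro c hc q hq
          rw [← orderOf_dvd_iff_pow_eq_one, hc] at hq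
          have h' : 2 ^ (k + 1) ∣ q * 2 ^ k := (pow_dvd_pow 2 (by omega)).trans hq
          rw [pow_succ'] at h'
          exact Nat.dvd_of_mul_dvd_mul_right (by positivity) h'
        obtain ⟨i', rfl⟩ := heven a hm i hsep
        obtain ⟨j', rfl⟩ := heven b hbo j hsepb
        set d := a ^ i' * b ^ j' with hd
        have hdS : d ∈ S0 := mul_mem (pow_mem ha _) (pow_mem hbS _)
        have hsd : Commute s d := C.fourData_commute F hs hdS
        have hsq : (s * d⁻¹) * (s * d⁻¹) = 1 := by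
          calc (s * d⁻¹) * (s * d⁻¹) = s * (d⁻¹ * s) * d⁻¹ := by group
            _ = (s * s) * (d * d)⁻¹ := by rw [← hsd.inv_right.eq]; group
            _ = 1 := by
              rw [mul_inv_eq_one, hij, hd, ← pow_two, (hcomm' i' j').mul_pow, ← pow_mul, ← pow_mul,
                mul_comm i', mul_comm j']
        have hs_eq : s = (s * d⁻¹) * d := by rw [inv_mul_cancel_right]
        by_cases h1 : s * d⁻¹ = 1
        · exact ⟨i', j', by rw [hs_eq, h1, one_mul]⟩
        rcases hinv _ (mul_mem hs (inv_mem hdS)) hsq h1 with e | e | e <;> rw [hs_eq, e]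
        · exact ⟨2 ^ (m - 1) + i', j', by rw [ht1, hd, pow_add, mul_assoc]⟩
        · exact ⟨i', 2 ^ (m - 1) + j', by
            rw [ht2, hd, pow_add, ← mul_assoc, ← (hcomm' i' _).eq, mul_assoc]⟩
        · exact ⟨2 ^ (m - 1) + i', 2 ^ (m - 1) + j', by
            rw [ht1, ht2, hd, pow_add, pow_add, mul_assoc, mul_assoc, ← mul_assoc (b ^ _) (a ^ _),
              ← (hcomm' i' _).eq, mul_assoc]⟩
    rintro ⟨s, hs⟩
    obtain ⟨i, j, hij⟩ := hgen m s hs (hexp s hs) le_rfl
    refine ⟨Multiplicative.ofAdd ((i : ZMod N), (j : ZMod N)), Subtype.ext ?_⟩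
    show a ^ (i : ZMod N).val * b ^ (j : ZMod N).val = s
    rw [ZMod.val_natCast, ZMod.val_natCast, hA, hB, hij]
  have hinj : Function.Injective f := by
    rw [injective_iff_map_eq_one]
    intro w hw
    by_contra hne
    have hab : a ^ w.toAdd.1.val * b ^ w.toAdd.2.val = 1 := congrArg Subtype.val hw
    obtain ⟨k, hk2, hk1⟩ : ∃ k : ℕ, (w ^ k) * (w ^ k) = 1 ∧ w ^ k ≠ 1 := by
      have hWp : IsPGroup 2 (⊤ : Subgroup (Multiplicative (ZMod N × ZMod N))) :=
        IsPGroup.of_card (n := m + m) (by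
          rw [card_top, Nat.card_congr Multiplicative.toAdd, Nat.card_prod, Nat.card_zmod, hN, pow_add])
      exact exists_invol_pow hWp (mem_top w) hne
    have hfk : f (w ^ k) = 1 := by rw [map_pow, hw, one_pow]
    have hab' : a ^ (w ^ k).toAdd.1.val * b ^ (w ^ k).toAdd.2.val = 1 := congrArg Subtype.val hfk
    have hcoord : ∀ c : ZMod N, c + c = 0 → c = 0 ∨ c.val = 2 ^ (m - 1) := by
      intro c hc
      by_cases hc0 : c = 0
      · exact Or.inl hc0
      refine Or.inr ?_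
      have hpow : (2 : ℕ) ^ m = 2 * 2 ^ (m - 1) := by rw [← pow_succ']; congr 1; omega
      have h0 : (c.val + c.val) % N = 0 := by rw [← ZMod.val_add, hc, ZMod.val_zero]
      have hv0 : c.val ≠ 0 := fun e => hc0 ((ZMod.val_eq_zero c).1 e)
      obtain ⟨q, hq⟩ := Nat.dvd_of_mod_eq_zero h0
      have hlt : c.val < 2 * 2 ^ (m - 1) := (ZMod.val_lt c).trans_eq hpow
      replace hq : c.val + c.val = 2 * 2 ^ (m - 1) * q := hq.trans (by rw [← hpow])
      rcases q with _ | _ | q
      · rw [Nat.mul_zero] at hq; omega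
      · rw [Nat.zero_add, Nat.mul_one] at hq; omega
      · nlinarith
    have hsum : (w ^ k).toAdd + (w ^ k).toAdd = 0 := by rw [← toAdd_mul, hk2, toAdd_one]
    have hn1 := ne_one_of_orderOf Nat.prime_two ht1o
    have hn2 := ne_one_of_orderOf Nat.prime_two ht2o
    rcases hcoord _ (congrArg Prod.fst hsum) with e1 | e1 <;>
      rcases hcoord _ (congrArg Prod.snd hsum) with e2 | e2
    · exact hk1 (toAdd_eq_zero.1 (Prod.ext e1 e2))
    · rw [e1, ZMod.val_zero, pow_zero, one_mul, e2] at hab'; exact hn2 hab'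
    · rw [e2, ZMod.val_zero, pow_zero, mul_one, e1] at hab'; exact hn1 hab'
    · rw [e1, e2] at hab'
      exact ht12 ((eq_inv_of_mul_eq_one_left hab').trans
        (inv_eq_of_mul_eq_one_right (mul_self_of_orderOf ht2o)))
  let e0 : S0 ≃* Multiplicative (ZMod N × ZMod N) := (MulEquiv.ofBijective f ⟨hinj, hsurj⟩).symm
  obtain ⟨Q, hQ⟩ := exists_sylow_subgroupOf S C.min.normal
  haveI hsimp := C.min.isSimpleGroup C.nm C.rad
  have hQe : (Q : Subgroup T) = S0.subgroupOf T := by rw [hQ, hS0, inf_subgroupOf_right]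
  let eQ : (Q : Subgroup T) ≃* Multiplicative (ZMod N × ZMod N) :=
    (MulEquiv.subgroupCongr hQe).trans ((subgroupOfEquivOfLe (inf_le_right : S0 ≤ T)).trans e0)
  have hres := Cfsg.Agent.S0949.result Q m hm2 eQ fun M hM ho => by
    rcases hM.eq_bot_or_eq_top with h | h
    · exact h
    · exfalso
      rw [h, card_top, Nat.odd_iff] at ho
      have := C.min.even C.rad
      omega
  rcases hres.1.eq_bot_or_eq_top with h | h
  · have ht1' : (⟨t1, ht1S.2⟩ : T) ∈ (Q : Subgroup T) := hQe ▸ mem_subgroupOf.2 ht1S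
    rw [h, mem_bot] at ht1'
    exact ne_one_of_orderOf Nat.prime_two ht1o (congrArg Subtype.val ht1')
  · refine C.min.not_isSolvable C.rad ?_
    haveI : Group.IsSolvable (Q : Subgroup T) :=
      (two_of_pGroup Nat.prime_two Q.2).isSolvable
    exact Group.isSolvable_of_surjective (f := (Q : Subgroup T).subtype)
      fun y => ⟨⟨y, h ▸ mem_top y⟩, rfl⟩

end Cfsg.Agent.MaxNormalizer
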