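import Cfsg.Agent.Lib.MaxNormalizer.StageTwo
import Cfsg.Agent.Lib.Transfer.Burnside
import Cfsg.Agent.S0508

/-!
# The socle is a two-dimensional linear group
-/

set_option autoImplicit false
set_option linter.style.haveILetI false
set_option linter.unusedSectionVars false

namespace Cfsg.Agent.MaxNormalizer

open Subgroup
open scoped Pointwise

variable {X : Type*} [Group X] [Finite X] {T : Subgroup X} (C : Soc T) {S : Sylow 2 X} {t t' : X}
include C

theorem Soc.fourData_card (F : FourData T S t t') :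
    Nat.card ((S : Subgroup X) ⊓ T : Subgroup X) = 4 := by
  set S0 := (S : Subgroup X) ⊓ T with hS0
  have ht1 := ne_one_of_orderOf Nat.prime_two F.inv
  have ht1' := ne_one_of_orderOf Nat.prime_two F.inv'
  have htt : t ≠ t' := fun e => F.ne (e ▸ rfl)
  have hprod : t * t' ≠ 1 := fun e => htt (by
    rw [eq_inv_of_mul_eq_one_left e, inv_eq_of_mul_eq_one_right (mul_self_of_orderOf F.inv')])
  have heq : (S0 : Set X) = {1, t, t', t * t'} := by
    ext e
    refine ⟨fun he => F.all e he (C.fourData_sq F e he), ?_⟩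
    rintro (rfl | rfl | rfl | rfl)
    exacts [one_mem _, F.mem, F.mem', mul_mem F.mem F.mem']
  rw [← SetLike.coe_sort_coe, Nat.card_coe_set_eq, heq,
    Set.ncard_insert_of_notMem (by simp [Ne.symm ht1, Ne.symm ht1', Ne.symm hprod]),
    Set.ncard_insert_of_notMem (by simp [htt, ht1']), Set.ncard_pair (by simp [ht1])]

/-- The centraliser in the socle is not moved off the centraliser of the four group. -/
theorem Soc.fourData_normalizer_fix (F : FourData T S t t') {n : X} (hnT : n ∈ T) (hnt : n ∈ cen t)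
    (hn : n ∈ normalizer (((S : Subgroup X) ⊓ T : Subgroup X) : Set X)) : n ∈ cen t' := by
  haveI : Fact (Nat.Prime 2) := ⟨Nat.prime_two⟩
  set S0 := (S : Subgroup X) ⊓ T with hS0
  by_contra hne
  have hfix : n * t * n⁻¹ = t := mem_cen_iff_conj.1 hnt
  have hn' : n * t' * n⁻¹ = t * t' := by
    rcases F.all _ (conj_mem_of_mem_normalizer hn F.mem') (conj_mul_self (mul_self_of_orderOf F.inv'))
      with e | e | e | e
    · exact absurd (conj_eq_one_iff.1 e) (ne_one_of_orderOf Nat.prime_two F.inv')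
    · exact absurd (mul_left_cancel (mul_right_cancel (e.trans hfix.symm))) fun h => F.ne (h ▸ rfl)
    · exact absurd (mem_cen_iff_conj.2 e) hne
    · exact e
  obtain ⟨a, m, hm, ho⟩ : ∃ a m : ℕ, ¬ 2 ∣ m ∧ orderOf n = 2 ^ a * m :=
    Nat.exists_eq_pow_mul_and_not_dvd (orderOf_pos n).ne' 2 (by norm_num)
  have hsq : n ^ 2 ∈ cen t' := by
    refine mem_cen_iff_conj.2 ?_
    calc n ^ 2 * t' * (n ^ 2)⁻¹ = n * (n * t' * n⁻¹) * n⁻¹ := by rw [pow_two]; group
      _ = n * (t * t') * n⁻¹ := by rw [hn']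
      _ = (n * t * n⁻¹) * (n * t' * n⁻¹) := by group
      _ = t' := by rw [hfix, hn', ← mul_assoc, mul_self_of_orderOf F.inv, one_mul]
  have hnm : n ^ m ∉ cen t' := by
    intro h
    apply hne
    obtain ⟨r, rfl⟩ : ∃ r, m = 2 * r + 1 := ⟨m / 2, by omega⟩
    rw [pow_succ, pow_mul] at h
    simpa using mul_mem (inv_mem (pow_mem hsq r)) h
  have hpow : IsPGroup 2 (zpowers (n ^ m)) := isPGroup_zpowers (n := a) (by
    apply orderOf_dvd_of_pow_eq_one
    rw [← pow_mul, mul_comm, ← ho, pow_orderOf_eq_one])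
  have hle : zpowers (n ^ m) ≤ normalizer (S0 : Set X) := zpowers_le.2 (pow_mem hn m)
  have h2 : IsPGroup 2 (S0 ⊔ zpowers (n ^ m) : Subgroup X) :=
    (S.2.to_le inf_le_left).to_sup_of_normal_left' hpow hle
  obtain ⟨g, hg⟩ := exists_conj_mem_sylow S h2
  have hcard : Nat.card (S0 ⊔ zpowers (n ^ m) : Subgroup X) ≤ Nat.card S0 := by
    refine Nat.card_le_card_of_injective (fun c => (⟨g * (c : X) * g⁻¹, hg _ c.2,
      C.min.normal.conj_mem _ ?_ g⟩ : S0)) fun c d h => ?_
    · exact (sup_le inf_le_right (zpowers_le.2 (pow_mem hnT m)) : S0 ⊔ zpowers (n ^ m) ≤ T) c.2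
    · exact Subtype.ext (mul_left_cancel (mul_right_cancel (congrArg Subtype.val h)))
  have hmem : n ^ m ∈ S0 := by
    rw [eq_of_le_of_card_ge le_sup_left hcard]
    exact (le_sup_right : zpowers (n ^ m) ≤ _) (mem_zpowers _)
  exact hnm (mem_cen.2 (C.fourData_commute F hmem F.mem'))

/-- The facts used by the recognition theorem. -/
theorem Soc.exists_psl (F : FourData T S t t') :
    ∃ (K : Type) (_ : Field K) (_ : Fintype K), Odd (Fintype.card K) ∧
      Nonempty (T ≃* Matrix.ProjectiveSpecialLinearGroup (Fin 2) K) := by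
  haveI : Fact (Nat.Prime 2) := ⟨Nat.prime_two⟩
  haveI := C.min.normal
  haveI := C.min.isSimpleGroup C.nm C.rad
  set S0 := (S : Subgroup X) ⊓ T with hS0
  have hS0c := C.fourData_card F
  have hsq := C.fourData_sq F
  obtain ⟨Q, hQ⟩ := exists_sylow_subgroupOf S C.min.normal
  have hQe : (Q : Subgroup T) = S0.subgroupOf T := by rw [hQ, hS0, inf_subgroupOf_right]
  have hQcard : Nat.card (Q : Subgroup T) = 4 := by
    rw [hQe, Nat.card_congr (subgroupOfEquivOfLe (inf_le_right : S0 ≤ T)).toEquiv, hS0c]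
  have hmemQ : ∀ s : T, s ∈ (Q : Subgroup T) ↔ (s : X) ∈ S0 := fun s => by
    rw [hQe, mem_subgroupOf]
  haveI hK4 : IsKleinFour (Q : Subgroup T) := IsKleinFour.mk hQcard (by
    refine Nat.dvd_antisymm (Monoid.exponent_dvd_of_forall_pow_eq_one fun c => ?_) ?_
    · rw [pow_two]
      exact Subtype.ext (Subtype.ext (hsq _ ((hmemQ _).1 c.2)))
    · have hmem : (⟨t, F.mem.2⟩ : T) ∈ (Q : Subgroup T) := (hmemQ _).2 F.mem
      have h := Monoid.order_dvd_exponent (⟨⟨t, F.mem.2⟩, hmem⟩ : (Q : Subgroup T))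
      rwa [orderOf_mk, orderOf_mk, F.inv] at h)
  have hdih : Nonempty ((Q : Subgroup T) ≃* DihedralGroup 2) := IsKleinFour.nonempty_mulEquiv
  set tt : T := ⟨t, F.mem.2⟩ with htt
  have htt2 : orderOf tt = 2 := by rw [orderOf_mk, F.inv]
  have httQ : tt ∈ (Q : Subgroup T) := (hmemQ _).2 F.mem
  set D := centralizer ({tt} : Set T) with hD
  have hQD : (Q : Subgroup T) ≤ D := fun s hs => mem_centralizer_singleton_iff.2
    (Subtype.ext (C.fourData_commute F ((hmemQ _).1 hs) F.mem))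
  set P : Sylow 2 D := Q.subtype hQD with hP
  have hcenD : ∀ d : D, ((d : T) : X) ∈ cen t := fun d =>
    mem_cen.2 (congrArg Subtype.val (mem_centralizer_singleton_iff.1 d.2))
  have hPcent : normalizer ((P : Subgroup D) : Set D) ≤ centralizer ((P : Subgroup D) : Set D) := by
    intro n hn
    have hmemP : ∀ d : D, d ∈ (P : Subgroup D) ↔ ((d : T) : X) ∈ S0 := fun d => by
      rw [hP, Sylow.coe_subtype, mem_subgroupOf, hmemQ]
    have hnn : ((n : T) : X) ∈ normalizer (S0 : Set X) := mem_normalizer_of_conj fun c hc => by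
      have hcD : (⟨c, hc.2⟩ : T) ∈ D := hQD ((hmemQ _).2 hc)
      exact (hmemP _).1 (conj_mem_of_mem_normalizer (a := (⟨⟨c, hc.2⟩, hcD⟩ : D)) hn ((hmemP _).2 hc))
    have h' := C.fourData_normalizer_fix F (n : T).2 (hcenD n) hnn
    refine mem_centralizer_iff.2 fun c hc => Subtype.ext (Subtype.ext ?_)
    have hcS := (hmemP c).1 hc
    show ((c : T) : X) * _ = _ * ((c : T) : X)
    rcases F.all _ hcS (hsq _ hcS) with e | e | e | e <;> rw [e]
    · simp
    · exact (mem_cen.1 (hcenD n)).symm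
    · exact (mem_cen.1 h').symm
    · exact ((show Commute ((n : T) : X) t from mem_cen.1 (hcenD n)).mul_right
        (show Commute ((n : T) : X) t' from mem_cen.1 h')).eq.symm
  obtain ⟨P', K, hK, hcompl⟩ :=
    Transfer.hasNormalPComplement_of_normalizer_le_centralizer P hPcent
  haveI := hK
  have hP'card : Nat.card (P' : Subgroup D) = 4 := by
    rw [P'.card_eq_multiplicity, ← P.card_eq_multiplicity, hP, Sylow.coe_subtype,
      Nat.card_congr (subgroupOfEquivOfLe hQD).toEquiv, hQcard]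
  have hKodd : Odd (Nat.card K) := by
    rw [← Nat.not_even_iff_odd, even_iff_two_dvd, ← hcompl.index_eq_card]
    exact P'.not_dvd_index
  set Oc := Cfsg.oddCore D with hOc
  have hOeq : ∀ d : D, d ∈ Oc ↔ d ∈ K := by
    intro d
    refine ⟨fun hd => ?_, fun hd => SolvableTwo.le_oddCore hK hKodd hd⟩
    have h1 : orderOf (QuotientGroup.mk' K d) ∣ Nat.card (Oc : Subgroup D) :=
      (orderOf_map_dvd _ d).trans (orderOf_dvd_natCard _ hd)
    have h2 : orderOf (QuotientGroup.mk' K d) ∣ 2 ^ 2 := by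
      have := orderOf_dvd_natCard (QuotientGroup.mk' K d)
      rw [← index_eq_card, hcompl.symm.index_eq_card, hP'card] at this
      exact this
    have ho := Nat.eq_one_of_dvd_coprimes
      (Nat.Coprime.pow_right 2 ((Nat.coprime_two_right).2 SolvableTwo.odd_card_oddCore)) h1 h2
    exact (QuotientGroup.eq_one_iff d).1 (orderOf_eq_one_iff.1 ho)
  set O := Oc.map D.subtype with hO
  have hOmem : ∀ y ∈ O, (y : X) ∈ cen t ∧ Odd (orderOf (y : X)) := by
    rintro _ ⟨d, hd, rfl⟩
    refine ⟨hcenD d, ?_⟩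
    rw [show orderOf ((D.subtype d : T) : X) = orderOf d by simp [orderOf_coe]]
    exact Odd.of_dvd_nat SolvableTwo.odd_card_oddCore (orderOf_dvd_natCard _ hd)
  have hnofix : ∀ u, u ∈ S0 → u ≠ 1 → u ≠ t → ∀ y ∈ O, (y : X) * u = u * y → y = 1 := by
    intro u hu hu1 hut y hy hcomm
    by_contra hy1
    have hy1' : (y : X) ≠ 1 := fun e => hy1 (Subtype.ext e)
    obtain ⟨p, hp, hpd⟩ := Nat.exists_prime_and_dvd (n := orderOf (y : X))
      (fun e => hy1' (orderOf_eq_one_iff.1 e))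
    have hp2 : p ≠ 2 := by
      rintro rfl
      exact Nat.not_even_iff_odd.2 (hOmem y hy).2 (even_iff_two_dvd.2 hpd)
    set w := (y : X) ^ (orderOf (y : X) / p) with hw
    have hwo : orderOf w = p := by
      rw [hw, orderOf_pow_orderOf_div (orderOf_pos _).ne' hpd]
    have hwt : w * t = t * w :=
      ((show Commute (y : X) t from mem_cen.1 (hOmem y hy).1).pow_left _).eq
    have hwu : w * u = u * w := ((show Commute (y : X) u from hcomm).pow_left _).eq
    have huo := orderOf_two_of_mul_self (hsq u hu) hu1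
    have e := (C.nm.nz_eq_cen hp hp2 F.inv (isPGroup_zpowers_prime hwo) (ne_one_of_orderOf hp hwo) hwt).symm.trans
      (C.nm.nz_eq_cen hp hp2 huo (isPGroup_zpowers_prime hwo) (ne_one_of_orderOf hp hwo) hwu)
    rcases F.all u hu (hsq u hu) with h | h | h | h
    · exact hu1 h
    · exact hut h
    · exact F.ne (h ▸ e)
    · exact F.ne_prod (h ▸ e.symm)
  have hinv : ∀ s : T, (s : X) ∈ S0 → (s : X) ≠ 1 → (s : X) ≠ t → ∀ y ∈ O, s * y * s⁻¹ = y⁻¹ := by
    intro s hs hs1 hst
    have hsD : s ∈ D := hQD ((hmemQ _).2 hs)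
    have hss : s * s = 1 := Subtype.ext (hsq _ hs)
    have hnorm : ∀ y ∈ O, s * y * s⁻¹ ∈ O := by
      rintro _ ⟨d, hd, rfl⟩
      refine ⟨⟨s, hsD⟩ * d * ⟨s, hsD⟩⁻¹, ?_, rfl⟩
      exact (SolvableTwo.oddCore_normal).conj_mem d hd _
    let f : O → O := fun y => ⟨(y : T)⁻¹ * (s * y * s⁻¹), mul_mem (inv_mem y.2) (hnorm _ y.2)⟩
    have hf : Function.Injective f := by
      intro a b hab
      have h' : (a : T)⁻¹ * (s * a * s⁻¹) = (b : T)⁻¹ * (s * b * s⁻¹) := congrArg Subtype.val hab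
      have hc : s * ((b : T) * (a : T)⁻¹) * s⁻¹ = (b : T) * (a : T)⁻¹ := by
        calc s * ((b : T) * (a : T)⁻¹) * s⁻¹
            = (b : T) * ((b : T)⁻¹ * (s * b * s⁻¹)) * (s * (a : T) * s⁻¹)⁻¹ := by group
          _ = _ := by rw [← h']; group
      have := hnofix _ hs hs1 hst _ (mul_mem b.2 (inv_mem a.2))
        (congrArg Subtype.val (mul_inv_eq_iff_eq_mul.1 hc)).symm
      exact Subtype.ext (mul_inv_eq_one.1 this).symm
    intro y hy
    obtain ⟨k, hk⟩ := Finite.surjective_of_injective hf ⟨y, hy⟩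
    have hk' : (k : T)⁻¹ * (s * k * s⁻¹) = y := congrArg Subtype.val hk
    rw [← hk']
    calc s * ((k : T)⁻¹ * (s * k * s⁻¹)) * s⁻¹
        = (s * (k : T)⁻¹ * s⁻¹) * ((s * s) * k * (s * s)⁻¹) := by group
      _ = _ := by rw [hss]; group
  have hcentral : ∀ s : T, (s : X) = 1 ∨ (s : X) = t → ∀ y ∈ O, s * y = y * s := by
    rintro s (h | h) y hy <;> refine Subtype.ext ?_ <;>
      show (s : X) * (y : X) = (y : X) * (s : X) <;> rw [h]
    · simp
    · exact (mem_cen.1 (hOmem y hy).1).symm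
  have hab : ∀ a ∈ O, ∀ b ∈ O, a * b = b * a := by
    intro a ha b hb
    have e := hinv ⟨t', F.mem'.2⟩ F.mem' (ne_one_of_orderOf Nat.prime_two F.inv')
      (fun e => F.ne (by rw [show t' = t from e]))
    have h := e _ (mul_mem ha hb)
    rw [show (⟨t', F.mem'.2⟩ : T) * (a * b) * (⟨t', F.mem'.2⟩ : T)⁻¹ =
      (⟨t', F.mem'.2⟩ * a * (⟨t', F.mem'.2⟩ : T)⁻¹) *
        (⟨t', F.mem'.2⟩ * b * (⟨t', F.mem'.2⟩ : T)⁻¹) by group, e a ha, e b hb, ← mul_inv_rev,
      inv_inj] at h
    exact h.symm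
  have hodd1 : ∀ y ∈ O, y⁻¹ = y → y = 1 := by
    intro y hy e
    have h2 : (y : X) ^ 2 = 1 := by
      rw [pow_two]
      have : y * y = 1 := by nth_rewrite 1 [← e]; exact inv_mul_cancel y
      exact congrArg Subtype.val this
    exact Subtype.ext (orderOf_eq_one_iff.1 (Nat.eq_one_of_dvd_coprimes
      ((Nat.coprime_two_right).2 (hOmem y hy).2) (dvd_refl _) (orderOf_dvd_of_pow_eq_one h2)))
  refine Cfsg.Agent.S0508.result Q 2 le_rfl hdih tt htt2 httQ (fun s hs => Subtype.ext
    (C.fourData_commute F ((hmemQ _).1 hs) F.mem)) O rfl ?_ ?_ ?_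
  · intro hne
    have hkey : (Q : Subgroup T) ⊓ centralizer (O : Set T) = zpowers tt := by
      refine le_antisymm ?_ (zpowers_le.2 ⟨httQ, mem_centralizer_iff.2 fun y hy =>
        (hcentral tt (Or.inr rfl) y hy).symm⟩)
      rintro s ⟨hsQ, hsC⟩
      by_contra hno
      apply hne
      refine (eq_bot_iff_forall _).2 fun y hy => ?_
      have h1 : (s : X) ≠ 1 := fun e => hno ((Subtype.ext e : s = 1) ▸ one_mem _)
      have h2 : (s : X) ≠ t := fun e => hno ((Subtype.ext e : s = tt) ▸ mem_zpowers tt)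
      have h3 := hinv s ((hmemQ _).1 hsQ) h1 h2 y hy
      rw [← mem_centralizer_iff.1 hsC y hy, mul_inv_cancel_right] at h3
      exact hodd1 y hy h3.symm
    rw [hkey]
    refine ⟨inferInstance, ?_⟩
    have h := ((zpowers tt).subgroupOf (Q : Subgroup T)).index_mul_card
    rw [Nat.card_congr (subgroupOfEquivOfLe (zpowers_le.2 httQ : zpowers tt ≤ (Q : Subgroup T))).toEquiv] at h
    rw [relIndex]
    rw [Nat.card_zpowers, htt2, hQcard] at h
    omega
  · intro s hs hsc
    refine hinv s ((hmemQ _).1 hs) (fun e => hsc ?_) (fun e => hsc ?_)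
    · exact mem_centralizer_iff.2 fun y hy => (hcentral s (Or.inl e) y hy).symm
    · exact mem_centralizer_iff.2 fun y hy => (hcentral s (Or.inr e) y hy).symm
  · intro Y hY hY1 n hn
    obtain ⟨r, hr, hrd⟩ := Nat.exists_prime_and_dvd (n := Nat.card Y) (fun e => hY1 (card_eq_one.1 e))
    haveI := Fact.mk hr
    let Yr : Subgroup X :=
      { carrier := {c | ∃ y ∈ Y, (y : X) = c ∧ y ^ r = 1}
        one_mem' := ⟨1, one_mem _, rfl, one_pow r⟩
        mul_mem' := by
          rintro _ _ ⟨a, ha, rfl, ha'⟩ ⟨b, hb, rfl, hb'⟩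
          exact ⟨a * b, mul_mem ha hb, rfl, by
            rw [(show Commute a b from hab a (hY ha) b (hY hb)).mul_pow, ha', hb', one_mul]⟩
        inv_mem' := by
          rintro _ ⟨a, ha, rfl, ha'⟩
          exact ⟨a⁻¹, inv_mem ha, rfl, by rw [inv_pow, ha', inv_one]⟩ }
    have hYp : IsPGroup r Yr := by
      rintro ⟨_, y, hy, rfl, hy'⟩
      refine ⟨1, Subtype.ext ?_⟩
      have h1 := congrArg Subtype.val hy'
      simpa using h1
    obtain ⟨⟨y, hy⟩, hy'⟩ := exists_prime_orderOf_dvd_card' r hrd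
    rw [orderOf_mk] at hy'
    have hymem : (y : X) ∈ Yr := ⟨y, hy, rfl, hy' ▸ pow_orderOf_eq_one y⟩
    have hy1 : (y : X) ≠ 1 := ne_one_of_orderOf hr (by rw [orderOf_coe, hy'])
    have hr2 : r ≠ 2 := by
      rintro rfl
      have := (hOmem y (hY hy)).2
      rw [orderOf_coe, hy'] at this
      norm_num at this
    have hYne : Yr ≠ ⊥ := fun e => hy1 (mem_bot.1 (e ▸ hymem))
    have he := C.nm.nz_eq_of_commute hr Nat.prime_two hr2 hYp (isPGroup_zpowers_prime F.inv) hYne
      (zpowers_ne_bot_of_ne (ne_one_of_orderOf Nat.prime_two F.inv))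
      (zpowers_le.2 (mem_centralizer_iff.2 fun c hc => by
        obtain ⟨a, ha, rfl, -⟩ := hc
        exact mem_cen.1 (hOmem a (hY ha)).1))
    have hnN : (n : X) ∈ normalizer (Yr : Set X) := mem_normalizer_of_conj fun c hc => by
      obtain ⟨a, ha, rfl, ha'⟩ := hc
      exact ⟨n * a * n⁻¹, conj_mem_of_mem_normalizer hn ha, rfl, by rw [conj_pow, ha']; group⟩
    rw [he] at hnN
    change (n : X) ∈ nz t at hnN
    rw [nz_eq_cen_of_sq F.inv] at hnN
    exact mem_centralizer_singleton_iff.2 (Subtype.ext (mem_cen.1 hnN))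

end Cfsg.Agent.MaxNormalizer
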